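import Cfsg.Agent.Lib.LengthEight.Six

/-!
Consequences of the image of order six: orders, the three conjugates of `D = T ∩ T'`, and an involution of
the conjugate core outside the core, central in it.
-/

set_option autoImplicit false
set_option linter.unusedSectionVars false
set_option linter.style.haveILetI false

namespace CfsgLib.LengthEight

open Subgroup
open CfsgLib.Fusion (conjSub mem_conjSub conjSub_eq_iff_mem_normalizer conj_mem_conjSub card_conjSub)

variable {G : Type*} [Group G]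

theorem mem_normalizer_of_maps [Finite G] {Y : Subgroup G} {g : G} (h : ∀ y ∈ Y, g * y * g⁻¹ ∈ Y) :
    g ∈ normalizer (Y : Set G) := by
  refine conjSub_eq_iff_mem_normalizer.1 (eq_of_le_of_card_ge ?_ (card_conjSub _ _).ge)
  rintro _ ⟨y, hy, rfl⟩
  exact h y hy

theorem conj_mem_of_normalizer {Y : Subgroup G} {g y : G} (hg : g ∈ normalizer (Y : Set G)) (hy : y ∈ Y) :
    g * y * g⁻¹ ∈ Y := (mem_normalizer_iff.1 hg y).1 hy

theorem conj_inv_mem_of_normalizer {Y : Subgroup G} {g y : G} (hg : g ∈ normalizer (Y : Set G))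
    (hy : y ∈ Y) : g⁻¹ * y * g ∈ Y := by
  simpa using (mem_normalizer_iff.1 (inv_mem hg) y).1 hy

theorem mul_mem_of_relIndex_two {H K : Subgroup G} (h : H.relIndex K = 2) {a b : G} (ha : a ∈ K)
    (hb : b ∈ K) (haH : a ∉ H) (hbH : b ∉ H) : a * b ∈ H :=
  (mul_mem_iff_of_index_two (H := H.subgroupOf K) h (a := ⟨a, ha⟩) (b := ⟨b, hb⟩)).2
    (iff_of_false haH hbH)

theorem relIndex_eq_two [Finite G] {H K L : Subgroup G} (hKL : K ≤ L) (h : H.relIndex L = 2)
    (hne : ¬ K ≤ H) : H.relIndex K = 2 := by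
  have h1 := relIndex_le_of_le_right (H := H) hKL (by omega)
  have h2 : H.relIndex K ≠ 0 := Subgroup.index_ne_zero_of_finite (H := H.subgroupOf K)
  have h3 : H.relIndex K ≠ 1 := fun e => hne (relIndex_eq_one.1 e)
  omega

theorem card_eq_two_mul [Finite G] {H K : Subgroup G} (h : H.relIndex K = 2) :
    Nat.card K = 2 * Nat.card ↥(H ⊓ K) := by
  have h1 := Subgroup.card_mul_index (H.subgroupOf K)
  rw [← inf_subgroupOf_right, Nat.card_congr (subgroupOfEquivOfLe (inf_le_right : H ⊓ K ≤ K)).toEquiv,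
    inf_subgroupOf_right] at h1
  rw [← h1, show (H.subgroupOf K).index = 2 from h, mul_comm]

variable [Finite G] [IsSimpleGroup G] {S : Sylow 2 G} {X : Subgroup G}
variable (h : Ctx S) (hX : Good S X)

include hX

theorem Good.normal_core {x t : G} (hx : x ∈ X) (ht : t ∈ core X) : x * t * x⁻¹ ∈ core X :=
  conj_mem_of_normalizer (le_normalizer_core X hx) ht

theorem Good.normal_omegaZ {x v : G} (hx : x ∈ X) (hv : v ∈ omegaZ (core X)) :
    x * v * x⁻¹ ∈ omegaZ (core X) :=
  conj_mem_of_normalizer (hX.le_normalizer_omegaZ hx) hv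

include h

theorem Good.card_R : Nat.card ↥((S : Subgroup G) ⊓ X) = 2 * Nat.card (core X) := by
  haveI : Fact (Nat.Prime 2) := ⟨Nat.prime_two⟩
  obtain ⟨P, hP⟩ := hX.exists_image_sylow h
  rw [hX.card_image h hP, mul_comm]
  congr 1
  have h1 := (P : Subgroup ↥hX.act.range).card_mul_index
  rw [hX.card_act h] at h1
  have h2 := P.not_dvd_index
  obtain ⟨r, hr⟩ := P.2.exists_card_eq
  rw [hr] at h1 ⊢
  rcases r with _ | _ | r
  · exact absurd (show 2 ∣ _ from ⟨3, by simpa using h1⟩) h2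
  · rfl
  · have h3 : 2 ^ (r + 2) ∣ 6 := Dvd.intro _ h1
    exact absurd ((pow_dvd_pow 2 (show 2 ≤ r + 2 by omega)).trans h3) (by norm_num)

theorem Good.card_X : Nat.card X = 6 * Nat.card (core X) := by
  rw [hX.card_eq h, hX.card_act h, mul_comm]

theorem Good.le_five {k : ℕ} (hk : Nat.card (core X) = 2 ^ k) : k ≤ 5 := by
  haveI : Fact (Nat.Prime 2) := ⟨Nat.prime_two⟩
  by_contra hlt
  obtain ⟨a, ha⟩ := exists_prime_orderOf_dvd_card' (G := ↥hX.act.range) 2 (by rw [hX.card_act h]; norm_num)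
  have hne : zpowers a < ⊤ := lt_top_iff_ne_top.2 fun e => by
    have h1 := Nat.card_zpowers a
    rw [e, card_top, hX.card_act h, ha] at h1
    omega
  exact hX.not_long h ((hX.long_range h hk (Long.step hne (long_of_card (k := 1)
    (by rw [Nat.card_zpowers, ha, pow_one])))).of_le (by omega))

theorem Good.exists_three : ∃ w ∈ X, orderOf w = 3 := by
  haveI : Fact (Nat.Prime 3) := ⟨Nat.prime_three⟩
  obtain ⟨w, hw⟩ := exists_prime_orderOf_dvd_card' (G := ↥X) 3
    (by rw [hX.card_X h]; exact ⟨2 * Nat.card (core X), by ring⟩)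
  exact ⟨w, w.2, (orderOf_coe w).trans hw⟩

omit hX h

theorem not_mem_of_three {P : Subgroup G} (hP : IsPGroup 2 P) {w : G} (hw : orderOf w = 3) : w ∉ P := by
  intro hwP
  obtain ⟨n, hn⟩ := hP ⟨w, hwP⟩
  have h1 : orderOf w ∣ 2 ^ n := orderOf_dvd_of_pow_eq_one (congrArg Subtype.val hn)
  rw [hw] at h1
  exact absurd (Nat.prime_three.dvd_of_dvd_pow h1) (by norm_num)

theorem pow_three_eq {w : G} (hw : orderOf w = 3) : w * w * w = 1 := by
  rw [← pow_orderOf_eq_one w, hw]; simp [pow_succ]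

include h

theorem Ctx.not_commute_central {z w : G} (hz : z ∈ (S : Subgroup G)) (h1 : z ≠ 1)
    (hzc : z ∈ centralizer ((S : Subgroup G) : Set G)) (hw : orderOf w = 3) : w * z ≠ z * w := fun e =>
  not_mem_of_three S.2 hw (h.centralizer_central hz h1 hzc ▸ mem_centralizer_singleton_iff.2 e)

include hX

theorem Good.le_of_generators {K : Subgroup G} (hR : (S : Subgroup G) ⊓ X ≤ K) {w : G} (hwX : w ∈ X)
    (hw : orderOf w = 3) (hwK : w ∈ K) : X ≤ K := by
  have h1 : (S : Subgroup G) ⊓ X ≤ X ⊓ K := le_inf inf_le_right hR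
  obtain ⟨m, hm⟩ := card_dvd_of_le h1
  obtain ⟨q, hq⟩ := card_dvd_of_le (inf_le_left : X ⊓ K ≤ X)
  rw [hm, hX.card_X h, hX.card_R h, show 6 * Nat.card (core X) = 2 * Nat.card (core X) * 3 by ring,
    mul_assoc (2 * Nat.card (core X))] at hq
  have hq' : 3 = m * q := Nat.eq_of_mul_eq_mul_left (by have := Nat.card_pos (α := core X); omega) hq
  rcases (Nat.dvd_prime Nat.prime_three).1 (Dvd.intro q hq'.symm) with rfl | rfl
  · refine absurd ((eq_of_le_of_card_ge h1 (by rw [hm, mul_one])).ge (mem_inf.2 ⟨hwX, hwK⟩)) ?_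
    exact not_mem_of_three hX.isPGroup_R hw
  · refine fun x hx => ((eq_of_le_of_card_ge (inf_le_left : X ⊓ K ≤ X) ?_).ge hx).2
    rw [hm, hX.card_X h, hX.card_R h]; ring_nf; rfl

theorem Good.core_mem_three {w : G} (hwX : w ∈ X) (hw : orderOf w = 3) :
    w ∉ core X ∧ orderOf (hX.act.rangeRestrict ⟨w, hwX⟩) = 3 := by
  have hn : w ∉ core X := not_mem_of_three (core_isPGroup X) hw
  refine ⟨hn, ?_⟩
  have h1 := orderOf_map_dvd hX.act.rangeRestrict (⟨w, hwX⟩ : ↥X)
  rw [← orderOf_coe (⟨w, hwX⟩ : ↥X), show ((⟨w, hwX⟩ : ↥X) : G) = w from rfl, hw] at h1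
  rcases (Nat.dvd_prime Nat.prime_three).1 h1 with e | e
  · refine absurd ?_ hn
    have h2 : (⟨w, hwX⟩ : ↥X) ∈ hX.act.rangeRestrict.ker := orderOf_eq_one_iff.1 e
    rw [MonoidHom.ker_rangeRestrict, hX.ker_act h] at h2
    exact h2
  · exact e

/-- An element of `R` and an element of order three do not normalise a subgroup with the central
involution that `s` normalises too. -/
theorem Good.not_normalizes {Y : Subgroup G} (hY : IsPGroup 2 Y) {z : G} (hz : z ∈ (S : Subgroup G))
    (hz1 : z ≠ 1) (hzc : z ∈ centralizer ((S : Subgroup G) : Set G)) (hzY : z ∈ Y)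
    (hR : (S : Subgroup G) ⊓ X ≤ normalizer (Y : Set G)) {w : G} (hwX : w ∈ X) (hw : orderOf w = 3)
    (hwY : w ∈ normalizer (Y : Set G)) {s : G} (hsX : s ∉ X) : s ∉ normalizer (Y : Set G) := fun hs =>
  hsX (hX.max.normalizer_eq hY (h.isPGroup_centralizer hz hz1 hzc hzY)
    (hX.le_of_generators h hR hwX hw hwY) ▸ hs)

/-- Facts on `T`, its conjugate and their intersection. -/
theorem Good.conjugate_facts {s : G} (hsS : s ∈ (S : Subgroup G)) (hsX : s ∉ X)
    (hsN : s ∈ normalizer (((S : Subgroup G) ⊓ X : Subgroup G) : Set G))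
    (hs2 : s * s ∈ (S : Subgroup G) ⊓ X) :
    conjSub s (core X) ≤ (S : Subgroup G) ⊓ X ∧
    (∀ t ∈ conjSub s (core X), s * t * s⁻¹ ∈ core X) ∧
    (∀ r ∈ (S : Subgroup G) ⊓ X, r ∈ normalizer ((conjSub s (core X) : Subgroup G) : Set G)) ∧
    (conjSub s (core X)).relIndex (core X) = 2 ∧
    s ∈ normalizer ((core X ⊓ conjSub s (core X) : Subgroup G) : Set G) ∧
    ∀ w ∈ X, orderOf w = 3 → w ∉ normalizer ((core X ⊓ conjSub s (core X) : Subgroup G) : Set G) := by
  set R := (S : Subgroup G) ⊓ X with hR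
  set T := core X with hT
  set T' := conjSub s T with hT'
  have hTR : T ≤ R := hX.core_le_R
  have hT'R : T' ≤ R := by
    rintro _ ⟨t, ht, rfl⟩
    exact conj_mem_of_normalizer hsN (hTR ht)
  have hback : ∀ t ∈ T', s * t * s⁻¹ ∈ T := by
    rintro _ ⟨t, ht, rfl⟩
    show s * (s * t * s⁻¹) * s⁻¹ ∈ T
    rw [show s * (s * t * s⁻¹) * s⁻¹ = s * s * t * (s * s)⁻¹ by group]
    exact hX.normal_core (mem_inf.1 hs2).2 ht
  have hRn : ∀ r ∈ R, r ∈ normalizer (T' : Set G) := fun r hr => mem_normalizer_of_maps (by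
    rintro _ ⟨t, ht, rfl⟩
    refine ⟨(s⁻¹ * r * s) * t * (s⁻¹ * r * s)⁻¹,
      hX.normal_core (mem_inf.1 (conj_inv_mem_of_normalizer hsN hr)).2 ht, ?_⟩
    show s * ((s⁻¹ * r * s) * t * (s⁻¹ * r * s)⁻¹) * s⁻¹ = r * (s * t * s⁻¹) * r⁻¹
    group)
  have hne : T' ≠ T := fun e => hsX (hX.normalizer_core ▸ conjSub_eq_iff_mem_normalizer.1 e)
  have hidx : T'.relIndex R = 2 := by
    have h1 := Subgroup.card_mul_index (T'.subgroupOf R)
    rw [Nat.card_congr (subgroupOfEquivOfLe hT'R).toEquiv, hT', card_conjSub, hX.card_R h] at h1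
    exact Nat.eq_of_mul_eq_mul_left (Nat.card_pos (α := T)) (h1.trans (mul_comm _ _))
  have hidx' : T'.relIndex T = 2 :=
    relIndex_eq_two hTR hidx fun hle => hne (eq_of_le_of_card_ge hle (by rw [hT', card_conjSub])).symm
  have hsD : s ∈ normalizer ((T ⊓ T' : Subgroup G) : Set G) := mem_normalizer_of_maps fun t ht =>
    mem_inf.2 ⟨hback t (mem_inf.1 ht).2, conj_mem_conjSub (mem_inf.1 ht).1⟩
  refine ⟨hT'R, hback, hRn, hidx', hsD, fun w hwX hw hwD => ?_⟩
  obtain ⟨z, hz, hz2, hzc⟩ := h.exists_central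
  have hzT := hX.central_mem hz hzc
  have hzT' : z ∈ T' := ⟨z, hzT, show s * z * s⁻¹ = z by
    rw [mem_centralizer_iff.1 hzc s hsS, mul_inv_cancel_right]⟩
  refine hX.not_normalizes h ((core_isPGroup X).to_le inf_le_left) hz
    (CfsgLib.Invol.ne_one_of_orderOf_two hz2) hzc (mem_inf.2 ⟨hzT, hzT'⟩)
    (fun r hr => mem_normalizer_of_maps fun t ht => mem_inf.2
      ⟨hX.normal_core (mem_inf.1 hr).2 (mem_inf.1 ht).1, conj_mem_of_normalizer (hRn r hr) (mem_inf.1 ht).2⟩)
    hwX hw hwD hsX hsD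

/-- The involutions of the centre of the core are not all moved into the core by `s`. -/
theorem Good.exists_conj_notMem {s : G} (hsS : s ∈ (S : Subgroup G)) (hsX : s ∉ X)
    (hsN : s ∈ normalizer (((S : Subgroup G) ⊓ X : Subgroup G) : Set G))
    (hs2 : s * s ∈ (S : Subgroup G) ⊓ X) :
    ∃ v ∈ omegaZ (core X), s * v * s⁻¹ ∉ core X := by
  haveI : Fact (Nat.Prime 2) := ⟨Nat.prime_two⟩
  by_contra hno
  push Not at hno
  obtain ⟨hT'R, hback, hRn, hidx, hsD, hwD⟩ := hX.conjugate_facts h hsS hsX hsN hs2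
  obtain ⟨z, hz, hz2, hzc⟩ := h.exists_central
  have hz1 := CfsgLib.Invol.ne_one_of_orderOf_two hz2
  have hzV := hX.central_mem_omegaZ hz hzc (CfsgLib.Invol.mul_self_of_orderOf_two hz2)
  have hzs : s * z * s⁻¹ = z := by rw [mem_centralizer_iff.1 hzc s hsS, mul_inv_cancel_right]
  obtain ⟨w, hwX, hw⟩ := hX.exists_three h
  have hw3 := pow_three_eq hw
  set T := core X with hT
  set T' := conjSub s T with hT'
  set V := omegaZ T with hV
  set D := T ⊓ T' with hDdef
  have hVT : V ≤ T := fun v hv => hv.1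
  have hVD : V ≤ D := fun v hv => by
    refine mem_inf.2 ⟨hVT hv, mem_conjSub.2 ?_⟩
    have h1 := conj_inv_mem_of_normalizer (le_normalizer_core X (mem_inf.1 hs2).2) (hno v hv)
    rwa [show (s * s)⁻¹ * (s * v * s⁻¹) * (s * s) = s⁻¹ * v * s by group] at h1
  -- some conjugate lies outside
  obtain ⟨v0, hv0, hyV⟩ : ∃ v ∈ V, s * v * s⁻¹ ∉ V := by
    by_contra hall
    push Not at hall
    exact hX.not_normalizes h ((core_isPGroup X).to_le hVT) hz hz1 hzc hzV
      (inf_le_right.trans hX.le_normalizer_omegaZ) hwX hw (hX.le_normalizer_omegaZ hwX) hsX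
      (mem_normalizer_of_maps hall)
  set y := s * v0 * s⁻¹ with hy
  have hyD : y ∈ D := mem_inf.2 ⟨hno v0 hv0, conj_mem_conjSub (hVT hv0)⟩
  have hycen : ∀ t ∈ T', y * t = t * y := by
    rintro _ ⟨t, ht, rfl⟩
    show s * v0 * s⁻¹ * (s * t * s⁻¹) = s * t * s⁻¹ * (s * v0 * s⁻¹)
    rw [show s * v0 * s⁻¹ * (s * t * s⁻¹) = s * (v0 * t) * s⁻¹ by group, omegaZ_comm hv0 ht]; group
  have hyy : y * y = 1 := by
    rw [hy, show s * v0 * s⁻¹ * (s * v0 * s⁻¹) = s * (v0 * v0) * s⁻¹ by group, (mem_omegaZ.1 hv0).2.2]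
    group
  have hD2 : T'.relIndex T = 2 := hidx
  have hDT : D.relIndex T = 2 := by rw [hDdef, inf_relIndex_left]; exact hidx
  -- conjugates of `D`
  have hne : ∀ g ∈ X, orderOf g = 3 → conjSub g D ≠ D := fun g hg hg3 e =>
    hwD g hg hg3 (conjSub_eq_iff_mem_normalizer.1 e)
  have hDg : ∀ g ∈ X, conjSub g D ≤ T := fun g hg => by
    rintro _ ⟨t, ht, rfl⟩
    exact hX.normal_core hg (mem_inf.1 ht).1
  have hout : ∀ g ∈ X, orderOf g = 3 → ∃ e ∈ conjSub g D, e ∉ D := fun g hg hg3 => by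
    by_contra hall
    push Not at hall
    exact hne g hg hg3 (eq_of_le_of_card_ge hall (card_conjSub g D).ge)
  have hw2 : orderOf (w * w) = 3 := by
    have h1 := Nat.Coprime.orderOf_pow (y := w) (m := 2) (by rw [hw]; norm_num)
    rwa [sq, hw] at h1
  have hcent : ∀ t ∈ T, ∀ g ∈ X, orderOf g = 3 → (∀ d ∈ D, t * d = d * t) →
      (∀ d ∈ conjSub g D, t * d = d * t) → t ∈ centralizer (T : Set G) := by
    intro t ht g hg hg3 h1 h2
    obtain ⟨e, heg, heD⟩ := hout g hg hg3
    refine mem_centralizer_iff.2 fun x hx => ?_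
    by_cases hxD : x ∈ D
    · exact (h1 x hxD).symm
    · have h3 := h1 _ (mul_mem_of_relIndex_two hDT hx (hDg g hg heg) hxD heD)
      have h4 : Commute t e := h2 e heg
      have h5 := (Commute.mul_right h3 h4.inv_right)
      rw [mul_inv_cancel_right] at h5
      exact h5.eq.symm
  have hDV : V.relIndex D ≠ 1 := fun e => hyV (relIndex_eq_one.1 e hyD)
  by_cases hA : V.relIndex D = 2
  · -- `D` is elementary
    have hdec : ∀ d ∈ D, d ∈ V ∨ d * y ∈ V := fun d hd =>
      or_iff_not_imp_left.2 fun hdV => mul_mem_of_relIndex_two hA hd hyD hdV hyV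
    have hDel : ∀ d ∈ D, d * d = 1 := by
      intro d hd
      rcases hdec d hd with r | r
      · exact (mem_omegaZ.1 r).2.2
      · have h1 : (d * y) * y = y * (d * y) := omegaZ_comm r (mem_inf.1 hyD).1
        have e : d = d * y * y := by rw [mul_assoc, hyy, mul_one]
        rw [e, show d * y * y * (d * y * y) = d * y * (y * (d * y)) * y by group, ← h1,
          show d * y * (d * y * y) * y = (d * y * (d * y)) * (y * y) by group, (mem_omegaZ.1 r).2.2,
          hyy, mul_one]
    have hDcomm : ∀ a ∈ D, ∀ b ∈ D, a * b = b * a := fun a ha b hb => congrArg Subtype.val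
      (comm_of_exp_two (V := ↥D) (fun v => Subtype.ext (hDel v v.2)) ⟨a, ha⟩ ⟨b, hb⟩)
    have hmeet : ∀ g ∈ X, orderOf g = 3 → ∀ t ∈ D, t ∈ conjSub g D → t ∈ V := by
      intro g hg hg3 t htD htg
      refine ⟨(mem_inf.1 htD).1, hcent t (mem_inf.1 htD).1 g hg hg3 (hDcomm t htD) ?_, hDel t htD⟩
      rintro _ ⟨d, hd, rfl⟩
      obtain ⟨t', ht', rfl⟩ := htg
      show g * t' * g⁻¹ * (g * d * g⁻¹) = g * d * g⁻¹ * (g * t' * g⁻¹)
      rw [show g * t' * g⁻¹ * (g * d * g⁻¹) = g * (t' * d) * g⁻¹ by group, hDcomm t' ht' d hd]; group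
    obtain ⟨e, ⟨d, hd, hde⟩, heD⟩ := hout (w * w) (mul_mem hwX hwX) hw2
    have heV : e ∉ V := fun r => heD (hVD r)
    have hde' : w * w * d * (w * w)⁻¹ = e := hde
    have heT : e ∈ T := hDg _ (mul_mem hwX hwX) ⟨d, hd, hde⟩
    have hew : e ∉ conjSub w D := by
      rintro ⟨d', hd', hd''⟩
      have hd''' : w * d' * w⁻¹ = e := hd''
      have h1 : d' ∈ conjSub w D := ⟨d, hd, show w * d * w⁻¹ = d' by
        calc w * d * w⁻¹ = w⁻¹ * (w * w * d * (w * w)⁻¹) * w := by group
          _ = d' := by rw [hde', ← hd''']; group⟩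
      exact heV (hd''' ▸ hX.normal_omegaZ hwX (hmeet w hwX hw d' hd' h1))
    have hTel : ∀ t ∈ T, t * t = 1 := by
      intro t ht
      by_cases htD : t ∈ D
      · exact hDel t htD
      by_cases htw : t ∈ conjSub w D
      · obtain ⟨d', hd', rfl⟩ := htw
        show w * d' * w⁻¹ * (w * d' * w⁻¹) = 1
        rw [show w * d' * w⁻¹ * (w * d' * w⁻¹) = w * (d' * d') * w⁻¹ by group, hDel d' hd']; group
      have hDwT : (conjSub w D).relIndex T = 2 := by
        have h1 := Subgroup.card_mul_index ((conjSub w D).subgroupOf T)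
        rw [Nat.card_congr (subgroupOfEquivOfLe (hDg w hwX)).toEquiv, card_conjSub] at h1
        have h2 := Subgroup.card_mul_index (D.subgroupOf T)
        rw [Nat.card_congr (subgroupOfEquivOfLe (inf_le_left : D ≤ T)).toEquiv,
          show (D.subgroupOf T).index = 2 from hDT] at h2
        exact Nat.eq_of_mul_eq_mul_left Nat.card_pos (h1.trans h2.symm)
      have h3 : t * e ∈ V := hmeet w hwX hw _ (mul_mem_of_relIndex_two hDT ht heT htD heD)
        (mul_mem_of_relIndex_two hDwT ht heT htw hew)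
      have h4 : t ∈ conjSub (w * w) D := by
        obtain ⟨v', hv', hv''⟩ : ∃ v' ∈ D, w * w * v' * (w * w)⁻¹ = t * e :=
          ⟨_, hVD (hX.normal_omegaZ (inv_mem (mul_mem hwX hwX)) h3), by group⟩
        refine ⟨v' * d⁻¹, mul_mem hv' (inv_mem hd), ?_⟩
        show w * w * (v' * d⁻¹) * (w * w)⁻¹ = t
        calc w * w * (v' * d⁻¹) * (w * w)⁻¹
            = (w * w * v' * (w * w)⁻¹) * (w * w * d * (w * w)⁻¹)⁻¹ := by group
          _ = t := by rw [hv'', hde', mul_inv_cancel_right]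
      obtain ⟨d', hd', rfl⟩ := h4
      show w * w * d' * (w * w)⁻¹ * (w * w * d' * (w * w)⁻¹) = 1
      rw [show w * w * d' * (w * w)⁻¹ * (w * w * d' * (w * w)⁻¹) = w * w * (d' * d') * (w * w)⁻¹ by group,
        hDel d' hd']; group
    have hTV : T ≤ V := fun t ht => ⟨ht, mem_centralizer_iff.2 fun x hx => congrArg Subtype.val
      (comm_of_exp_two (V := ↥T) (fun v => Subtype.ext (hTel v v.2)) ⟨x, hx⟩ ⟨t, ht⟩), hTel t ht⟩
    exact hyV (hTV (mem_inf.1 hyD).1)
  · -- the case `|T| = 32`, `|V| = 4`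
    obtain ⟨k, hk⟩ := hX.core_pow
    obtain ⟨j, hj⟩ := ((core_isPGroup X).to_le hVT).exists_card_eq
    have hk5 := hX.le_five h hk
    have hcD : Nat.card T = 2 * Nat.card D := by
      rw [card_eq_two_mul hDT, inf_eq_left.2 (inf_le_left : D ≤ T)]
    have hzw : w * z * w⁻¹ ≠ z := fun e =>
      h.not_commute_central hz hz1 hzc hw (mul_inv_eq_iff_eq_mul.1 e)
    have hzwV : w * z * w⁻¹ ∈ V := hX.normal_omegaZ hwX hzV
    have hj2 : 2 ≤ j := by
      have hsub : ({1, z, w * z * w⁻¹} : Set G) ⊆ (V : Set G) := by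
        rintro x (rfl | rfl | rfl)
        exacts [one_mem V, hzV, hzwV]
      have h1 := Set.ncard_le_ncard hsub (Set.toFinite _)
      rw [Set.ncard_insert_of_notMem (by simp [Ne.symm hz1, eq_comm, conj_eq_one_iff, hz1]),
        Set.ncard_pair (Ne.symm hzw)] at h1
      change _ ≤ Nat.card V at h1
      rw [hj] at h1
      rcases j with _ | _ | j <;> simp_all
    have hjd : Nat.card D = 2 ^ j * V.relIndex D := by
      have h1 := Subgroup.card_mul_index (V.subgroupOf D)
      rw [Nat.card_congr (subgroupOfEquivOfLe hVD).toEquiv, hj] at h1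
      exact h1.symm
    obtain ⟨i, hi⟩ := ((core_isPGroup X).to_le (inf_le_left : D ≤ T)).exists_card_eq
    have hik : i + 1 = k := Nat.pow_right_injective le_rfl
      (show 2 ^ (i + 1) = 2 ^ k by rw [pow_succ, ← hi, ← hk, hcD, mul_comm])
    have hij : j + 2 ≤ i := by
      by_contra hlt
      rw [hi] at hjd
      have h0 : V.relIndex D ≠ 0 := Subgroup.index_ne_zero_of_finite (H := V.subgroupOf D)
      have h1 : 2 ^ i ≤ 2 ^ j * 2 := by rw [← pow_succ]; exact Nat.pow_le_pow_right (by norm_num) (by omega)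
      have h2 : 2 ^ j * 3 ≤ 2 ^ i := hjd ▸ Nat.mul_le_mul le_rfl (by omega)
      have := Nat.two_pow_pos j
      omega
    have hj' : j = 2 := by omega
    subst hj'
    have hD16 : Nat.card D = 16 := by rw [hi, show i = 4 by omega]; norm_num
    set V' := conjSub s V with hV'
    have hV'c : Nat.card V' = 4 := by rw [hV', card_conjSub, hj]; norm_num
    have hzV' : z ∈ V' := ⟨z, hzV, hzs⟩
    have hyV' : y ∈ V' := conj_mem_conjSub hv0
    have hyz : y ≠ z := fun e => hyV (e ▸ hzV)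
    have hy1 : y ≠ 1 := fun e => hyV (e ▸ one_mem V)
    have hzy1 : z * y ≠ 1 := fun e => hyz (by
      rw [mul_eq_one_iff_eq_inv.1 e, inv_eq_of_mul_eq_one_right hyy])
    have hVcases : ∀ x ∈ V', x = 1 ∨ x = z ∨ x = y ∨ x = z * y := by
      intro x hx
      by_contra hno'
      push Not at hno'
      have hsub : ({x, 1, z, y, z * y} : Set G) ⊆ (V' : Set G) := by
        rintro a (rfl | rfl | rfl | rfl | rfl)
        exacts [hx, one_mem V', hzV', hyV', mul_mem hzV' hyV']
      have h1 := Set.ncard_le_ncard hsub (Set.toFinite _)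
      rw [Set.ncard_insert_of_notMem (by simp [hno'.1, hno'.2.1, hno'.2.2.1, hno'.2.2.2]),
        Set.ncard_insert_of_notMem (by simp [Ne.symm hz1, Ne.symm hy1, Ne.symm hzy1]),
        Set.ncard_insert_of_notMem (by simp [Ne.symm hyz, hy1]),
        Set.ncard_pair (by simp [hz1])] at h1
      change _ ≤ Nat.card V' at h1
      omega
    have hmove : ∀ t ∈ T, t ∉ D → t * y * t⁻¹ = z * y := by
      intro t ht htD
      have hm : t * y * t⁻¹ ∈ V' := by
        refine ⟨(s⁻¹ * t * s) * v0 * (s⁻¹ * t * s)⁻¹, hX.normal_omegaZ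
          (mem_inf.1 (conj_inv_mem_of_normalizer hsN (hX.core_le_R ht))).2 hv0, ?_⟩
        show s * ((s⁻¹ * t * s) * v0 * (s⁻¹ * t * s)⁻¹) * s⁻¹ = t * y * t⁻¹
        rw [hy]; group
      rcases hVcases _ hm with r | r | r | r
      · exact absurd (conj_eq_one_iff.1 r) hy1
      · refine absurd ?_ hyz
        have htz := mem_centralizer_iff.1 (mem_omegaZ.1 hzV).2.1 t ht
        calc y = t⁻¹ * (t * y * t⁻¹) * t := by group
          _ = z := by rw [r, mul_assoc, ← htz, inv_mul_cancel_left]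
      · refine absurd ⟨(mem_inf.1 hyD).1, mem_centralizer_iff.2 fun x hx => ?_, hyy⟩ hyV
        by_cases hxD : x ∈ D
        · exact (hycen x (mem_inf.1 hxD).2).symm
        · have h3 : Commute y (x * t) :=
            hycen _ (mem_inf.1 (mul_mem_of_relIndex_two hDT hx ht hxD htD)).2
          have h4 : Commute y t := (mul_inv_eq_iff_eq_mul.1 r).symm
          have h5 := h3.mul_right h4.inv_right
          rw [mul_inv_cancel_right] at h5
          exact h5.eq.symm
      · exact r
    have hiff : ∀ t ∈ T, t * y = y * t → t ∈ D := fun t ht e => by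
      by_contra htD
      have h1 := hmove t ht htD
      rw [e, mul_inv_cancel_right] at h1
      exact hz1 (mul_eq_right.1 h1.symm)
    set y1 := w * y * w⁻¹ with hy1def
    have hy1T : y1 ∈ T := hX.normal_core hwX (mem_inf.1 hyD).1
    by_cases hy1D : y1 ∈ D
    · set E := D ⊓ conjSub w D with hE
      have h01 : Commute y y1 := hycen y1 (mem_inf.1 hy1D).2
      have h20 : Commute y (w⁻¹ * y * w) := by
        have e : w⁻¹ * (y * y1) * w = w⁻¹ * (y1 * y) * w := by rw [h01.eq]
        have e1 : w⁻¹ * (y * y1) * w = w⁻¹ * y * w * y := by rw [hy1def]; group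
        have e2 : w⁻¹ * (y1 * y) * w = y * (w⁻¹ * y * w) := by rw [hy1def]; group
        exact ((e1.symm.trans e).trans e2).symm
      have hyE : y ∈ E := mem_inf.2 ⟨hyD, mem_conjSub.2 (hiff _
        (conj_inv_mem_of_normalizer (le_normalizer_core X hwX) (mem_inf.1 hyD).1) h20.symm.eq)⟩
      have hy1E : y1 ∈ E := mem_inf.2 ⟨hy1D, conj_mem_conjSub hyD⟩
      have hVE : V ≤ E := fun v hv => mem_inf.2 ⟨hVD hv,
        mem_conjSub.2 (hVD (conj_inv_mem_of_normalizer (hX.le_normalizer_omegaZ hwX) hv))⟩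
      have hEc : Nat.card E ≤ 8 := by
        obtain ⟨m, hm⟩ := card_dvd_of_le (inf_le_left : E ≤ D)
        rw [hD16, ← hE] at hm
        rcases m with _ | _ | m
        · simp at hm
        · simp only [zero_add, mul_one] at hm
          refine absurd ?_ (hne w hwX hw)
          have h1 : E = D := eq_of_le_of_card_ge inf_le_left (show Nat.card D ≤ Nat.card E by omega)
          exact (eq_of_le_of_card_ge (inf_eq_left.1 h1) (card_conjSub w D).le).symm
        · have := Nat.card_pos (α := E)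
          have : Nat.card E * 2 ≤ Nat.card E * (m + 1 + 1) := Nat.mul_le_mul le_rfl (by omega)
          omega
      have hVEi : V.relIndex E = 2 := by
        have h1 := Subgroup.card_mul_index (V.subgroupOf E)
        rw [Nat.card_congr (subgroupOfEquivOfLe hVE).toEquiv, hj] at h1
        have h0 : V.relIndex E ≠ 1 := fun e => hyV (relIndex_eq_one.1 e hyE)
        have h2 : V.relIndex E ≠ 0 := Subgroup.index_ne_zero_of_finite (H := V.subgroupOf E)
        change 2 ^ 2 * V.relIndex E = _ at h1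
        omega
      have hy1V : y1 ∉ V := fun r => hyV (by
        have := conj_inv_mem_of_normalizer (hX.le_normalizer_omegaZ hwX) r
        rwa [hy1def, show w⁻¹ * (w * y * w⁻¹) * w = y by group] at this)
      have hv : y1 * y ∈ V := mul_mem_of_relIndex_two hVEi hy1E hyE hy1V hyV
      obtain ⟨e, ⟨d, hd, hde⟩, heD⟩ := hout w hwX hw
      have hde' : w * d * w⁻¹ = e := hde
      have heT : e ∈ T := hDg w hwX ⟨d, hd, hde⟩
      have h1 : Commute e y1 := by
        have : Commute d y := (hycen d (mem_inf.1 hd).2).symm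
        rw [← hde', hy1def]
        exact this.map (MulAut.conj w).toMonoidHom
      have h2 : Commute e (y1 * y) := (omegaZ_comm hv heT).symm
      have h3 := h1.inv_right.mul_right h2
      rw [inv_mul_cancel_left] at h3
      exact heD (hiff e heT h3.eq)
    · have hyw : w⁻¹ * y * w ∉ D := fun r => hy1D (hiff y1 hy1T (by
        have h1 : Commute (w⁻¹ * y * w) y := (hycen _ (mem_inf.1 r).2).symm
        have h2 := h1.map (MulAut.conj w).toMonoidHom
        simp only [MulEquiv.coe_toMonoidHom, MulAut.conj_apply] at h2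
        rw [show w * (w⁻¹ * y * w) * w⁻¹ = y by group] at h2
        exact h2.symm.eq))
      have e1 := hmove y1 hy1T hy1D
      have e2 := hmove _ (conj_inv_mem_of_normalizer (le_normalizer_core X hwX) (mem_inf.1 hyD).1) hyw
      have e3 : y * y1 * y⁻¹ = w * z * w⁻¹ * y1 := by
        have := congrArg (fun a => w * a * w⁻¹) e2
        rw [hy1def]
        calc y * (w * y * w⁻¹) * y⁻¹ = w * ((w⁻¹ * y * w) * y * (w⁻¹ * y * w)⁻¹) * w⁻¹ := by group
          _ = w * (z * y) * w⁻¹ := this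
          _ = w * z * w⁻¹ * (w * y * w⁻¹) := by group
      refine hzw ?_
      have hzi : z⁻¹ = z := inv_eq_of_mul_eq_one_right (CfsgLib.Invol.mul_self_of_orderOf_two hz2)
      calc w * z * w⁻¹ = y * y1 * y⁻¹ * y1⁻¹ := by rw [e3, mul_inv_cancel_right]
        _ = (y1 * y * y1⁻¹ * y⁻¹)⁻¹ := by group
        _ = z := by rw [e1, mul_inv_cancel_right, hzi]

end CfsgLib.LengthEight
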