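import Cfsg.Agent.Lib.LengthEight.Involution
import Cfsg.Agent.Lib.PGroup.Basic
import Cfsg.Agent.Lib.Fusion.SylowTools
import Cfsg.Agent.S0206

/-!
Focal arguments: every core has order four, and the Sylow 2-subgroup is dihedral.
-/

set_option autoImplicit false
set_option linter.unusedSectionVars false
set_option linter.style.haveILetI false

namespace CfsgLib.LengthEight

open Subgroup
open CfsgLib.Fusion (conjSub mem_conjSub conjSub_eq_iff_mem_normalizer conj_mem_conjSub card_conjSub)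
open CfsgLib.Techniques.Functor (zc Full LocalAt central_local_global inf_commutator_le)

variable {G : Type*} [Group G] [Finite G] [IsSimpleGroup G] {S : Sylow 2 G} {X : Subgroup G}

theorem Ctx.of_sylow (h : Ctx S) (S' : Sylow 2 G) : Ctx S' :=
  haveI : Fact (Nat.Prime 2) := ⟨Nat.prime_two⟩
  ⟨h.not_comm, h.no_nine, by rw [← Nat.card_congr (S.equiv S').toEquiv, h.card_sylow]⟩

theorem IsMaxLoc.exists_sylow_good (hX : IsMaxLoc X) : ∃ S' : Sylow 2 G, Good S' X := by
  haveI : Fact (Nat.Prime 2) := ⟨Nat.prime_two⟩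
  obtain ⟨R⟩ : Nonempty (Sylow 2 ↥X) := inferInstance
  obtain ⟨Q, hQ⟩ := (R.2.map X.subtype).exists_le_sylow
  refine ⟨Q, hX, ?_⟩
  have h1 : ((Q : Subgroup G) ⊓ X).subgroupOf X = (R : Subgroup ↥X) :=
    R.3 ((Q.2.to_le inf_le_left).comap_subtype) fun y hy => ⟨hQ ⟨y, hy, rfl⟩, y.2⟩
  show ¬ 2 ∣ (((Q : Subgroup G) ⊓ X).subgroupOf X).index
  rw [h1]; exact R.not_dvd_index

theorem Good.isPGroup_image (hX : Good S X) {y : G} (hy : y ∈ X) {P : Subgroup G} (hP : IsPGroup 2 P)
    (hyP : y ∈ P) : ∃ n : ℕ, hX.act.rangeRestrict ⟨y, hy⟩ ^ 2 ^ n = 1 := by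
  obtain ⟨n, hn⟩ := hP ⟨y, hyP⟩
  refine ⟨n, ?_⟩
  rw [← map_pow, ← map_one hX.act.rangeRestrict]
  exact congrArg _ (Subtype.ext (by simpa using congrArg Subtype.val hn))

section

variable (h : Ctx S) (hX : Good S X)

include h hX

/-- Commutators of `X` that are 2-elements lie in the core. -/
theorem Good.commutator_mem_core {a n : G} (ha : a ∈ X) (hn : n ∈ X) {P : Subgroup G} (hP : IsPGroup 2 P)
    (hmem : a * n * a⁻¹ * n⁻¹ ∈ P) : a * n * a⁻¹ * n⁻¹ ∈ core X := by
  obtain ⟨w, hwX, hw⟩ := hX.exists_three h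
  set f := hX.act.rangeRestrict
  set b := f ⟨w, hwX⟩
  have hb3 : orderOf b = 3 := (hX.core_mem_three h hwX hw).2
  have hB : (zpowers b).index = 2 := by
    have h1 := (zpowers b).card_mul_index
    rw [Nat.card_zpowers, hb3, hX.card_act h] at h1
    omega
  set y : ↥X := ⟨a, ha⟩ * ⟨n, hn⟩ * ⟨a, ha⟩⁻¹ * ⟨n, hn⟩⁻¹
  have hyB : f y ∈ zpowers b := by
    simp only [y, map_mul, map_inv, mul_mem_iff_of_index_two hB, inv_mem_iff]
    tauto
  obtain ⟨j, hj⟩ := hX.isPGroup_image y.2 hP hmem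
  have h1 : orderOf (f y) ∣ 2 ^ j := orderOf_dvd_of_pow_eq_one hj
  have h2 : orderOf (f y) ∣ 3 := hb3 ▸ Nat.card_zpowers b ▸ Subgroup.orderOf_dvd_natCard _ hyB
  have h3 : y ∈ hX.act.rangeRestrict.ker :=
    orderOf_eq_one_iff.1 (Nat.eq_one_of_dvd_coprimes (Nat.Coprime.pow_left j (by norm_num)) h1 h2)
  rw [MonoidHom.ker_rangeRestrict, hX.ker_act h] at h3
  exact h3

variable {s u w e : G} {W C : Subgroup G} (H : Shape S X s u w e W C)

include H

theorem Shape.no_central_in_C {d : G} (hd : d ∈ C) (hdS : d ∈ (S : Subgroup G))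
    (hdc : d ∈ centralizer ((S : Subgroup G) : Set G)) : d = 1 := by
  by_contra hd1
  exact h.not_commute_central hdS hd1 hdc H.w3 (H.commW d hd).symm

/-- A 2-element whose commutator with an element of order three is in its 2-group lies in the core. -/
theorem Shape.mem_core {P : Subgroup G} (hP : IsPGroup 2 P) {x y : G} (hx : x ∈ X) (hx3 : orderOf x = 3)
    (hy : y ∈ X) (hyP : y ∈ P) (hc : x * y * x⁻¹ * y⁻¹ ∈ P) : y ∈ core X := by
  have hcc := hX.commutator_mem_core h hx hy hP hc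
  set f := hX.act.rangeRestrict with hf
  set b := f ⟨x, hx⟩ with hb
  set a := f ⟨u, (mem_inf.1 H.uR).2⟩ with ha
  set a' := f ⟨y, hy⟩ with ha'
  have hker : ∀ q : ↥X, (q : G) ∈ core X → f q = 1 := fun q hq => by
    rw [← MonoidHom.mem_ker, MonoidHom.ker_rangeRestrict, hX.ker_act h]; exact hq
  have hkerb : ∀ q : ↥X, f q = 1 → (q : G) ∈ core X := fun q hq => by
    rw [← MonoidHom.mem_ker, MonoidHom.ker_rangeRestrict, hX.ker_act h] at hq; exact hq
  have hb3 : orderOf b = 3 := (hX.core_mem_three h hx hx3).2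
  have hB : (zpowers b).index = 2 := by
    have h1 := (zpowers b).card_mul_index
    rw [Nat.card_zpowers, hb3, hX.card_act h] at h1
    omega
  have hcom : Commute b a' := by
    have h1 := hker (⟨x, hx⟩ * ⟨y, hy⟩ * ⟨x, hx⟩⁻¹ * ⟨y, hy⟩⁻¹) hcc
    rw [map_mul, map_mul, map_mul, map_inv, map_inv] at h1
    exact mul_inv_eq_iff_eq_mul.1 (mul_inv_eq_one.1 h1)
  by_cases haB : a' ∈ zpowers b
  · obtain ⟨j, hj⟩ := hX.isPGroup_image hy hP hyP
    have h1 : orderOf a' ∣ 2 ^ j := orderOf_dvd_of_pow_eq_one hj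
    have h2 : orderOf a' ∣ 3 := hb3 ▸ Nat.card_zpowers b ▸ Subgroup.orderOf_dvd_natCard _ haB
    exact hkerb ⟨y, hy⟩
      (orderOf_eq_one_iff.1 (Nat.eq_one_of_dvd_coprimes (Nat.Coprime.pow_left j (by norm_num)) h1 h2))
  exfalso
  have ha2 : a * a = 1 := by
    rw [ha, ← map_mul, show (⟨u, (mem_inf.1 H.uR).2⟩ * ⟨u, (mem_inf.1 H.uR).2⟩ : ↥X) = 1 from Subtype.ext H.uu,
      map_one]
  have ha1 : a ∉ zpowers b := fun hm => by
    have h1 : orderOf a ∣ 3 := hb3 ▸ Nat.card_zpowers b ▸ Subgroup.orderOf_dvd_natCard _ hm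
    have h2 : orderOf a ∣ 2 := orderOf_dvd_of_pow_eq_one (by rw [sq, ha2])
    exact H.uT (hkerb _ (orderOf_eq_one_iff.1 (Nat.eq_one_of_dvd_coprimes (show Nat.Coprime 2 3 by norm_num) h2 h1)))
  obtain ⟨i, hi⟩ := (mul_mem_iff_of_index_two hB).2 (iff_of_false haB ha1)
  have hi' : b ^ i = a' * a := hi
  have hab : Commute b a := by
    have h1 := hcom.inv_right.mul_right (show Commute b (a' * a) from hi' ▸ (Commute.refl b).zpow_right i)
    rwa [inv_mul_cancel_left] at h1
  set bw := f ⟨w, H.wX⟩ with hbw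
  have hbw3 : orderOf bw = 3 := (hX.core_mem_three h H.wX H.w3).2
  have hwB : bw ∈ zpowers b := by
    have h1 : bw * bw ∈ zpowers b := (mul_mem_iff_of_index_two hB).2 Iff.rfl
    have h2 := mul_mem h1 h1
    rwa [show bw * bw * (bw * bw) = bw * (bw * bw * bw) by group, ← sq, ← pow_succ,
      show (2 : ℕ) + 1 = 3 from rfl, ← hbw3, pow_orderOf_eq_one, mul_one] at h2
  obtain ⟨j, hj⟩ := hwB
  have hj' : b ^ j = bw := hj
  have h4 : Commute bw a := hj' ▸ hab.zpow_left j
  have h5 : a * bw * a = bw⁻¹ := by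
    rw [ha, hbw, ← map_mul, ← map_mul, ← map_inv]
    exact congrArg f (Subtype.ext H.inverts)
  rw [← h4.eq, mul_assoc, ha2, mul_one] at h5
  have h6 : orderOf bw ∣ 2 := orderOf_dvd_of_pow_eq_one (by rw [sq]; nth_rw 2 [h5]; rw [mul_inv_cancel])
  rw [hbw3] at h6
  omega

/-- Two-elements of `R` centralising `W` lie in the core. -/
theorem Shape.mem_core_of_centralizes {r : G} (hr : r ∈ (S : Subgroup G) ⊓ X)
    (hW : ∀ v ∈ W, r * v = v * r) : r ∈ core X := by
  refine (H.R_cases h hX hr).elim id fun h1 => absurd (fun v hv => ?_) (H.not_le_T' (H.T'_ne hX))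
  have h2 : Commute v (r * u) := H.W_comm hv h1
  have h3 := (show Commute v r from (hW v hv).symm).inv_right.mul_right h2
  rw [inv_mul_cancel_left] at h3
  rcases H.fixU v hv h3.eq with rfl | rfl
  exacts [one_mem _, H.eT']

theorem Shape.orbit {v : G} (hv : v ∈ W) (hv1 : v ≠ 1) :
    ∃ x ∈ X, x * e * x⁻¹ = v := by
  by_contra hno
  push Not at hno
  have hwW : ∀ y ∈ W, w * y * w⁻¹ ∈ W := fun y hy => conj_mem_of_normalizer (H.normW H.wX) hy
  set e1 := w * e * w⁻¹ with he1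
  set e2 := w * e1 * w⁻¹ with he2
  have hne : ∀ y ∈ W, y ≠ 1 → w * y * w⁻¹ ≠ y := fun y hy hy1 r =>
    hy1 (H.fixW y hy (mul_inv_eq_iff_eq_mul.1 r))
  have he1W : e1 ∈ W := hwW e H.eW
  have he11 : e1 ≠ 1 := fun r => H.e1 (conj_eq_one_iff.1 r)
  have he21 : e2 ≠ 1 := fun r => he11 (conj_eq_one_iff.1 r)
  have he0 : w * e2 * w⁻¹ = e := by
    rw [he2, he1, show w * (w * (w * e * w⁻¹) * w⁻¹) * w⁻¹ = (w * w * w) * e * (w * w * w)⁻¹ by group,
      pow_three_eq H.w3]; group
  have h01 : e ≠ e1 := Ne.symm (hne e H.eW H.e1)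
  have h12 : e1 ≠ e2 := Ne.symm (hne e1 he1W he11)
  have h02 : e ≠ e2 := fun r => hne e2 (hwW e1 he1W) he21 (by rw [he0, r])
  have hv0 : v ≠ e := fun r => hno 1 (one_mem X) (by rw [r]; group)
  have hv01 : v ≠ e1 := fun r => hno w H.wX r.symm
  have hv02 : v ≠ e2 := fun r => hno (w * w) (mul_mem H.wX H.wX) (by rw [r, he2, he1]; group)
  have h1 := Set.ncard_le_ncard (show ({v, 1, e, e1, e2} : Set G) ⊆ (W : Set G) by
    rintro y (rfl | rfl | rfl | rfl | rfl)
    exacts [hv, one_mem W, H.eW, he1W, hwW e1 he1W]) (Set.toFinite _)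
  rw [Set.ncard_insert_of_notMem (by simp [hv1, hv0, hv01, hv02]),
    Set.ncard_insert_of_notMem (by simp [Ne.symm H.e1, Ne.symm he11, Ne.symm he21]),
    Set.ncard_insert_of_notMem (by simp [h01, h02]),
    Set.ncard_pair h12] at h1
  change _ ≤ Nat.card W at h1
  have := H.cardW
  omega

end

/-- A criterion for `S` to lie in a subgroup containing its derived group. -/
theorem Ctx.sylow_le_of_local (h : Ctx S) (M : Subgroup G)
    (hcomm : ∀ a ∈ (S : Subgroup G), ∀ b ∈ (S : Subgroup G), a * b * a⁻¹ * b⁻¹ ∈ M)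
    (hloc : ∀ (S' : Sylow 2 G) (X X0 : Subgroup G) (x t : G), Good S' X → X0 ≤ (S : Subgroup G) →
      zc S ≤ X0 → normalizer (X0 : Set G) ≤ X → x ∈ normalizer (X0 : Set G) → orderOf x = 3 →
      X0 ≤ core X → t ∈ (S : Subgroup G) → t ∈ normalizer (X0 : Set G) → t ∈ core X → t ∈ M) :
    (S : Subgroup G) ≤ M := by
  haveI : Fact (Nat.Prime 2) := ⟨Nat.prime_two⟩
  let Φ : Subgroup G → G → Prop := fun A g => ∀ a ∈ A, a⁻¹ * (g * a * g⁻¹) ∈ M
  have main : ∀ A g, A ≤ (S : Subgroup G) → conjSub g A ≤ (S : Subgroup G) → Φ A g := by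
    refine central_local_global S Φ (fun hBA h' a ha => h' a (hBA ha)) ?_ ?_ ?_ ?_
    · intro A g g' h1 h2 a ha
      have := mul_mem (h1 a ha) (h2 _ (conj_mem_conjSub ha))
      rwa [show a⁻¹ * (g * a * g⁻¹) * ((g * a * g⁻¹)⁻¹ * (g' * (g * a * g⁻¹) * g'⁻¹)) =
        a⁻¹ * (g' * g * a * (g' * g)⁻¹) by group] at this
    · intro A g g' hag h' a ha
      rw [← hag a ha]; exact h' a ha
    · intro g a ha
      rw [mem_bot.1 ha]; simp
    intro X0 hX0 hX00 hf hzX _ B n hn hB hnB a ha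
    set N := normalizer (X0 : Set G) with hN
    have haQ := hB ha
    have hnaQ := hnB (conj_mem_conjSub ha)
    by_cases hNp : IsPGroup 2 N
    · have hNS : N ≤ (S : Subgroup G) := by
        have e := CfsgLib.Fusion.eq_of_le_of_not_dvd (p := 2) (N := N) hNp
          (inf_le_right : (S : Subgroup G) ⊓ N ≤ N) le_rfl hf
        exact e.ge.trans inf_le_left
      have h1 := hcomm _ (inv_mem (mem_inf.1 haQ).1) _ (hNS hn)
      rwa [show a⁻¹ * n * a⁻¹⁻¹ * n⁻¹ = a⁻¹ * (n * a * n⁻¹) by group] at h1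
    obtain ⟨z, hz, hz2, hzc⟩ := h.exists_central
    have hzX0 : z ∈ X0 := hzX (mem_inf.2 ⟨hz, hzc⟩)
    have hz1 := CfsgLib.Invol.ne_one_of_orderOf_two hz2
    have hcen := h.isPGroup_centralizer hz hz1 hzc hzX0
    obtain ⟨X, hX, hNX⟩ := exists_maxLoc (X := N) ⟨X0, S.2.to_le hX0, hcen, rfl, hNp⟩
    obtain ⟨S', hS'⟩ := hX.exists_sylow_good
    have h' := h.of_sylow S'
    obtain ⟨k, hk⟩ := hS'.core_pow
    obtain ⟨x, hx, hx3⟩ : ∃ x ∈ N, orderOf x = 3 := by
      have h3 : 3 ∣ Nat.card N := by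
        by_contra hd
        refine hNp (IsPGroup.iff_card.2 ?_)
        have h1 := card_dvd_of_le hNX
        rw [hS'.card_X h', hk, show 6 * 2 ^ k = 2 ^ (k + 1) * 3 by rw [pow_succ]; ring] at h1
        have h2 : Nat.card N ∣ 2 ^ (k + 1) :=
          ((Nat.prime_three.coprime_iff_not_dvd.2 hd).symm).dvd_of_dvd_mul_right h1
        obtain ⟨i, -, hi⟩ := (Nat.dvd_prime_pow Nat.prime_two).1 h2
        exact ⟨i, hi⟩
      haveI : Fact (Nat.Prime 3) := ⟨Nat.prime_three⟩
      obtain ⟨x, hx⟩ := exists_prime_orderOf_dvd_card' (G := ↥N) 3 h3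
      exact ⟨x, x.2, (orderOf_coe x).trans hx⟩
    obtain ⟨s, u, w, e, W, C, H⟩ := hS'.exists_shape h'
    have hcore : X0 ≤ core X := fun y hy => H.mem_core h' hS' (S.2.to_le hX0) (hNX hx) hx3
      (hNX (le_normalizer hy)) hy (mul_mem (conj_mem_of_normalizer hx hy) (inv_mem hy))
    have hQp : IsPGroup 2 ↥((S : Subgroup G) ⊓ N) := S.2.to_le inf_le_left
    have ht : a⁻¹ * (n * a * n⁻¹) ∈ (S : Subgroup G) ⊓ N := mul_mem (inv_mem haQ) hnaQ
    refine hloc S' X X0 x _ hS' hX0 hzX hNX hx hx3 hcore (mem_inf.1 ht).1 (mem_inf.1 ht).2 ?_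
    have h1 := hS'.commutator_mem_core h' (hNX (inv_mem (mem_inf.1 haQ).2)) (hNX hn) hQp
      (show a⁻¹ * n * a⁻¹⁻¹ * n⁻¹ ∈ _ by
        rw [show a⁻¹ * n * a⁻¹⁻¹ * n⁻¹ = a⁻¹ * (n * a * n⁻¹) by group]; exact ht)
    rwa [show a⁻¹ * n * a⁻¹⁻¹ * n⁻¹ = a⁻¹ * (n * a * n⁻¹) by group] at h1
  have hfoc : (S : Subgroup G) ⊓ ⁅(⊤ : Subgroup G), (⊤ : Subgroup G)⁆ ≤ M := by
    refine inf_commutator_le S.2 le_top (CfsgLib.Techniques.Functor.relIndex_sylow_not_dvd S le_top)
      fun a ha m _ hma => ?_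
    refine main (zpowers a) m (zpowers_le.2 ha) ?_ a (mem_zpowers a)
    show (zpowers a).map (MulAut.conj m).toMonoidHom ≤ _
    rw [MonoidHom.map_zpowers]
    exact zpowers_le.2 hma
  have hperf : ⁅(⊤ : Subgroup G), (⊤ : Subgroup G)⁆ = (⊤ : Subgroup G) := by
    rw [← _root_.commutator_def]
    refine (inferInstance : (_root_.commutator G).Normal).eq_bot_or_eq_top.resolve_left fun hb => ?_
    refine h.not_comm ⟨⟨fun a b => ?_⟩⟩
    refine commutatorElement_eq_one_iff_commute.1 (mem_bot.1 (hb ▸ ?_))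
    rw [_root_.commutator_def]
    exact commutator_mem_commutator (mem_top a) (mem_top b)
  rwa [hperf, inf_top_eq] at hfoc

theorem Ctx.eq_sylow_of_sup (h : Ctx S) {K : Subgroup G} (hK : K ≤ (S : Subgroup G))
    (hsup : (S : Subgroup G) ≤ K ⊔ ⁅(S : Subgroup G), (S : Subgroup G)⁆) : K = (S : Subgroup G) := by
  haveI : Fact (Nat.Prime 2) := ⟨Nat.prime_two⟩
  refine le_antisymm hK (subgroupOf_eq_top.1 (frattini_nongenerating (top_le_iff.1 fun x _ => ?_)))
  have h1 : (x : G) ∈ (K.subgroupOf (S : Subgroup G) ⊔ _root_.commutator ↥(S : Subgroup G)).map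
      (S : Subgroup G).subtype := by
    rw [Subgroup.map_sup, subgroupOf_map_subtype, map_subtype_commutator, inf_eq_left.2 hK]
    exact hsup x.2
  obtain ⟨y, hy, hyx⟩ := h1
  rw [← Subtype.ext hyx]
  exact sup_le_sup_left (CfsgLib.PGroup.commutator_le_frattini S.2) _ hy

/-- A subgroup containing the derived group of `S` and all local commutators contains a local. -/
theorem Ctx.exists_good_self (h : Ctx S) : ∃ X : Subgroup G, Good S X := by
  haveI : Fact (Nat.Prime 2) := ⟨Nat.prime_two⟩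
  by_contra hno
  have hle := h.sylow_le_of_local ⁅(S : Subgroup G), (S : Subgroup G)⁆ (fun a ha b hb => by
    simpa [commutatorElement_def] using commutator_mem_commutator ha hb) (fun S' X X0 x t hg _ _ _ _ _ _ _ _ _ => by
      obtain ⟨g, hgood⟩ := hg.max.exists_good (S := S)
      exact absurd ⟨_, hgood⟩ hno)
  have := h.eq_sylow_of_sup (bot_le : ⊥ ≤ _) (by rw [bot_sup_eq]; exact hle)
  have hc := h.card_sylow
  rw [← this, card_bot] at hc
  norm_num at hc

/-- No maximal local has a core larger than a four-group. -/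
theorem Ctx.card_core (h : Ctx S) {X : Subgroup G} (hX : Good S X) : Nat.card (core X) = 4 := by
  haveI : Fact (Nat.Prime 2) := ⟨Nat.prime_two⟩
  obtain ⟨s, u, w, e, W, C, H⟩ := hX.exists_shape h
  by_contra hne
  have hC : 2 ≤ Nat.card C := by
    have h1 := Nat.card_pos (α := C)
    have h2 := H.cardT
    omega
  obtain ⟨c, hcS, hM, hcc⟩ := H.exists_large h hX hC
  set M := (S : Subgroup G) ⊓ centralizer ({c} : Set G) with hMdef
  have hMi : M.relIndex (S : Subgroup G) = 2 := by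
    have h1 := Subgroup.card_mul_index (M.subgroupOf (S : Subgroup G))
    rw [Nat.card_congr (subgroupOfEquivOfLe (inf_le_left : M ≤ _)).toEquiv, hM, h.card_sylow] at h1
    show (M.subgroupOf (S : Subgroup G)).index = 2
    omega
  have hMc : ∀ m ∈ M, Commute m c := fun m hm => mem_centralizer_singleton_iff.1 (mem_inf.1 hm).2
  have hcM : c ∈ M := mem_inf.2 ⟨hcS, mem_centralizer_singleton_iff.2 rfl⟩
  have hMn : ∀ y ∈ (S : Subgroup G), ∀ m ∈ M, y * m * y⁻¹ ∈ M := fun y hy m hm => by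
    have := mul_mem (commutator_mem_of_index_two (inf_le_left : M ≤ _) hMi hy (mem_inf.1 hm).1) hm
    rwa [inv_mul_cancel_right] at this
  have hci : c⁻¹ = c := inv_eq_of_mul_eq_one_right hcc
  have hzc : ∀ y ∈ (S : Subgroup G), c * y * c⁻¹ * y⁻¹ ∈ zc S := by
    intro y hy
    have e0 : c * y * c⁻¹ * y⁻¹ = c * (y * c * y⁻¹) := by rw [hci]; group
    rw [e0]
    have hc' : y * c * y⁻¹ ∈ M := hMn y hy c hcM
    refine mem_inf.2 ⟨mul_mem hcS (mem_inf.1 hc').1, mem_centralizer_iff.2 fun q hq => ?_⟩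
    have hMd : ∀ m ∈ M, Commute m (c * (y * c * y⁻¹)) := fun m hm => by
      refine (hMc m hm).mul_right ?_
      have h1 : Commute (y⁻¹ * m * y) c := hMc _ (by
        have := hMn y⁻¹ (inv_mem hy) m hm; rwa [inv_inv] at this)
      have h2 := h1.map (MulAut.conj y).toMonoidHom
      simp only [MulEquiv.coe_toMonoidHom, MulAut.conj_apply] at h2
      rwa [show y * (y⁻¹ * m * y) * y⁻¹ = m by group] at h2
    by_cases hyM : y ∈ M
    · rw [(hMc y hyM).eq, mul_inv_cancel_right, hcc, one_mul, mul_one]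
    have hyd : Commute y (c * (y * c * y⁻¹)) := by
      have hy2 : Commute (y * y) c := hMc _ (mul_mem_of_relIndex_two hMi hy hy hyM hyM)
      show y * (c * (y * c * y⁻¹)) = c * (y * c * y⁻¹) * y
      calc y * (c * (y * c * y⁻¹)) = (y * c * y⁻¹) * ((y * y) * c * (y * y)⁻¹) * y := by group
        _ = (y * c * y⁻¹) * c * y := by rw [hy2.eq, mul_inv_cancel_right]
        _ = c * (y * c * y⁻¹) * y := by rw [(hMc _ hc').eq]
    by_cases hqM : q ∈ M
    · exact (hMd q hqM).eq
    · have h1 := (hMd _ (mul_mem_of_relIndex_two hMi hq hy hqM hyM)).mul_left hyd.inv_left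
      rw [mul_inv_cancel_right] at h1
      exact h1.eq
  have hmain : ∀ Y : Subgroup G, Good S Y → c ∈ core Y := by
    intro Y hY
    obtain ⟨s', u', w', e', W', C', H'⟩ := hY.exists_shape h
    have hzT : ∀ d ∈ zc S, d ∈ core Y := fun d hd => hY.central_mem (mem_inf.1 hd).1 (mem_inf.1 hd).2
    have hcR : c ∈ (S : Subgroup G) ⊓ Y := mem_inf.2 ⟨hcS, by
      rw [← hY.normalizer_core]
      refine mem_normalizer_of_maps fun t ht => ?_
      have := mul_mem (hzT _ (hzc t (hY.core_le_S ht))) ht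
      rwa [inv_mul_cancel_right] at this⟩
    by_contra hcT
    have h1 := (hY.conjugate_facts h H'.sS H'.sX H'.sN H'.s2).2.1 c (H'.invol h hY hcR hcc hcT)
    refine hcT ?_
    have h2 : c * s' * c⁻¹ * s'⁻¹ ∈ core Y := hzT _ (hzc s' H'.sS)
    have h3 := mul_mem h2 (inv_mem h1)
    rwa [hci, show c * s' * c * s'⁻¹ * (s' * c * s'⁻¹)⁻¹ = c by group] at h3
  have hle : (S : Subgroup G) ≤ M := by
    refine h.sylow_le_of_local M (fun a ha b hb => commutator_mem_of_index_two inf_le_left hMi ha hb) ?_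
    intro S' Y X0 x t hY hX0 hzX hNY hx hx3 hX0c htS htN htY
    obtain ⟨s', u', w', e', W', C', H'⟩ := hY.exists_shape (h.of_sylow S')
    obtain ⟨hxC, hxW⟩ := H'.three (h.of_sylow S') hY (hNY hx) hx3
    obtain ⟨z, hz, hz2, hzz⟩ := h.exists_central
    have hz1 := CfsgLib.Invol.ne_one_of_orderOf_two hz2
    have hzX0 : z ∈ X0 := hzX (mem_inf.2 ⟨hz, hzz⟩)
    obtain ⟨ω, hω, c0, hc0, hzω⟩ := H'.decomp z (hX0c hzX0)
    have hxn : ∀ v ∈ W', x * v * x⁻¹ ∈ W' := fun v hv => conj_mem_of_normalizer (H'.normW (hNY hx)) hv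
    set q := x * ω * x⁻¹ * ω⁻¹ with hq
    have hqW : q ∈ W' := mul_mem (hxn ω hω) (inv_mem hω)
    have hq1 : q ≠ 1 := fun r => by
      have hω1 := hxW ω hω (mul_inv_eq_iff_eq_mul.1 (mul_inv_eq_one.1 r))
      rw [hω1, one_mul] at hzω
      exact h.not_commute_central hz hz1 hzz hx3 (hzω ▸ hxC c0 hc0)
    have hqX : q ∈ X0 := by
      have h1 := mul_mem (conj_mem_of_normalizer hx hzX0) (inv_mem hzX0)
      rwa [hzω, mul_inv_rev, show x * (ω * c0) * x⁻¹ * (c0⁻¹ * ω⁻¹) =
        (x * ω * x⁻¹) * ((x * c0 * x⁻¹) * c0⁻¹) * ω⁻¹ by group, hxC c0 hc0, mul_inv_cancel_right,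
        mul_inv_cancel, mul_one] at h1
    have hWX0 : W' ≤ X0 := by
      set q' := x * q * x⁻¹ with hq'
      have hq'1 : q' ≠ 1 := fun r => hq1 (conj_eq_one_iff.1 r)
      have hqq : q ≠ q' := fun r => hq1 (hxW q hqW (mul_inv_eq_iff_eq_mul.1 r.symm))
      have hpe : q * q' ≠ 1 := fun r =>
        hqq ((inv_eq_of_mul_eq_one_right (H'.W_sq hqW)).symm.trans (inv_eq_of_mul_eq_one_right r))
      have h4 : ({1, q, q', q * q'} : Set G).ncard = 4 := by
        rw [Set.ncard_insert_of_notMem (by simp [Ne.symm hq1, Ne.symm hq'1, Ne.symm hpe]),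
          Set.ncard_insert_of_notMem (by simp [hqq, hq'1]),
          Set.ncard_pair (by simp [hq1])]
      have heq : ({1, q, q', q * q'} : Set G) = (W' : Set G) :=
        Set.eq_of_subset_of_ncard_le (by
          rintro y (rfl | rfl | rfl | rfl)
          exacts [one_mem W', hqW, hxn q hqW, mul_mem hqW (hxn q hqW)]) (by rw [h4]; exact H'.cardW.le)
          (Set.toFinite _)
      intro y hy
      have hy' : y ∈ ({1, q, q', q * q'} : Set G) := heq ▸ hy
      have hq'X : q' ∈ X0 := conj_mem_of_normalizer hx hqX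
      rcases hy' with rfl | rfl | rfl | rfl
      exacts [one_mem X0, hqX, hq'X, mul_mem hqX hq'X]
    have hcY : c ∈ Y := hNY (mem_normalizer_of_maps fun y hy => by
      have := mul_mem (hzX (hzc y (hX0 hy))) hy
      rwa [inv_mul_cancel_right] at this)
    have hcW : ∀ v ∈ W', c * v = v * c := by
      intro v hv
      by_contra hne'
      have hvS : v ∈ (S : Subgroup G) := hX0 (hWX0 hv)
      set d := c * v * c⁻¹ * v⁻¹ with hd
      have hd1 : d ≠ 1 := fun r => hne' (mul_inv_eq_iff_eq_mul.1 (mul_inv_eq_one.1 r))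
      have hdW : d ∈ W' := mul_mem (conj_mem_of_normalizer (H'.normW hcY) hv) (inv_mem hv)
      obtain ⟨hdS, hdc⟩ := mem_inf.1 (hzc v hvS)
      obtain ⟨y, hy, hyd⟩ := H'.orbit (h.of_sylow S') hY hdW hd1
      have hyR : conjSub y ((S' : Subgroup G) ⊓ Y) ≤ (S : Subgroup G) ⊓ Y := by
        rintro _ ⟨r, hr, rfl⟩
        refine mem_inf.2 ⟨?_, mul_mem (mul_mem hy (mem_inf.1 hr).2) (inv_mem hy)⟩
        rw [← h.centralizer_central hdS hd1 hdc]
        refine mem_centralizer_singleton_iff.2 ?_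
        show y * r * y⁻¹ * d = d * (y * r * y⁻¹)
        rw [← hyd, show y * r * y⁻¹ * (y * e' * y⁻¹) = y * (r * e') * y⁻¹ by group,
          H'.R_comm_e (h.of_sylow S') hY hr]
        group
      have hgood : Good S Y := by
        refine ⟨hY.max, fun hdvd => hY.full ?_⟩
        refine hdvd.trans ?_
        have h1 := relIndex_dvd_of_le_left (L := Y) hyR
        rwa [show (conjSub y ((S' : Subgroup G) ⊓ Y)).relIndex Y = ((S' : Subgroup G) ⊓ Y).relIndex Y by
          conv_lhs => rw [show Y = conjSub y Y from (conjSub_eq_iff_mem_normalizer.2 (le_normalizer hy)).symm]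
          rw [show conjSub y ((S' : Subgroup G) ⊓ conjSub y Y) = conjSub y ((S' : Subgroup G) ⊓ Y) by
            rw [conjSub_eq_iff_mem_normalizer.2 (le_normalizer hy)]]
          exact relIndex_map_map_of_injective _ _ (MulAut.conj y).injective] at h1
      exact hne' (H'.W_comm hv (hmain Y hgood)).symm
    have hcT : c ∈ core Y := by
      obtain ⟨g, hg, hgc⟩ := CfsgLib.Fusion.exists_conj_mem_of_le (p := 2) (N := Y)
        (S.2.to_le (zpowers_le.2 hcS)) hY.isPGroup_R (zpowers_le.2 hcY) inf_le_right hY.full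
      have h1 := H'.mem_core_of_centralizes (h.of_sylow S') hY (hgc c (mem_zpowers c)) (fun v hv => by
        have hv' : g⁻¹ * v * g ∈ W' := conj_inv_mem_of_normalizer (H'.normW hg) hv
        calc g * c * g⁻¹ * v = g * (c * (g⁻¹ * v * g)) * g⁻¹ := by group
          _ = g * ((g⁻¹ * v * g) * c) * g⁻¹ := by rw [hcW _ hv']
          _ = v * (g * c * g⁻¹) := by group)
      have h2 := conj_inv_mem_of_normalizer (le_normalizer_core Y hg) h1
      rwa [show g⁻¹ * (g * c * g⁻¹) * g = c by group] at h2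
    refine mem_inf.2 ⟨htS, mem_centralizer_singleton_iff.2 ?_⟩
    set d := c * t * c⁻¹ * t⁻¹ with hd
    obtain ⟨hdS, hdc⟩ := mem_inf.1 (hzc t htS)
    obtain ⟨v, hv, c1, hc1, hcv⟩ := H'.decomp c hcT
    obtain ⟨v', hv', c2, hc2, htv⟩ := H'.decomp t htY
    have hdC : d ∈ C' := by
      have e2 : d = c1 * c2 * c1⁻¹ * c2⁻¹ := by
        have f1 : Commute v (c1 * v' * c2 * c1⁻¹) :=
          H'.W_comm hv (mul_mem (mul_mem (mul_mem (H'.leC hc1) (H'.W_le_T hv')) (H'.leC hc2))
            (inv_mem (H'.leC hc1)))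
        have f2 : Commute c1 v' := (H'.W_comm hv' (H'.leC hc1)).symm
        have f3 : Commute v' (c1 * c2 * c1⁻¹ * c2⁻¹) := H'.W_comm hv' (mul_mem (mul_mem (mul_mem
          (H'.leC hc1) (H'.leC hc2)) (inv_mem (H'.leC hc1))) (inv_mem (H'.leC hc2)))
        calc d = v * (c1 * v' * c2 * c1⁻¹) * v⁻¹ * c2⁻¹ * v'⁻¹ := by
              rw [hd, hcv, htv]; group
          _ = (c1 * v') * c2 * c1⁻¹ * c2⁻¹ * v'⁻¹ := by rw [f1.eq, mul_inv_cancel_right]
          _ = v' * (c1 * c2 * c1⁻¹ * c2⁻¹) * v'⁻¹ := by rw [f2.eq]; group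
          _ = c1 * c2 * c1⁻¹ * c2⁻¹ := by rw [f3.eq, mul_inv_cancel_right]
      rw [e2]
      exact mul_mem (mul_mem (mul_mem hc1 hc2) (inv_mem hc1)) (inv_mem hc2)
    have hd1 : d = 1 := by
      by_contra hne'
      exact h.not_commute_central hdS hne' hdc H'.w3 (H'.commW d hdC).symm
    exact (mul_inv_eq_iff_eq_mul.1 (mul_inv_eq_one.1 hd1)).symm
  have h64 := card_le_of_le hle
  rw [hM, h.card_sylow] at h64
  norm_num at h64

theorem Ctx.dihedral (h : Ctx S) : Nonempty ((S : Subgroup G) ≃* DihedralGroup 64) := by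
  haveI : Fact (Nat.Prime 2) := ⟨Nat.prime_two⟩
  obtain ⟨X, hX⟩ := h.exists_good_self
  obtain ⟨s, u, w, e, W, C, H⟩ := hX.exists_shape h
  have hT4 := h.card_core hX
  have hC1 : C = ⊥ := Subgroup.eq_bot_of_card_eq C (by have := H.cardT; omega)
  have hTW : ∀ t ∈ core X, t ∈ W := fun t ht => by
    obtain ⟨v, hv, c, hc, rfl⟩ := H.decomp t ht
    rw [hC1, mem_bot] at hc
    rw [hc, mul_one]; exact hv
  set D := ⁅(S : Subgroup G), (S : Subgroup G)⁆ with hD
  have hDS : D ≤ (S : Subgroup G) :=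
    Subgroup.commutator_le.2 fun a ha b hb => by
      rw [commutatorElement_def]; exact mul_mem (mul_mem (mul_mem ha hb) (inv_mem ha)) (inv_mem hb)
  -- the derived group has index at most four
  have hD32 : 32 ≤ Nat.card D := by
    set e1 := w * e * w⁻¹ with he1
    have he1W : e1 ∈ W := conj_mem_of_normalizer (H.normW H.wX) H.eW
    have he1u : e1 * u ≠ u * e1 := fun r => by
      rcases H.fixU e1 he1W r with r' | r'
      · exact H.e1 (conj_eq_one_iff.1 r')
      · exact H.e1 (H.fixW e H.eW (mul_inv_eq_iff_eq_mul.1 r'))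
    have he1S : e1 ∈ (S : Subgroup G) := hX.core_le_S (H.W_le_T he1W)
    set M := (S : Subgroup G) ⊓ centralizer ({e1} : Set G) with hM
    have hMT : M ≤ core X := by
      intro m hm
      have hTM : core X ≤ M := fun t ht => mem_inf.2 ⟨hX.core_le_S ht,
        mem_centralizer_singleton_iff.2 (H.W_comm he1W ht).symm⟩
      by_contra hmT
      obtain ⟨n, hn, hnT⟩ := SetLike.exists_of_lt (CfsgLib.Techniques.Functor.lt_norm (S.2.to_le inf_le_left)
        (lt_of_le_of_ne hTM fun r => hmT (r.ge hm)))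
      obtain ⟨hnM, hnN⟩ := mem_inf.1 hn
      have hnR : n ∈ (S : Subgroup G) ⊓ X := mem_inf.2 ⟨(mem_inf.1 hnM).1, hX.normalizer_core ▸ hnN⟩
      have hne : Commute n e1 := mem_centralizer_singleton_iff.1 (mem_inf.1 hnM).2
      have h1 := (H.R_cases h hX hnR).resolve_left hnT
      have h3 := (show Commute (n * u) e1 from (H.W_comm he1W h1).symm)
      have h4 := hne.inv_left.mul_left h3
      rw [inv_mul_cancel_left] at h4
      exact he1u h4.eq.symm
    have h32 : 32 ≤ (M.subgroupOf (S : Subgroup G)).index := by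
      have h1 := Subgroup.card_mul_index (M.subgroupOf (S : Subgroup G))
      rw [Nat.card_congr (subgroupOfEquivOfLe (inf_le_left : M ≤ _)).toEquiv, h.card_sylow] at h1
      have h2 := card_le_of_le hMT
      rw [hT4] at h2
      have h3 : Nat.card M * (M.subgroupOf (S : Subgroup G)).index ≤ 4 * (M.subgroupOf (S : Subgroup G)).index :=
        Nat.mul_le_mul_right _ h2
      rw [h1] at h3
      norm_num at h3
      omega
    refine h32.trans ?_
    let f : ↥(S : Subgroup G) ⧸ M.subgroupOf (S : Subgroup G) → ↥D :=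
      Quotient.lift (fun y => (⟨(y : G) * e1 * (y : G)⁻¹ * e1⁻¹, by
          simpa [commutatorElement_def, hD] using commutator_mem_commutator y.2 he1S⟩ : ↥D))
        fun a b hab => Subtype.ext (by
          have h1 : (a : G)⁻¹ * b ∈ M := mem_subgroupOf.1 (QuotientGroup.leftRel_apply.1 hab)
          have h2 : (a : G)⁻¹ * b * e1 = e1 * ((a : G)⁻¹ * b) := mem_centralizer_singleton_iff.1 (mem_inf.1 h1).2
          show (a : G) * e1 * (a : G)⁻¹ * e1⁻¹ = (b : G) * e1 * (b : G)⁻¹ * e1⁻¹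
          rw [show (b : G) * e1 * (b : G)⁻¹ = (a : G) * ((a : G)⁻¹ * b * e1) * ((a : G)⁻¹ * b)⁻¹ * (a : G)⁻¹ by group,
            h2]; group)
    have hf : Function.Injective f := by
      intro x y
      induction x using QuotientGroup.induction_on with | _ x =>
      induction y using QuotientGroup.induction_on with | _ y =>
      intro exy
      have h1 : (x : G) * e1 * (x : G)⁻¹ = (y : G) * e1 * (y : G)⁻¹ :=
        mul_right_cancel (congrArg Subtype.val exy : (x : G) * e1 * (x : G)⁻¹ * e1⁻¹ = (y : G) * e1 * (y : G)⁻¹ * e1⁻¹)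
      refine QuotientGroup.eq.2 (mem_subgroupOf.2 (mem_inf.2 ⟨mul_mem (inv_mem x.2) y.2,
        mem_centralizer_singleton_iff.2 ?_⟩))
      show (x : G)⁻¹ * y * e1 = e1 * ((x : G)⁻¹ * y)
      calc (x : G)⁻¹ * y * e1 = (x : G)⁻¹ * ((y : G) * e1 * (y : G)⁻¹) * y := by group
        _ = e1 * ((x : G)⁻¹ * y) := by rw [← h1]; group
    have := Nat.card_le_card_of_injective f hf
    rwa [← Subgroup.index_eq_card] at this
  -- involutions generate
  let I : Set G := {x | x ∈ (S : Subgroup G) ∧ x * x = 1}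
  have hIS : closure I ≤ (S : Subgroup G) := (closure_le _).2 fun x hx => hx.1
  have hM : (S : Subgroup G) ≤ closure I ⊔ D := by
    refine h.sylow_le_of_local _ (fun a ha b hb => mem_sup_right (by
      simpa [commutatorElement_def, hD] using commutator_mem_commutator ha hb)) ?_
    intro S' Y X0 x t hY _ _ _ _ _ _ htS _ htY
    refine mem_sup_left (subset_closure ⟨htS, ?_⟩)
    have h' := h.of_sylow S'
    obtain ⟨s', u', w', e', W', C', H'⟩ := hY.exists_shape h'
    obtain ⟨v, hv, c, hc, rfl⟩ := H'.decomp t htY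
    have hC' : C' = ⊥ := Subgroup.eq_bot_of_card_eq C' (by
      have := H'.cardT; have := h'.card_core hY; omega)
    rw [hC', mem_bot] at hc
    rw [hc, mul_one]; exact H'.W_sq hv
  have hclI := h.eq_sylow_of_sup hIS hM
  obtain ⟨x, hx, hxD⟩ : ∃ x ∈ I, x ∉ D := by
    by_contra hno
    push Not at hno
    have h1 : (S : Subgroup G) ≤ ⊥ ⊔ D := by rw [bot_sup_eq, ← hclI]; exact (closure_le _).2 hno
    have hc := h.card_sylow
    rw [← h.eq_sylow_of_sup bot_le h1, card_bot] at hc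
    norm_num at hc
  have hzS : closure {x} ≤ (S : Subgroup G) := (closure_le _).2 (Set.singleton_subset_iff.2 hx.1)
  obtain ⟨y, hy, hyD⟩ : ∃ y ∈ I, y ∉ closure {x} ⊔ D := by
    by_contra hno
    push Not at hno
    have h1 : (S : Subgroup G) ≤ closure {x} ⊔ D := by rw [← hclI]; exact (closure_le _).2 hno
    have h2 := h.eq_sylow_of_sup hzS h1
    have hc := h.card_sylow
    rw [← h2, ← zpowers_eq_closure, Nat.card_zpowers] at hc
    have h3 : orderOf x ∣ 2 := orderOf_dvd_of_pow_eq_one (by rw [sq, hx.2])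
    have := Nat.le_of_dvd (by norm_num) h3
    rw [hc] at this
    norm_num at this
  set K := closure ({x, y} : Set G) with hK
  have hKS : K ≤ (S : Subgroup G) := (closure_le _).2 (by rintro a (rfl | rfl); exacts [hx.1, hy.1])
  have hKx : closure {x} ≤ K := closure_mono (by simp)
  have hKy : y ∈ K := subset_closure (by simp)
  have hlt1 : D < closure {x} ⊔ D := lt_of_le_of_ne le_sup_right fun r =>
    hxD (r.ge (mem_sup_left (subset_closure rfl)))
  have hlt2 : closure {x} ⊔ D < K ⊔ D := lt_of_le_of_ne (sup_le_sup_right hKx _) fun r =>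
    hyD (r.ge (mem_sup_left hKy))
  have hKD : K ⊔ D = (S : Subgroup G) := by
    refine eq_of_le_of_card_ge (sup_le hKS hDS) ?_
    have h1 := two_mul_card_le hlt1
    have h2 := two_mul_card_le hlt2
    rw [h.card_sylow]
    norm_num
    omega
  have hKeq := h.eq_sylow_of_sup hKS hKD.ge
  have hxy : x ≠ y := fun r => hyD (mem_sup_left (r ▸ subset_closure rfl))
  have ho : ∀ a ∈ I, a ∉ D → orderOf a = 2 := fun a ha haD =>
    orderOf_eq_prime (by rw [sq, ha.2]) fun r => haD (r ▸ one_mem D)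
  obtain ⟨φ⟩ := Cfsg.Agent.S0206.result x y (ho x hx hxD) (ho y hy fun r => hyD (mem_sup_right r)) hxy
  have hn : orderOf (x * y) = 64 := by
    have h1 := Nat.card_congr φ.toEquiv
    rw [DihedralGroup.nat_card, ← hK, hKeq, h.card_sylow] at h1
    omega
  rw [hn] at φ
  exact ⟨(MulEquiv.subgroupCongr (hKeq.symm.trans hK)).trans φ⟩

end CfsgLib.LengthEight
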