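import Cfsg.Agent.Lib.LengthEight.SmallU
import Cfsg.Agent.Lib.Techniques.Functor.CentralGlobal
import Cfsg.Agent.Lib.Invol.Dihedral

/-!
A maximal local with its Sylow subgroup inside the fixed Sylow 2-subgroup: the action on the involutions
of the centre of the 2-core.
-/

set_option autoImplicit false
set_option linter.unusedSectionVars false
set_option linter.style.haveILetI false

namespace CfsgLib.LengthEight

open Subgroup
open CfsgLib.Fusion (conjSub mem_conjSub conjSub_eq_iff_mem_normalizer conj_mem_conjSub card_conjSub)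

variable {G : Type*} [Group G]

/-- A maximal local in normalised position. -/
structure Good (S : Sylow 2 G) (X : Subgroup G) : Prop where
  max : IsMaxLoc X
  full : ¬ 2 ∣ ((S : Subgroup G) ⊓ X).relIndex X

/-- The central elements of square one. -/
def omegaZ (T : Subgroup G) : Subgroup G where
  carrier := {x | x ∈ T ∧ x ∈ centralizer (T : Set G) ∧ x * x = 1}
  one_mem' := ⟨one_mem _, one_mem _, mul_one _⟩
  mul_mem' := fun {a b} ha hb => ⟨mul_mem ha.1 hb.1, mul_mem ha.2.1 hb.2.1, by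
    rw [mul_assoc, ← mul_assoc b, mem_centralizer_iff.1 ha.2.1 b hb.1, mul_assoc, hb.2.2, mul_one,
      ha.2.2]⟩
  inv_mem' := fun {a} ha => ⟨inv_mem ha.1, inv_mem ha.2.1, by rw [← mul_inv_rev, ha.2.2, inv_one]⟩

theorem mem_omegaZ {T : Subgroup G} {x : G} :
    x ∈ omegaZ T ↔ x ∈ T ∧ x ∈ centralizer (T : Set G) ∧ x * x = 1 := Iff.rfl

theorem omegaZ_comm {T : Subgroup G} {x y : G} (hx : x ∈ omegaZ T) (hy : y ∈ T) : x * y = y * x :=
  (mem_centralizer_iff.1 (mem_omegaZ.1 hx).2.1 y hy).symm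

theorem omegaZ_sq (T : Subgroup G) (v : ↥(omegaZ T)) : v * v = 1 := Subtype.ext (mem_omegaZ.1 v.2).2.2

theorem omegaZ_normal {T : Subgroup G} {g : G} (hg : g ∈ normalizer (T : Set G)) :
    g ∈ normalizer (omegaZ T : Set G) := by
  have key : ∀ h ∈ normalizer (T : Set G), ∀ v ∈ omegaZ T, h * v * h⁻¹ ∈ omegaZ T := by
    rintro h hh v ⟨h1, h2, h3⟩
    refine ⟨(mem_normalizer_iff.1 hh v).1 h1, mem_centralizer_iff.2 fun t ht => ?_, ?_⟩
    · have h4 : h⁻¹ * t * h ∈ T := by simpa using (mem_normalizer_iff.1 (inv_mem hh) t).1 ht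
      have h5 := mem_centralizer_iff.1 h2 _ h4
      calc t * (h * v * h⁻¹) = h * (h⁻¹ * t * h * v) * h⁻¹ := by group
        _ = h * (v * (h⁻¹ * t * h)) * h⁻¹ := by rw [h5]
        _ = h * v * h⁻¹ * t := by group
    · rw [show h * v * h⁻¹ * (h * v * h⁻¹) = h * (v * v) * h⁻¹ by group, h3]; group
  refine mem_normalizer_iff.2 fun v => ⟨key g hg v, fun hv => ?_⟩
  simpa [mul_assoc] using key g⁻¹ (inv_mem hg) _ hv

section Frame

variable [Finite G] [IsSimpleGroup G] {S : Sylow 2 G} {X : Subgroup G}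

/-- Every maximal local has a conjugate in normalised position. -/
theorem IsMaxLoc.exists_good (hX : IsMaxLoc X) :
    ∃ g : G, Good S (X.map (MulAut.conj g).toMonoidHom) := by
  haveI : Fact (Nat.Prime 2) := ⟨Nat.prime_two⟩
  obtain ⟨R⟩ : Nonempty (Sylow 2 ↥X) := inferInstance
  obtain ⟨Q, hQ⟩ := (R.2.map X.subtype).exists_le_sylow
  obtain ⟨g, rfl⟩ := MulAction.exists_smul_eq G Q S
  refine ⟨g, hX.map_conj g, ?_⟩
  have e : ((g • Q : Sylow 2 G) : Subgroup G) = (Q : Subgroup G).map (MulAut.conj g).toMonoidHom := by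
    rw [Sylow.coe_subgroup_smul]; exact CfsgLib.Solvable.conj_smul_eq_map _ _
  rw [e, ← map_inf_eq _ _ _ (MulAut.conj g).injective,
    relIndex_map_map_of_injective _ _ (MulAut.conj g).injective]
  have h1 : ((Q : Subgroup G) ⊓ X).subgroupOf X = (R : Subgroup ↥X) := by
    refine R.3 ((Q.2.to_le inf_le_left).comap_subtype) fun y hy => ?_
    exact ⟨hQ ⟨y, hy, rfl⟩, y.2⟩
  show ¬ 2 ∣ (((Q : Subgroup G) ⊓ X).subgroupOf X).index
  rw [h1]; exact R.not_dvd_index

variable (h : Ctx S) (hX : Good S X)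

include hX

theorem Good.isPGroup_R : IsPGroup 2 ↥((S : Subgroup G) ⊓ X) := S.2.to_le inf_le_left

theorem Good.core_le_R : core X ≤ (S : Subgroup G) ⊓ X := by
  haveI : Fact (Nat.Prime 2) := ⟨Nat.prime_two⟩
  let P : Sylow 2 ↥X := (hX.isPGroup_R.comap_subtype (K := X)).toSylow hX.full
  have hP := Cores.pCore_le_sylow P
  rintro _ ⟨y, hy, rfl⟩
  have := hP hy
  rw [show (P : Subgroup ↥X) = ((S : Subgroup G) ⊓ X).subgroupOf X from IsPGroup.toSylow_coe _ _] at this
  exact this

theorem Good.core_le_S : core X ≤ (S : Subgroup G) := hX.core_le_R.trans inf_le_left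

theorem Good.normalizer_core : normalizer (core X : Set G) = X := hX.max.normalizer_core

theorem Good.centralizer_core_le : centralizer (core X : Set G) ≤ core X :=
  LengthEight.centralizer_core_le hX.max.1

theorem Good.central_mem {z : G} (hz : z ∈ (S : Subgroup G))
    (hzc : z ∈ centralizer ((S : Subgroup G) : Set G)) : z ∈ core X :=
  hX.centralizer_core_le (centralizer_le hX.core_le_S hzc)

theorem Good.central_mem_omegaZ {z : G} (hz : z ∈ (S : Subgroup G))
    (hzc : z ∈ centralizer ((S : Subgroup G) : Set G)) (h2 : z * z = 1) : z ∈ omegaZ (core X) :=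
  ⟨hX.central_mem hz hzc, centralizer_le hX.core_le_S hzc, h2⟩

theorem Good.le_normalizer_omegaZ : X ≤ normalizer (omegaZ (core X) : Set G) := fun _ hg =>
  omegaZ_normal (le_normalizer_core X hg)

include h

theorem Good.ne_top : X ≠ ⊤ := by
  intro e
  obtain ⟨z, hz, hz2, hzc⟩ := h.exists_central
  have hzT := hX.central_mem hz hzc
  refine h.normalizer_ne_top (core_isPGroup X) (fun hb => ?_) (hX.normalizer_core.trans e)
  rw [hb, mem_bot] at hzT
  rw [hzT, orderOf_one] at hz2
  omega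

theorem Good.not_long : ¬ Long X 8 := fun hl =>
  h.no_nine (Long.step (lt_top_iff_ne_top.2 (hX.ne_top h)) hl)

theorem Good.not_isPGroup : ¬ IsPGroup 2 X := by obtain ⟨-, -, -, -, hn⟩ := hX.max.1; exact hn

theorem Good.R_lt : (S : Subgroup G) ⊓ X < X :=
  lt_of_le_of_ne inf_le_right fun e => hX.not_isPGroup h (e ▸ hX.isPGroup_R)

theorem Good.R_ne : (S : Subgroup G) ⊓ X ≠ (S : Subgroup G) := fun e =>
  hX.not_long h (Long.step (hX.R_lt h) (long_of_card (k := 7) (by rw [e]; exact h.card_sylow)))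

/-- An element of `S` outside `X` normalising `S ∩ X`, with square inside. -/
theorem Good.exists_swap : ∃ s ∈ (S : Subgroup G), s ∉ X ∧
    s ∈ normalizer (((S : Subgroup G) ⊓ X : Subgroup G) : Set G) ∧ s * s ∈ (S : Subgroup G) ⊓ X := by
  haveI : Fact (Nat.Prime 2) := ⟨Nat.prime_two⟩
  set R := (S : Subgroup G) ⊓ X with hR
  have hlt : R < (S : Subgroup G) := lt_of_le_of_ne inf_le_left (hX.R_ne h)
  have h1 := CfsgLib.Techniques.Functor.lt_norm S.2 hlt
  set M := (S : Subgroup G) ⊓ normalizer (R : Set G)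
  haveI : (R.subgroupOf M).Normal := normal_subgroupOf_iff_le_normalizer h1.le |>.2 inf_le_right
  have hne : Nontrivial (↥M ⧸ R.subgroupOf M) := by
    rw [← Finite.one_lt_card_iff_nontrivial, ← Subgroup.index_eq_card]
    refine Nat.one_lt_iff_ne_zero_and_ne_one.2 ⟨Subgroup.index_ne_zero_of_finite, fun e => ?_⟩
    exact h1.not_ge (fun x hx => (show (⟨x, hx⟩ : ↥M) ∈ R.subgroupOf M by rw [index_eq_one.1 e]; trivial))
  have hp : IsPGroup 2 (↥M ⧸ R.subgroupOf M) := (S.2.to_le inf_le_left).to_quotient _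
  obtain ⟨k, hk⟩ := hp.exists_card_eq
  have hk0 : k ≠ 0 := fun e => by
    have := Finite.one_lt_card (α := ↥M ⧸ R.subgroupOf M); rw [hk, e] at this; simp at this
  obtain ⟨q, hq⟩ := exists_prime_orderOf_dvd_card' (G := ↥M ⧸ R.subgroupOf M) 2
    (hk ▸ dvd_pow_self 2 hk0)
  induction q using QuotientGroup.induction_on with | _ s =>
  have hs2 : ((s * s : ↥M) : ↥M ⧸ R.subgroupOf M) = 1 := by
    rw [QuotientGroup.mk_mul, ← sq, ← hq, pow_orderOf_eq_one]
  have hs1 : (s : G) ∉ R := fun hs => by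
    rw [(QuotientGroup.eq_one_iff s).2 hs, orderOf_one] at hq; omega
  exact ⟨s, (mem_inf.1 s.2).1, fun hx => hs1 ⟨(mem_inf.1 s.2).1, hx⟩, (mem_inf.1 s.2).2,
    mem_subgroupOf.1 ((QuotientGroup.eq_one_iff (s * s)).1 hs2)⟩

omit h

/-- The action on the involutions of the centre of the core. -/
def Good.act : ↥X →* MulAut ↥(omegaZ (core X)) :=
  (omegaZ (core X)).normalizerMonoidHom.comp (inclusion hX.le_normalizer_omegaZ)

theorem Good.act_apply (x : ↥X) (v : ↥(omegaZ (core X))) :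
    ((hX.act x v : ↥(omegaZ (core X))) : G) = (x : G) * v * (x : G)⁻¹ := rfl

theorem Good.ker_act (h : Ctx S) : hX.act.ker = (core X).subgroupOf X := by
  obtain ⟨z, hz, hz2, hzc⟩ := h.exists_central
  have hz1 : z ≠ 1 := CfsgLib.Invol.ne_one_of_orderOf_two hz2
  have hzV := hX.central_mem_omegaZ hz hzc (CfsgLib.Invol.mul_self_of_orderOf_two hz2)
  set K := X ⊓ centralizer (omegaZ (core X) : Set G)
  have hKC : K ≤ core X := by
    refine le_core inf_le_left ?_ ((h.isPGroup_centralizer hz hz1 hzc hzV).to_le inf_le_right)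
    intro x hx
    have key : ∀ g ∈ X, ∀ y ∈ K, g * y * g⁻¹ ∈ K := by
      intro g hg y hy
      refine mem_inf.2 ⟨mul_mem (mul_mem hg (mem_inf.1 hy).1) (inv_mem hg),
        mem_centralizer_iff.2 fun v hv => ?_⟩
      have h1 : g⁻¹ * v * g ∈ omegaZ (core X) := by
        simpa using (mem_normalizer_iff.1 (inv_mem (hX.le_normalizer_omegaZ hg)) v).1 hv
      have h2 := mem_centralizer_iff.1 (mem_inf.1 hy).2 _ h1
      calc v * (g * y * g⁻¹) = g * (g⁻¹ * v * g * y) * g⁻¹ := by group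
        _ = g * (y * (g⁻¹ * v * g)) * g⁻¹ := by rw [h2]
        _ = g * y * g⁻¹ * v := by group
    refine mem_normalizer_iff.2 fun y => ⟨key x hx y, fun hy => ?_⟩
    simpa [mul_assoc] using key x⁻¹ (inv_mem hx) _ hy
  ext x
  rw [MonoidHom.mem_ker, mem_subgroupOf]
  refine ⟨fun hx => hKC ⟨x.2, mem_centralizer_iff.2 fun v hv => ?_⟩, fun hx => ?_⟩
  · have := congrArg Subtype.val (DFunLike.congr_fun hx ⟨v, hv⟩)
    rw [hX.act_apply] at this
    exact (mul_inv_eq_iff_eq_mul.1 this).symm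
  · ext v
    rw [hX.act_apply, MulAut.one_apply]
    exact mul_inv_eq_iff_eq_mul.2 (omegaZ_comm v.2 hx).symm

theorem Good.core_pow : ∃ k : ℕ, Nat.card (core X) = 2 ^ k :=
  haveI : Fact (Nat.Prime 2) := ⟨Nat.prime_two⟩
  (core_isPGroup X).exists_card_eq

theorem Good.range_O2 (h : Ctx S) (N : Subgroup ↥hX.act.range) (hN : N.Normal) (hp : IsPGroup 2 N) :
    N = ⊥ := by
  haveI : Fact (Nat.Prime 2) := ⟨Nat.prime_two⟩
  set f := hX.act.rangeRestrict
  have hker : IsPGroup 2 f.ker := by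
    rw [MonoidHom.ker_rangeRestrict, hX.ker_act h]
    exact (core_isPGroup X).of_equiv (subgroupOfEquivOfLe (core_le X)).symm
  haveI := hN.comap f
  have h1 : N.comap f ≤ Cfsg.pCore 2 ↥X := Cores.le_pCore (hp.comap_of_ker_isPGroup f hker)
  refine eq_bot_iff.2 fun n hn => ?_
  obtain ⟨x, rfl⟩ := hX.act.rangeRestrict_surjective n
  rw [mem_bot]
  refine (MonoidHom.mem_ker (f := f)).1 ?_
  rw [MonoidHom.ker_rangeRestrict, hX.ker_act h, mem_subgroupOf]
  exact ⟨x, h1 hn, rfl⟩

theorem Good.card_eq (h : Ctx S) : Nat.card X = Nat.card (core X) * Nat.card hX.act.range := by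
  rw [← Subgroup.index_ker, hX.ker_act h, ← Nat.card_congr (subgroupOfEquivOfLe (core_le X)).toEquiv,
    Subgroup.card_mul_index]

theorem Good.long_range (h : Ctx S) {k n : ℕ} (hk : Nat.card (core X) = 2 ^ k)
    (hl : Long (⊤ : Subgroup ↥hX.act.range) n) : Long X (k + n) := by
  have h1 := long_comap hX.act.rangeRestrict hX.act.rangeRestrict_surjective hl (m := k) (long_of_card (by
    rw [MonoidHom.ker_rangeRestrict, hX.ker_act h,
      Nat.card_congr (subgroupOfEquivOfLe (core_le X)).toEquiv, hk]))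
  have h2 := long_map X.subtype X.subtype_injective h1
  rwa [comap_top, ← MonoidHom.range_eq_map, range_subtype] at h2

/-- The image of `S ∩ X` as a Sylow subgroup of the image. -/
theorem Good.exists_image_sylow (h : Ctx S) : ∃ P : Sylow 2 ↥hX.act.range,
    (P : Subgroup ↥hX.act.range) =
      (((S : Subgroup G) ⊓ X).subgroupOf X).map hX.act.rangeRestrict := by
  haveI : Fact (Nat.Prime 2) := ⟨Nat.prime_two⟩
  let P : Sylow 2 ↥X := (hX.isPGroup_R.comap_subtype (K := X)).toSylow hX.full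
  refine ⟨P.mapSurjective hX.act.rangeRestrict_surjective, ?_⟩
  rw [Sylow.coe_mapSurjective, show (P : Subgroup ↥X) = ((S : Subgroup G) ⊓ X).subgroupOf X from
    IsPGroup.toSylow_coe _ _]

theorem Good.mem_R_of_image (h : Ctx S) {P : Sylow 2 ↥hX.act.range}
    (hP : (P : Subgroup ↥hX.act.range) = (((S : Subgroup G) ⊓ X).subgroupOf X).map hX.act.rangeRestrict)
    {x : ↥X} (hx : hX.act.rangeRestrict x ∈ (P : Subgroup ↥hX.act.range)) :
    (x : G) ∈ (S : Subgroup G) ⊓ X := by
  rw [hP] at hx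
  obtain ⟨r, hr, he⟩ := hx
  have h1 : r⁻¹ * x ∈ hX.act.rangeRestrict.ker := by rw [MonoidHom.mem_ker, map_mul, map_inv, he, inv_mul_cancel]
  rw [MonoidHom.ker_rangeRestrict, hX.ker_act h, mem_subgroupOf] at h1
  have := mul_mem (mem_subgroupOf.1 hr) (hX.core_le_R h1)
  simpa using this

theorem Good.card_image (h : Ctx S) {P : Sylow 2 ↥hX.act.range}
    (hP : (P : Subgroup ↥hX.act.range) = (((S : Subgroup G) ⊓ X).subgroupOf X).map hX.act.rangeRestrict) :
    Nat.card ↥((S : Subgroup G) ⊓ X) = Nat.card (core X) * Nat.card (P : Subgroup ↥hX.act.range) := by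
  have hle : ((core X).subgroupOf X) ≤ ((S : Subgroup G) ⊓ X).subgroupOf X := fun x hx => hX.core_le_R hx
  rw [hP]
  set f := hX.act.rangeRestrict
  set R := ((S : Subgroup G) ⊓ X).subgroupOf X
  have e1 : (f.domRestrict R).ker = ((core X).subgroupOf X).subgroupOf R := by
    ext x
    rw [MonoidHom.mem_ker, mem_subgroupOf, ← hX.ker_act h, ← MonoidHom.ker_rangeRestrict]
    rfl
  have h2 := Subgroup.card_mul_index (f.domRestrict R).ker
  rw [Subgroup.index_ker, MonoidHom.domRestrict_range, e1,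
    Nat.card_congr (subgroupOfEquivOfLe hle).toEquiv,
    Nat.card_congr (subgroupOfEquivOfLe (core_le X)).toEquiv] at h2
  rw [h2, Nat.card_congr (subgroupOfEquivOfLe inf_le_right).toEquiv]

end Frame

end CfsgLib.LengthEight
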