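import Cfsg.Agent.Lib.LengthEight.Shape

/-!
If the core of a maximal local is larger than a four-group, an involution of the Sylow subgroup has
centraliser of index two in it.
-/

set_option autoImplicit false
set_option linter.unusedSectionVars false
set_option linter.style.haveILetI false

namespace CfsgLib.LengthEight

open Subgroup
open CfsgLib.Fusion (conjSub mem_conjSub conjSub_eq_iff_mem_normalizer conj_mem_conjSub card_conjSub)

variable {G : Type*} [Group G]

theorem card_le_two_mul [Finite G] {H K : Subgroup G} (g : G) (hg : ∀ x ∈ K, x ∈ H ∨ g * x ∈ H) :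
    Nat.card K ≤ 2 * Nat.card H := by
  classical
  let f : ↥K → Bool × ↥H := fun x =>
    if hx : (x : G) ∈ H then (false, ⟨x, hx⟩) else (true, ⟨g * x, (hg x x.2).resolve_left hx⟩)
  have hf : Function.Injective f := by
    intro a b e
    simp only [f] at e
    split_ifs at e with h1 h2 h2
    · exact Subtype.ext (congrArg (fun p : Bool × ↥H => (p.2 : G)) e)
    · exact absurd (congrArg Prod.fst e) (by simp)
    · exact absurd (congrArg Prod.fst e) (by simp)
    · exact Subtype.ext (mul_left_cancel (congrArg (fun p : Bool × ↥H => (p.2 : G)) e))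
  have := Nat.card_le_card_of_injective f hf
  simpa [Nat.card_prod] using this

theorem two_mul_card_le [Finite G] {H K : Subgroup G} (hlt : H < K) : 2 * Nat.card H ≤ Nat.card K := by
  obtain ⟨m, hm⟩ := card_dvd_of_le hlt.le
  rcases m with _ | _ | m
  · have := Nat.card_pos (α := K); omega
  · exact absurd (eq_of_le_of_card_ge hlt.le (by omega)) hlt.ne
  · rw [hm, mul_comm 2]; exact Nat.mul_le_mul le_rfl (by omega)

theorem Ctx.card_cases [Finite G] {S : Sylow 2 G} (h : Ctx S) {M : Subgroup G}
    (hM : M ≤ (S : Subgroup G)) : ∃ j ≤ 7, Nat.card M = 2 ^ j := by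
  haveI : Fact (Nat.Prime 2) := ⟨Nat.prime_two⟩
  exact (Nat.dvd_prime_pow Nat.prime_two).1 (h.card_sylow ▸ card_dvd_of_le hM)

variable [Finite G] [IsSimpleGroup G] {S : Sylow 2 G} {X : Subgroup G}
variable {s u w e : G} {W C : Subgroup G} (h : Ctx S) (hX : Good S X) (H : Shape S X s u w e W C)

include H

theorem Shape.Cle_R : C ≤ core X := H.leC

theorem Shape.W_comm {v t : G} (hv : v ∈ W) (ht : t ∈ core X) : v * t = t * v := omegaZ_comm (H.leW hv) ht

theorem Shape.W_sq {v : G} (hv : v ∈ W) : v * v = 1 := (mem_omegaZ.1 (H.leW hv)).2.2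

theorem Shape.W_le_T : W ≤ core X := fun _ hv => (mem_omegaZ.1 (H.leW hv)).1

theorem Shape.not_le_T' (hne : conjSub s (core X) ≠ core X) : ¬ W ≤ conjSub s (core X) := fun hle =>
  hne (eq_of_le_of_card_ge (fun t ht => by
    obtain ⟨v, hv, c, hc, rfl⟩ := H.decomp t ht
    exact mul_mem (hle hv) (H.leT' hc)) (card_conjSub _ _).le).symm

include hX

theorem Shape.T'_ne : conjSub s (core X) ≠ core X := fun e' =>
  H.sX (hX.normalizer_core ▸ conjSub_eq_iff_mem_normalizer.1 e')

/-- The elements of `T ∩ T'`. -/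
theorem Shape.mem_inter {t : G} (ht : t ∈ core X) (ht' : t ∈ conjSub s (core X)) :
    ∃ v, (v = 1 ∨ v = e) ∧ ∃ c ∈ C, t = v * c := by
  obtain ⟨v, hv, c, hc, rfl⟩ := H.decomp t ht
  refine ⟨v, ?_, c, hc, rfl⟩
  have hv' : v ∈ conjSub s (core X) := by
    have := mul_mem ht' (inv_mem (H.leT' hc))
    rwa [mul_inv_cancel_right] at this
  by_contra hno
  push Not at hno
  refine H.not_le_T' (H.T'_ne hX) ?_
  have hsub : ({1, e, v, e * v} : Set G) ⊆ (W : Set G) ∩ (conjSub s (core X) : Set G) := by
    rintro x (rfl | rfl | rfl | rfl)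
    exacts [⟨one_mem W, one_mem _⟩, ⟨H.eW, H.eT'⟩, ⟨hv, hv'⟩, ⟨mul_mem H.eW hv, mul_mem H.eT' hv'⟩]
  have hev : e * v ≠ 1 := fun r => hno.2 (by
    rw [eq_comm, ← mul_right_inj e, r, H.W_sq H.eW])
  have h4 : ({1, e, v, e * v} : Set G).ncard = 4 := by
    rw [Set.ncard_insert_of_notMem (by simp [Ne.symm H.e1, Ne.symm hno.1, Ne.symm hev]),
      Set.ncard_insert_of_notMem (by simp [Ne.symm hno.2, hno.1]),
      Set.ncard_pair (by simp [H.e1])]
  intro x hx
  have heq : ({1, e, v, e * v} : Set G) = (W : Set G) :=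
    Set.eq_of_subset_of_ncard_le (fun y hy => (hsub hy).1) (by
      rw [h4]; exact H.cardW.le) (Set.toFinite _)
  exact (hsub (heq ▸ hx)).2

include h

theorem Shape.R_cases {r : G} (hr : r ∈ (S : Subgroup G) ⊓ X) : r ∈ core X ∨ r * u ∈ core X := by
  have h2 : (core X).relIndex ((S : Subgroup G) ⊓ X) = 2 := by
    have h1 := Subgroup.card_mul_index ((core X).subgroupOf ((S : Subgroup G) ⊓ X))
    rw [Nat.card_congr (subgroupOfEquivOfLe hX.core_le_R).toEquiv, hX.card_R h] at h1
    exact Nat.eq_of_mul_eq_mul_left (Nat.card_pos (α := core X)) (h1.trans (mul_comm _ _))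
  exact or_iff_not_imp_left.2 fun hrT => mul_mem_of_relIndex_two h2 hr H.uR hrT H.uT

omit h hX

theorem Shape.ui : u⁻¹ = u := inv_eq_of_mul_eq_one_right H.uu

include h hX

/-- Involutions of `R` lie in `T` or in `T'`. -/
theorem Shape.invol {r : G} (hr : r ∈ (S : Subgroup G) ⊓ X) (hrr : r * r = 1) (hrT : r ∉ core X) :
    r ∈ conjSub s (core X) := by
  have ht := (H.R_cases h hX hr).resolve_left hrT
  obtain ⟨v, hv, c, hc, hvc⟩ := H.decomp _ ht
  have hr' : r = v * c * u := by rw [← hvc, mul_assoc, H.uu, mul_one]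
  have hvv : u * v * u ∈ W := by
    have := conj_mem_of_normalizer (H.normW (mem_inf.1 H.uR).2) hv
    rwa [H.ui] at this
  have h1 : (v * (u * v * u)) * (c * c) = 1 := by
    have e1 : r * r = (v * (u * v * u)) * (c * c) := by
      calc r * r = v * c * u * (v * c * u) := by rw [hr']
        _ = v * (c * (u * v * u)) * (u * c * u) := by
            rw [show v * (c * (u * v * u)) * (u * c * u) = v * c * u * v * (u * u) * c * u by group, H.uu]
            group
        _ = v * ((u * v * u) * c) * c := by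
            rw [H.W_comm hvv (H.leC hc), ← H.commU c hc]
            rw [mul_assoc c u u, H.uu, mul_one]
        _ = (v * (u * v * u)) * (c * c) := by group
    rw [← e1]; exact hrr
  have h2 := H.disj _ (mul_mem hv hvv) (eq_inv_of_mul_eq_one_left h1 ▸ inv_mem (mul_mem hc hc))
  have h3 : v * u = u * v := by
    calc v * u = v * u * (v * v) := by rw [H.W_sq hv, mul_one]
      _ = (v * (u * v * u)) * u * v := by
          rw [show (v * (u * v * u)) * u * v = v * u * v * (u * u) * v by group, H.uu, mul_one, ← mul_assoc]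
      _ = u * v := by rw [h2, one_mul]
  rw [hr']
  refine mul_mem (mul_mem ?_ (H.leT' hc)) H.uT'
  rcases H.fixU v hv h3 with rfl | rfl
  exacts [one_mem _, H.eT']

theorem Shape.R_comm_e {r : G} (hr : r ∈ (S : Subgroup G) ⊓ X) : r * e = e * r := by
  rcases H.R_cases h hX hr with h1 | h1
  · exact (H.W_comm H.eW h1).symm
  · have h2 : Commute (r * u) e := (H.W_comm H.eW h1).symm
    have h3 := h2.mul_left (Commute.inv_left (show Commute u e from H.eu.symm))
    rwa [mul_inv_cancel_right] at h3

/-- Every element of order three of `X` centralises `C` and acts freely on `W`. -/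
theorem Shape.three {x : G} (hx : x ∈ X) (hx3 : orderOf x = 3) :
    (∀ c ∈ C, x * c = c * x) ∧ ∀ v ∈ W, x * v = v * x → v = 1 := by
  haveI : Fact (Nat.Prime 2) := ⟨Nat.prime_two⟩
  set f := hX.act.rangeRestrict with hf
  set b := f ⟨w, H.wX⟩
  set a := f ⟨x, hx⟩ with ha
  have hb3 : orderOf b = 3 := (hX.core_mem_three h H.wX H.w3).2
  have ha3 : orderOf a = 3 := (hX.core_mem_three h hx hx3).2
  have hB : (zpowers b).index = 2 := by
    have h1 := (zpowers b).card_mul_index
    rw [Nat.card_zpowers, hb3, hX.card_act h] at h1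
    omega
  have haB : a ∈ zpowers b := by
    have h1 : a * a ∈ zpowers b := (mul_mem_iff_of_index_two hB).2 Iff.rfl
    have h2 := mul_mem h1 h1
    rwa [show a * a * (a * a) = a * (a * a * a) by group, ← sq, ← pow_succ, show (2 : ℕ) + 1 = 3 from rfl,
      ← ha3, pow_orderOf_eq_one, mul_one] at h2
  obtain ⟨i, hi⟩ := haB
  have hi' : b ^ i = a := hi
  set t := x * (w ^ i)⁻¹ with htdef
  have htT : t ∈ core X := by
    have h1 : (⟨x, hx⟩ * ((⟨w, H.wX⟩ : ↥X) ^ i)⁻¹ : ↥X) ∈ hX.act.rangeRestrict.ker := by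
      rw [MonoidHom.mem_ker, map_mul, map_inv, map_zpow]
      show a * (b ^ i)⁻¹ = 1
      rw [hi', mul_inv_cancel]
    rw [MonoidHom.ker_rangeRestrict, hX.ker_act h, mem_subgroupOf] at h1
    exact h1
  have hxt : x = t * w ^ i := by rw [htdef, inv_mul_cancel_right]
  have h3i : ¬ (3 : ℤ) ∣ i := by
    rintro ⟨j, rfl⟩
    refine (hX.core_mem_three h hx hx3).1 ?_
    rw [hxt, zpow_mul, show w ^ (3 : ℤ) = 1 by
      rw [← pow_orderOf_eq_one w, H.w3]; norm_cast, one_zpow, mul_one]
    exact htT
  constructor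
  · intro c hc
    obtain ⟨v, hv, d, hd, hvd⟩ := H.decomp t htT
    have hcj : ∀ y ∈ C, x * y * x⁻¹ = d * y * d⁻¹ := fun y hy => by
      have hwy : Commute (w ^ i) y := Commute.zpow_left (show Commute w y from (H.commW y hy).symm) i
      calc x * y * x⁻¹ = t * (w ^ i * y * (w ^ i)⁻¹) * t⁻¹ := by rw [hxt]; group
        _ = v * (d * y * d⁻¹) * v⁻¹ := by rw [hwy.eq, mul_inv_cancel_right, hvd]; group
        _ = d * y * d⁻¹ := by
            rw [H.W_comm hv (mul_mem (mul_mem (H.leC hd) (H.leC hy)) (inv_mem (H.leC hd))),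
              mul_inv_cancel_right]
    have hd' : ∀ y ∈ C, d * y * d⁻¹ ∈ C := fun y hy => mul_mem (mul_mem hd hy) (inv_mem hd)
    have h3 : Commute (d ^ 3) c := by
      have h1 : c = d * (d * (d * c * d⁻¹) * d⁻¹) * d⁻¹ := by
        calc c = x * (x * (x * c * x⁻¹) * x⁻¹) * x⁻¹ := by
              rw [show x * (x * (x * c * x⁻¹) * x⁻¹) * x⁻¹ = x * x * x * c * (x * x * x)⁻¹ by group,
                pow_three_eq hx3]; group
          _ = _ := by rw [hcj c hc, hcj _ (hd' c hc), hcj _ (hd' _ (hd' c hc))]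
      show d ^ 3 * c = c * d ^ 3
      calc d ^ 3 * c = d * (d * (d * c * d⁻¹) * d⁻¹) * d⁻¹ * d ^ 3 := by
            simp [pow_succ, mul_assoc]
        _ = c * d ^ 3 := by rw [← h1]
    have hd3 : d ∈ zpowers (d ^ 3) := by
      obtain ⟨n, hn⟩ := core_isPGroup X ⟨d, H.leC hd⟩
      have hn' : d ^ 2 ^ n = 1 := congrArg Subtype.val hn
      obtain ⟨p, q, hpq⟩ : IsCoprime (3 : ℤ) ((2 : ℤ) ^ n) := (Int.isCoprime_iff_nat_coprime.2
        (by norm_num)).pow_right
      refine ⟨p, show (d ^ 3) ^ p = d from ?_⟩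
      calc (d ^ 3) ^ p = d ^ (p * 3 : ℤ) * (d ^ (2 ^ n : ℕ)) ^ q := by
            rw [hn', one_zpow, mul_one, mul_comm, zpow_mul]; norm_cast
        _ = d := by
            rw [← zpow_natCast d (2 ^ n), ← zpow_mul, ← zpow_add]
            rw [show p * 3 + ((2 ^ n : ℕ) : ℤ) * q = 1 by push_cast; linarith, zpow_one]
    obtain ⟨p, hp⟩ := hd3
    have hp' : (d ^ 3) ^ p = d := hp
    have h4 : Commute d c := by rw [← hp']; exact h3.zpow_left p
    exact mul_inv_eq_iff_eq_mul.1 (by rw [hcj c hc, h4.eq, mul_inv_cancel_right])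
  · intro v hv e'
    have hwv' : w ^ i * v * (w ^ i)⁻¹ ∈ W :=
      conj_mem_of_normalizer (H.normW (zpow_mem H.wX i)) hv
    have h1 : Commute (w ^ i) v := by
      show w ^ i * v = v * w ^ i
      have h5 : t * (w ^ i * v * (w ^ i)⁻¹) * t⁻¹ = v := by
        calc t * (w ^ i * v * (w ^ i)⁻¹) * t⁻¹ = x * v * x⁻¹ := by rw [hxt]; group
          _ = v := by rw [e', mul_inv_cancel_right]
      rw [← H.W_comm hwv' htT, mul_inv_cancel_right] at h5
      exact mul_inv_eq_iff_eq_mul.1 h5
    have hco : IsCoprime (i : ℤ) 3 := (Int.prime_three.coprime_iff_not_dvd.2 h3i).symm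
    obtain ⟨p, q, hpq⟩ := hco
    refine H.fixW v hv ?_
    have hw : w = (w ^ i) ^ p := by
      rw [← zpow_mul]
      calc w = w ^ (1 : ℤ) := (zpow_one w).symm
        _ = w ^ (i * p + 3 * q) := by rw [← hpq]; ring_nf
        _ = w ^ (i * p) := by
            rw [zpow_add, zpow_mul w 3 q, show w ^ (3 : ℤ) = 1 by
              rw [← pow_orderOf_eq_one w, H.w3]; norm_cast, one_zpow, mul_one]
    rw [hw]; exact (h1.zpow_left p).eq

/-- With `|C| ≥ 4` an involution of `C` commutes with `R` and with `s`. -/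
theorem Shape.exists_fixed (hC : 4 ≤ Nat.card C) :
    ∃ c ∈ C, c ≠ 1 ∧ c * c = 1 ∧ (∀ d ∈ C, d * c = c * d) ∧ s * c = c * s := by
  haveI : Fact (Nat.Prime 2) := ⟨Nat.prime_two⟩
  obtain ⟨-, hback, -, -, -, -⟩ := hX.conjugate_facts h H.sS H.sX H.sN H.s2
  obtain ⟨k, hk⟩ := hX.core_pow
  have hk5 := hX.le_five h hk
  have hC8 : Nat.card C ≤ 8 := by
    have h1 := H.cardT
    rw [hk] at h1
    have := Nat.pow_le_pow_right (show 2 > 0 by norm_num) hk5
    omega
  have hsC : ∀ c ∈ C, ∃ v, (v = 1 ∨ v = e) ∧ ∃ c' ∈ C, s * c * s⁻¹ = v * c' := fun c hc =>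
    H.mem_inter hX (hback c (H.leT' hc)) (conj_mem_conjSub (H.leC hc))
  by_cases hel : ∀ c ∈ C, c * c = 1
  · have hcomm : ∀ a ∈ C, ∀ b ∈ C, a * b = b * a := fun a ha b hb => congrArg Subtype.val
      (comm_of_exp_two (V := ↥C) (fun v => Subtype.ext (hel v v.2)) ⟨a, ha⟩ ⟨b, hb⟩)
    obtain ⟨d, hd, hdC, hd1⟩ : ∃ d ∈ conjSub s C, d ∈ C ∧ d ≠ 1 := by
      by_contra hno
      push Not at hno
      have h1 : Nat.card ↥(conjSub s C) ≤ 2 := by
        classical
        let f : ↥(conjSub s C) → Bool := fun x => decide ((x : G) ∈ C)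
        have hf : Function.Injective f := by
          intro a b eab
          simp only [f, decide_eq_decide] at eab
          by_cases ha : (a : G) ∈ C
          · exact Subtype.ext ((hno a a.2 ha).trans (hno b b.2 (eab.1 ha)).symm)
          · have hb : (b : G) ∉ C := fun r => ha (eab.2 r)
            obtain ⟨a0, ha0, ea⟩ := a.2
            obtain ⟨b0, hb0, eb⟩ := b.2
            obtain ⟨va, hva, ca, hca, ea'⟩ := hsC a0 ha0
            obtain ⟨vb, hvb, cb, hcb, eb'⟩ := hsC b0 hb0
            have ea'' : (a : G) = va * ca := ea.symm.trans ea'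
            have eb'' : (b : G) = vb * cb := eb.symm.trans eb'
            have hvae : va = e := hva.resolve_left fun r => ha (by rw [ea'', r, one_mul]; exact hca)
            have hvbe : vb = e := hvb.resolve_left fun r => hb (by rw [eb'', r, one_mul]; exact hcb)
            refine Subtype.ext (inv_mul_eq_one.1 (hno _ (mul_mem (inv_mem a.2) b.2) ?_))
            rw [ea'', eb'', hvae, hvbe, show (e * ca)⁻¹ * (e * cb) = ca⁻¹ * cb by group]
            exact mul_mem (inv_mem hca) hcb
        exact (Nat.card_le_card_of_injective f hf).trans (by simp)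
      rw [card_conjSub] at h1
      omega
    obtain ⟨c0, hc0, rfl⟩ := hd
    have hdd : s * c0 * s⁻¹ ∈ C := hdC
    have hfix : s * (s * c0 * s⁻¹) * s⁻¹ = c0 := by
      rw [show s * (s * c0 * s⁻¹) * s⁻¹ = s * s * c0 * (s * s)⁻¹ by group]
      refine mul_inv_eq_iff_eq_mul.2 ?_
      have hTc : ∀ t ∈ core X, t * c0 = c0 * t := by
        intro t ht
        obtain ⟨v, hv, c, hc, rfl⟩ := H.decomp t ht
        rw [mul_assoc, hcomm c hc c0 hc0, ← mul_assoc, H.W_comm hv (H.leC hc0), mul_assoc]
      rcases H.R_cases h hX H.s2 with h1 | h1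
      · exact hTc _ h1
      · have h2 : Commute (s * s * u) c0 := hTc _ h1
        have h3 := h2.mul_left (Commute.inv_left (show Commute u c0 from (H.commU c0 hc0).symm))
        rw [mul_inv_cancel_right] at h3
        exact h3.eq
    by_cases heq : s * c0 * s⁻¹ = c0
    · exact ⟨c0, hc0, fun r => hd1 (by rw [r]; simp), hel c0 hc0, fun d hd => hcomm d hd c0 hc0,
        mul_inv_eq_iff_eq_mul.1 heq⟩
    · have hmem : c0 * (s * c0 * s⁻¹) ∈ C := mul_mem hc0 hdd
      refine ⟨_, hmem, fun r => heq ?_, hel _ hmem, fun d hd => hcomm d hd _ hmem,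
        mul_inv_eq_iff_eq_mul.1 ?_⟩
      · exact (inv_eq_of_mul_eq_one_right r).symm.trans (inv_eq_of_mul_eq_one_right (hel c0 hc0))
      · calc s * (c0 * (s * c0 * s⁻¹)) * s⁻¹ = (s * c0 * s⁻¹) * (s * (s * c0 * s⁻¹) * s⁻¹) := by group
          _ = c0 * (s * c0 * s⁻¹) := by rw [hfix]; exact (hcomm c0 hc0 _ hdd).symm
  · push Not at hel
    obtain ⟨a, haC, ha⟩ := hel
    obtain ⟨b, hb, hb4⟩ : ∃ b ∈ C, orderOf b = 4 := by
      obtain ⟨j, hj⟩ := ((core_isPGroup X).to_le H.leC).exists_card_eq
      have hj3 : j ≤ 3 := by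
        by_contra hlt
        have := Nat.pow_le_pow_right (show 2 > 0 by norm_num) (show 4 ≤ j by omega)
        omega
      obtain ⟨i, hij, hi⟩ := (Nat.dvd_prime_pow Nat.prime_two).1 (hj ▸ Subgroup.orderOf_dvd_natCard C haC)
      rcases i with _ | _ | _ | _ | i
      · exact absurd (by rw [orderOf_eq_one_iff.1 hi, one_mul]) ha
      · exact absurd (by rw [← sq]; exact orderOf_dvd_iff_pow_eq_one.1 (by rw [hi]; norm_num)) ha
      · exact ⟨a, haC, hi⟩
      · refine ⟨a ^ 2, pow_mem haC 2, ?_⟩
        rw [orderOf_pow, hi]; norm_num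
      · omega
    have key : ∀ y ∈ C, y * y ≠ 1 → y * y * (y * y) = 1 → y * y = b * b := by
      intro y hy hy1 hy2
      set K := (zpowers b).subgroupOf C
      have hKi : K.index ≤ 2 := by
        have h1 := Subgroup.card_mul_index K
        rw [Nat.card_congr (subgroupOfEquivOfLe (zpowers_le.2 hb)).toEquiv, Nat.card_zpowers, hb4] at h1
        omega
      have hyK : y * y ∈ zpowers b := by
        rcases (show K.index = 1 ∨ K.index = 2 by
          have : K.index ≠ 0 := Subgroup.index_ne_zero_of_finite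
          omega) with h1 | h1
        · exact (show (⟨y * y, mul_mem hy hy⟩ : ↥C) ∈ K by rw [index_eq_one.1 h1]; trivial)
        · exact mem_subgroupOf.1 ((mul_mem_iff_of_index_two h1 (a := (⟨y, hy⟩ : ↥C))).2 Iff.rfl)
      obtain ⟨n, hn⟩ := hyK
      have hn' : b ^ n = y * y := hn
      rw [← hn'] at hy1 hy2 ⊢
      rw [← zpow_add, ← orderOf_dvd_iff_zpow_eq_one, hb4] at hy2
      rw [Ne, ← orderOf_dvd_iff_zpow_eq_one, hb4] at hy1
      rw [show b * b = b ^ (2 : ℤ) from (zpow_two b).symm, zpow_eq_zpow_iff_modEq, hb4]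
      unfold Int.ModEq
      omega
    have hq1 : b * b ≠ 1 := fun r => by
      have h1 : orderOf b ∣ 2 := orderOf_dvd_of_pow_eq_one (by rw [sq, r])
      rw [hb4] at h1
      omega
    have hq2 : b * b * (b * b) = 1 := by rw [← pow_orderOf_eq_one b, hb4]; simp [pow_succ, mul_assoc]
    refine ⟨b * b, mul_mem hb hb, hq1, hq2, fun d hd => ?_, ?_⟩
    · have e1 : d * b * d⁻¹ * (d * b * d⁻¹) = d * (b * b) * d⁻¹ := by group
      have h1 := key (d * b * d⁻¹) (mul_mem (mul_mem hd hb) (inv_mem hd))
        (by rw [e1]; exact fun r => hq1 (conj_eq_one_iff.1 r))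
        (by rw [e1, show d * (b * b) * d⁻¹ * (d * (b * b) * d⁻¹) = d * (b * b * (b * b)) * d⁻¹ by group, hq2]; group)
      rw [e1] at h1
      exact mul_inv_eq_iff_eq_mul.1 h1
    · obtain ⟨v, hv, c', hc', hvc⟩ := hsC b hb
      have hvW : v ∈ W := by rcases hv with rfl | rfl; exacts [one_mem W, H.eW]
      have e1 : c' * c' = s * (b * b) * s⁻¹ := by
        calc c' * c' = (v * v) * (c' * c') := by rw [H.W_sq hvW, one_mul]
          _ = v * (v * c') * c' := by group
          _ = v * (c' * v) * c' := by rw [H.W_comm hvW (H.leC hc')]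
          _ = (s * b * s⁻¹) * (s * b * s⁻¹) := by rw [hvc]; group
          _ = s * (b * b) * s⁻¹ := by group
      have h1 := key c' hc' (by rw [e1]; exact fun r => hq1 (conj_eq_one_iff.1 r))
        (by rw [e1, show s * (b * b) * s⁻¹ * (s * (b * b) * s⁻¹) = s * (b * b * (b * b)) * s⁻¹ by group, hq2]; group)
      rw [e1] at h1
      exact mul_inv_eq_iff_eq_mul.1 h1

set_option maxHeartbeats 2000000 in
/-- If `C` is non-trivial, some involution has centraliser of order 64 in `S`. -/
theorem Shape.exists_large (hC : 2 ≤ Nat.card C) :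
    ∃ c ∈ (S : Subgroup G), Nat.card ↥((S : Subgroup G) ⊓ centralizer ({c} : Set G)) = 64 ∧ c * c = 1 := by
  haveI : Fact (Nat.Prime 2) := ⟨Nat.prime_two⟩
  obtain ⟨hT'R, hback, hRn, -, -, -⟩ := hX.conjugate_facts h H.sS H.sX H.sN H.s2
  set R := (S : Subgroup G) ⊓ X with hR
  set T := core X with hT
  set T' := conjSub s T with hT'
  obtain ⟨z, hz, hz2, hzc⟩ := h.exists_central
  have hz1 := CfsgLib.Invol.ne_one_of_orderOf_two hz2
  have hTR : T ≤ R := hX.core_le_R
  have hcRc : ∀ c ∈ C, (∀ d ∈ C, d * c = c * d) → ∀ r ∈ R, r * c = c * r := by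
    intro c hc hcc r hr
    have hT : ∀ t ∈ T, t * c = c * t := by
      intro t ht
      obtain ⟨v, hv, d, hd, rfl⟩ := H.decomp t ht
      rw [mul_assoc, hcc d hd, ← mul_assoc, H.W_comm hv (H.leC hc), mul_assoc]
    rcases H.R_cases h hX hr with h1 | h1
    · exact hT r h1
    · have h3 := (show Commute (r * u) c from hT _ h1).mul_left
        (Commute.inv_left (show Commute u c from (H.commU c hc).symm))
      rw [mul_inv_cancel_right] at h3
      exact h3.eq
  have hnS : ∀ c ∈ C, c ≠ 1 → (S : Subgroup G) ⊓ centralizer ({c} : Set G) ≠ (S : Subgroup G) := by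
    intro c hc hc1 e'
    refine h.not_commute_central (mem_inf.1 (hTR (H.leC hc))).1 hc1 ?_ H.w3 (H.commW c hc).symm
    exact mem_centralizer_iff.2 fun y hy => mem_centralizer_singleton_iff.1 (mem_inf.1 (e'.ge hy)).2
  by_cases hC4 : 4 ≤ Nat.card C
  · obtain ⟨c, hc, hc1, hc2, hcc, hsc⟩ := H.exists_fixed h hX hC4
    set M := (S : Subgroup G) ⊓ centralizer ({c} : Set G) with hM
    have hRM : R ≤ M := fun r hr => mem_inf.2 ⟨(mem_inf.1 hr).1,
      mem_centralizer_singleton_iff.2 (hcRc c hc hcc r hr)⟩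
    have hlt : R < M := lt_of_le_of_ne hRM fun e' =>
      H.sX (mem_inf.1 (e'.ge (mem_inf.2 ⟨H.sS, mem_centralizer_singleton_iff.2 hsc⟩))).2
    refine ⟨c, (mem_inf.1 (hTR (H.leC hc))).1, ?_, hc2⟩
    have h1 := two_mul_card_le hlt
    have h2 := two_mul_card_le (lt_of_le_of_ne (inf_le_left : M ≤ _) (hnS c hc hc1))
    rw [h.card_sylow] at h2
    rw [hX.card_R h, H.cardT] at h1
    obtain ⟨j, -, hj⟩ := h.card_cases (inf_le_left : M ≤ _)
    rw [hj] at h1 h2 ⊢
    have h3 : 6 ≤ j := (Nat.pow_le_pow_iff_right one_lt_two).1 (show 2 ^ 6 ≤ 2 ^ j by omega)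
    have h4 : j ≤ 6 := (Nat.pow_le_pow_iff_right one_lt_two).1 (show 2 ^ j ≤ 2 ^ 6 by omega)
    rw [show j = 6 by omega]; norm_num
  · have hC2 : Nat.card C = 2 := by
      obtain ⟨j, hj⟩ := ((core_isPGroup X).to_le H.leC).exists_card_eq
      rw [hj] at hC hC4 ⊢
      rcases j with _ | _ | j
      · simp at hC
      · rfl
      · exact absurd (Nat.pow_le_pow_right (show 2 > 0 by norm_num) (show 2 ≤ j + 2 by omega)) hC4
    obtain ⟨c', hc'1, huniq⟩ := (Nat.card_eq_two_iff' (1 : ↥C)).1 hC2
    set c := (c' : G) with hcdef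
    have hc : c ∈ C := c'.2
    have hc1 : c ≠ 1 := fun r => hc'1 (Subtype.ext r)
    have hCc : ∀ d ∈ C, d = 1 ∨ d = c := fun d hd => or_iff_not_imp_left.2 fun hd1 =>
      congrArg Subtype.val (huniq ⟨d, hd⟩ fun r => hd1 (congrArg Subtype.val r))
    have hcc : c * c = 1 := by
      rcases hCc _ (mul_mem hc hc) with r | r
      · exact r
      · exact absurd (mul_eq_left.1 r) hc1
    have hcC : ∀ d ∈ C, d * c = c * d := fun d hd => by rcases hCc d hd with rfl | rfl <;> simp
    have hec : e * c = c * e := H.W_comm H.eW (H.leC hc)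
    have hecne : e * c ≠ 1 := fun r => H.e1 (H.disj e H.eW (eq_inv_of_mul_eq_one_left r ▸ inv_mem hc))
    have hT2 : ∀ t ∈ T, t * t = 1 := by
      intro t ht
      obtain ⟨v, hv, d, hd, rfl⟩ := H.decomp t ht
      rw [show v * d * (v * d) = v * (d * v) * d by group, ← H.W_comm hv (H.leC hd), ← mul_assoc v v d,
        H.W_sq hv, one_mul]
      rcases hCc d hd with rfl | rfl
      · exact one_mul 1
      · exact hcc
    have hDc : ∀ t ∈ T, t ∈ T' → t ≠ 1 → t = c ∨ t = e ∨ t = e * c := by
      intro t ht ht' ht1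
      obtain ⟨v, hv, d, hd, rfl⟩ := H.mem_inter hX ht ht'
      rcases hv with rfl | rfl <;> rcases hCc d hd with rfl | rfl <;> simp_all
    have hRc : ∀ r ∈ R, r * c = c * r := hcRc c hc hcC
    have hcR : c ∈ R := hTR (H.leC hc)
    have hcT' : c ∈ T' := H.leT' hc
    set M := (S : Subgroup G) ⊓ centralizer ({c} : Set G) with hM
    have hRM : R ≤ M := fun r hr => mem_inf.2 ⟨(mem_inf.1 hr).1, mem_centralizer_singleton_iff.2 (hRc r hr)⟩
    have hTcard : Nat.card T = 8 := by rw [H.cardT, hC2]
    have hRcard : Nat.card R = 16 := by rw [hX.card_R h, hTcard]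
    have hNT : ∀ n ∈ (S : Subgroup G), n ∈ normalizer (T : Set G) → n ∈ R := fun n hn hnT =>
      mem_inf.2 ⟨hn, hX.normalizer_core ▸ hnT⟩
    have hM7 : Nat.card M ≠ 128 := fun e' => hnS c hc hc1
      (eq_of_le_of_card_ge inf_le_left (by rw [h.card_sylow, e']; norm_num))
    refine ⟨c, (mem_inf.1 hcR).1, ?_, hcc⟩
    obtain ⟨j, hj7, hj⟩ := h.card_cases (inf_le_left : M ≤ _)
    have hj4 : 4 ≤ j := (Nat.pow_le_pow_iff_right one_lt_two).1 (show 2 ^ 4 ≤ 2 ^ j by
      rw [← hj]; exact le_trans (le_of_eq (by rw [hRcard]; norm_num)) (card_le_of_le hRM))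
    have hjne7 : j ≠ 7 := fun r => hM7 (by rw [hj, r]; norm_num)
    by_contra h64
    have hjne6 : j ≠ 6 := fun r => h64 (by rw [hj, r]; norm_num)
    have hscases : s * c * s⁻¹ = c ∨ s * c * s⁻¹ = e * c := by
      rcases hDc _ (hback c hcT') (conj_mem_conjSub (H.leC hc)) (fun r => hc1 (conj_eq_one_iff.1 r)) with
        r | r | r
      · exact Or.inl r
      · refine absurd ?_ hc1
        have : s * c * s⁻¹ = s * e * s⁻¹ := by rw [r, H.es, mul_inv_cancel_right]
        exact H.disj c ((mul_left_cancel (mul_right_cancel this)) ▸ H.eW) hc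
      · exact Or.inr r
    rcases hscases with hsc | hsc
    · -- `s` centralises `c`
      have hsM : s ∈ M := mem_inf.2 ⟨H.sS, mem_centralizer_singleton_iff.2 (mul_inv_eq_iff_eq_mul.1 hsc)⟩
      have hltM : R < M := lt_of_le_of_ne hRM fun e' => H.sX (mem_inf.1 (e'.ge hsM)).2
      have hj5 : j = 5 := by
        have h1 := two_mul_card_le hltM
        rw [hRcard, hj] at h1
        have : 5 ≤ j := (Nat.pow_le_pow_iff_right one_lt_two).1 (show 2 ^ 5 ≤ 2 ^ j by omega)
        omega
      subst hj5
      have hRi : R.relIndex M = 2 := by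
        have h1 := Subgroup.card_mul_index (R.subgroupOf M)
        rw [Nat.card_congr (subgroupOfEquivOfLe hRM).toEquiv, hRcard, hj] at h1
        show (R.subgroupOf M).index = 2
        norm_num at h1; omega
      have hswapM : ∀ m ∈ M, m ∉ R → ∀ t ∈ T, m * t * m⁻¹ ∈ T' := by
        intro m hm hmR t ht
        have hsR : s⁻¹ * m ∈ R := mul_mem_of_relIndex_two hRi (inv_mem hsM) hm
          (fun r => H.sX (by simpa using (mem_inf.1 (inv_mem r)).2)) hmR
        refine ⟨(s⁻¹ * m) * t * (s⁻¹ * m)⁻¹, hX.normal_core (mem_inf.1 hsR).2 ht, ?_⟩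
        show s * ((s⁻¹ * m) * t * (s⁻¹ * m)⁻¹) * s⁻¹ = m * t * m⁻¹
        group
      obtain ⟨v, hvM2, hvM⟩ : ∃ v ∈ (S : Subgroup G) ⊓ normalizer (M : Set G), v ∉ M :=
        SetLike.exists_of_lt (CfsgLib.Techniques.Functor.lt_norm S.2
          (lt_of_le_of_ne inf_le_left (hnS c hc hc1)))
      have hzD : z = e ∨ z = e * c := by
        have hzT : z ∈ T := hX.central_mem hz hzc
        have hzT' : z ∈ T' := ⟨z, hzT, show s * z * s⁻¹ = z by
          rw [mem_centralizer_iff.1 hzc s H.sS, mul_inv_cancel_right]⟩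
        refine (hDc z hzT hzT' hz1).resolve_left fun r => ?_
        exact h.not_commute_central hz hz1 hzc H.w3 (r ▸ (H.commW c hc).symm)
      have hzz : z * z = 1 := CfsgLib.Invol.mul_self_of_orderOf_two hz2
      have hother : ∀ n ∈ (S : Subgroup G) ⊓ normalizer (M : Set G), n ∉ M → n * c * n⁻¹ = z * c := by
        intro n hn hnM
        set c'' := n * c * n⁻¹ with hc''
        have hcM : c'' ∈ M := conj_mem_of_normalizer (mem_inf.1 hn).2 (hRM hcR)
        have hcomm : ∀ m ∈ M, Commute c'' m := by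
          intro m hm
          have h1 : Commute c (n⁻¹ * m * n) := (mem_centralizer_singleton_iff.1
            (mem_inf.1 (conj_inv_mem_of_normalizer (mem_inf.1 hn).2 hm)).2).symm
          have h2 := h1.map (MulAut.conj n).toMonoidHom
          simp only [MulEquiv.coe_toMonoidHom, MulAut.conj_apply] at h2
          rwa [show n * (n⁻¹ * m * n) * n⁻¹ = m by group] at h2
        have hR'' : c'' ∈ R := by
          by_contra hno
          refine H.not_le_T' (H.T'_ne hX) fun t ht => ?_
          have := hswapM c'' hcM hno t (H.W_le_T ht)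
          rwa [(hcomm t (hRM (hTR (H.W_le_T ht)))).eq, mul_inv_cancel_right] at this
        have hT'' : c'' ∈ T := hX.centralizer_core_le (mem_centralizer_iff.2 fun t ht =>
          (hcomm t (hRM (hTR ht))).eq.symm)
        have hT''' : c'' ∈ T' := by
          have := hswapM s hsM (fun r => H.sX (mem_inf.1 r).2) c'' hT''
          rwa [← (hcomm s hsM).eq, mul_inv_cancel_right] at this
        have hne1 : c'' ≠ 1 := fun r => hc1 (conj_eq_one_iff.1 r)
        have hnec : c'' ≠ c := fun r => hnM (mem_inf.2 ⟨(mem_inf.1 hn).1,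
          mem_centralizer_singleton_iff.2 (mul_inv_eq_iff_eq_mul.1 r)⟩)
        have hnez : c'' ≠ z := fun r => hc1 (by
          have e' : n * c * n⁻¹ = n * z * n⁻¹ := by
            rw [← hc'', r, mem_centralizer_iff.1 hzc n (mem_inf.1 hn).1, mul_inv_cancel_right]
          have e'' : c = z := mul_left_cancel (mul_right_cancel e')
          exact absurd (e'' ▸ (H.commW c hc).symm) (h.not_commute_central hz hz1 hzc H.w3))
        rcases (hDc c'' hT'' hT''' hne1).resolve_left hnec with r | r <;> rcases hzD with r' | r'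
        · exact absurd (r.trans r'.symm) hnez
        · rw [r, r', mul_assoc, hcc, mul_one]
        · rw [r, r']
        · exact absurd (r.trans r'.symm) hnez
      set M2 := (S : Subgroup G) ⊓ normalizer (M : Set G) with hM2
      have hMM2 : M ≤ M2 := le_inf inf_le_left le_normalizer
      have hM2i : M2.relIndex (S : Subgroup G) = 2 := by
        have h1 := card_le_two_mul (H := M) v⁻¹ (K := M2) fun x hx => or_iff_not_imp_left.2 fun hxM =>
          mem_inf.2 ⟨mul_mem (inv_mem (mem_inf.1 hvM2).1) (mem_inf.1 hx).1,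
            mem_centralizer_singleton_iff.2 (by
              have e1 := (hother x hx hxM).trans (hother v hvM2 hvM).symm
              calc v⁻¹ * x * c = v⁻¹ * (x * c * x⁻¹) * x := by group
                _ = v⁻¹ * (v * c * v⁻¹) * x := by rw [e1]
                _ = c * (v⁻¹ * x) := by group)⟩
        have h2 := two_mul_card_le (lt_of_le_of_ne hMM2 fun e' => hvM (e'.ge hvM2))
        have h3 := Subgroup.card_mul_index (M2.subgroupOf (S : Subgroup G))
        rw [Nat.card_congr (subgroupOfEquivOfLe (inf_le_left : M2 ≤ _)).toEquiv, h.card_sylow,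
          show Nat.card M2 = 64 by rw [hj] at h1 h2; norm_num at h1 h2; omega] at h3
        show (M2.subgroupOf (S : Subgroup G)).index = 2
        omega
      obtain ⟨y, hyS, hyM2⟩ : ∃ y ∈ (S : Subgroup G), y ∉ M2 := by
        by_contra hno
        push Not at hno
        rw [show M2.relIndex (S : Subgroup G) = 1 from relIndex_eq_one.2 hno] at hM2i
        omega
      have hyn : ∀ r ∈ M2, y⁻¹ * r * y ∈ M2 := fun r hr => by
        have := commutator_mem_of_index_two (inf_le_left : M2 ≤ _) hM2i (inv_mem hyS) (mem_inf.1 hr).1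
        have := mul_mem this hr
        rwa [show y⁻¹ * r * y⁻¹⁻¹ * r⁻¹ * r = y⁻¹ * r * y by group] at this
      set c'' := y * c * y⁻¹ with hc''
      have hclass : ∀ r ∈ M2, r * c'' * r⁻¹ = c'' ∨ r * c'' * r⁻¹ = z * c'' := by
        intro r hr
        have e1 : r * c'' * r⁻¹ = y * ((y⁻¹ * r * y) * c * (y⁻¹ * r * y)⁻¹) * y⁻¹ := by rw [hc'']; group
        by_cases hm : y⁻¹ * r * y ∈ M
        · left
          rw [e1, mem_centralizer_singleton_iff.1 (mem_inf.1 hm).2, mul_inv_cancel_right]
        · right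
          rw [e1, hother _ (hyn r hr) hm, ← mul_assoc y, mem_centralizer_iff.1 hzc y hyS, hc'']
          group
      have hzT : z ∈ T := hX.central_mem hz hzc
      have hc''S : c'' ∈ (S : Subgroup G) :=
        mul_mem (mul_mem hyS (mem_inf.1 hcR).1) (inv_mem hyS)
      have hc''R : c'' ∈ R := hNT c'' hc''S (mem_normalizer_of_maps fun t ht => by
        rcases hclass t (hMM2 (hRM (hTR ht))) with r | r
        · rw [← mul_inv_eq_iff_eq_mul.1 r, mul_inv_cancel_right]; exact ht
        · have h1 : t * c'' = c'' * (z * t) := by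
            rw [mul_inv_eq_iff_eq_mul.1 r, ← mem_centralizer_iff.1 hzc _ hc''S, mul_assoc]
          have h2 : c'' * t = z * (t * c'') := by
            rw [h1, ← mul_assoc z c'', ← mem_centralizer_iff.1 hzc _ hc''S, mul_assoc c'' z,
              ← mul_assoc z z t, hzz, one_mul]
          rw [h2, ← mul_assoc z, mul_inv_cancel_right]; exact mul_mem hzT ht)
      have hcc'' : c'' * c'' = 1 := by
        rw [hc'', show y * c * y⁻¹ * (y * c * y⁻¹) = y * (c * c) * y⁻¹ by group, hcc]; group
      have hs'' := hclass s (hMM2 hsM)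
      have hzs : z ∈ T' := ⟨z, hzT, show s * z * s⁻¹ = z by
        rw [mem_centralizer_iff.1 hzc s H.sS, mul_inv_cancel_right]⟩
      have hc''T : c'' ∈ T := by
        by_contra hno
        have h1 := hback c'' (H.invol h hX hc''R hcc'' hno)
        rcases hs'' with r | r <;> rw [r] at h1
        · exact hno h1
        · exact hno (by have := mul_mem (inv_mem hzT) h1; rwa [inv_mul_cancel_left] at this)
      have hc''T' : c'' ∈ T' := by
        rcases hs'' with r | r <;> have h1 : s * c'' * s⁻¹ ∈ T' := conj_mem_conjSub hc''T <;> rw [r] at h1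
        · exact h1
        · have := mul_mem (inv_mem hzs) h1; rwa [inv_mul_cancel_left] at this
      have hne1 : c'' ≠ 1 := fun r => hc1 (conj_eq_one_iff.1 r)
      have hcase : c'' = c ∨ c'' = z * c := by
        rcases hDc c'' hc''T hc''T' hne1 with r | r | r
        · exact Or.inl r
        all_goals rcases hzD with r' | r'
        · exact absurd (mul_left_cancel (mul_right_cancel (show y * c * y⁻¹ = y * z * y⁻¹ by
              rw [← hc'', r, ← r', mem_centralizer_iff.1 hzc y hyS, mul_inv_cancel_right])))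
            fun e' => h.not_commute_central hz hz1 hzc H.w3 (e' ▸ (H.commW c hc).symm)
        · exact Or.inr (by rw [r, r', mul_assoc, hcc, mul_one])
        · exact Or.inr (by rw [r, r'])
        · exact absurd (mul_left_cancel (mul_right_cancel (show y * c * y⁻¹ = y * z * y⁻¹ by
              rw [← hc'', r, ← r', mem_centralizer_iff.1 hzc y hyS, mul_inv_cancel_right])))
            fun e' => h.not_commute_central hz hz1 hzc H.w3 (e' ▸ (H.commW c hc).symm)
      rcases hcase with r | r
      · exact hyM2 (hMM2 (mem_inf.2 ⟨hyS, mem_centralizer_singleton_iff.2 (mul_inv_eq_iff_eq_mul.1 r)⟩))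
      · refine hyM2 ?_
        have e1 : y * c * y⁻¹ = v * c * v⁻¹ := by rw [hother v hvM2 hvM]; exact r
        have hm : v⁻¹ * y ∈ M := mem_inf.2 ⟨mul_mem (inv_mem (mem_inf.1 hvM2).1) hyS,
          mem_centralizer_singleton_iff.2 (by
            calc v⁻¹ * y * c = v⁻¹ * (y * c * y⁻¹) * y := by group
              _ = v⁻¹ * (v * c * v⁻¹) * y := by rw [e1]
              _ = c * (v⁻¹ * y) := by group)⟩
        have := mul_mem hvM2 (hMM2 hm)
        rwa [mul_inv_cancel_left] at this
    · -- `s` moves `c`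
      have hsnc : s * c ≠ c * s := fun r => H.e1 (by
        rw [r, mul_inv_cancel_right] at hsc; exact mul_eq_right.1 hsc.symm)
      set R1 := (S : Subgroup G) ⊓ normalizer (R : Set G) with hR1
      have hRR1 : R ≤ R1 := le_inf inf_le_left le_normalizer
      have hsR1 : s ∈ R1 := mem_inf.2 ⟨H.sS, H.sN⟩
      have hR1c : ∀ n ∈ R1, n ∈ R ∨ s⁻¹ * n ∈ R := by
        intro n hn
        by_cases hA : conjSub n T ≤ T
        · exact Or.inl (hNT n (mem_inf.1 hn).1 (conjSub_eq_iff_mem_normalizer.1
            (eq_of_le_of_card_ge hA (card_conjSub n T).ge)))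
        · refine Or.inr (hNT _ (mul_mem (inv_mem H.sS) (mem_inf.1 hn).1) (mem_normalizer_of_maps ?_))
          obtain ⟨a, haA, haT⟩ := SetLike.not_le_iff_exists.1 hA
          have hAR : conjSub n T ≤ R := by
            rintro _ ⟨t, ht, rfl⟩
            exact conj_mem_of_normalizer (mem_inf.1 hn).2 (hTR ht)
          have hAe : ∀ x ∈ conjSub n T, x * x = 1 := by
            rintro _ ⟨t, ht, rfl⟩
            show n * t * n⁻¹ * (n * t * n⁻¹) = 1
            rw [show n * t * n⁻¹ * (n * t * n⁻¹) = n * (t * t) * n⁻¹ by group, hT2 t ht]; group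
          have haT' := H.invol h hX (hAR haA) (hAe a haA) haT
          intro t ht
          have hmem : n * t * n⁻¹ ∈ conjSub n T := conj_mem_conjSub ht
          have h1 : n * t * n⁻¹ ∈ T' := by
            by_cases hb : n * t * n⁻¹ ∈ T
            · have h2 := mul_mem haA hmem
              have h3 : a * (n * t * n⁻¹) ∉ T := fun r => haT (by
                have := mul_mem r (inv_mem hb); rwa [mul_inv_cancel_right] at this)
              have := mul_mem (inv_mem haT') (H.invol h hX (hAR h2) (hAe _ h2) h3)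
              rwa [inv_mul_cancel_left] at this
            · exact H.invol h hX (hAR hmem) (hAe _ hmem) hb
          obtain ⟨t', ht', e'⟩ := h1
          have e'' : s * t' * s⁻¹ = n * t * n⁻¹ := e'
          rw [show s⁻¹ * n * t * (s⁻¹ * n)⁻¹ = s⁻¹ * (n * t * n⁻¹) * s by group, ← e'']
          rwa [show s⁻¹ * (s * t' * s⁻¹) * s = t' by group]
      have hR132 : Nat.card R1 = 32 := by
        have h1 := card_le_two_mul s⁻¹ hR1c
        have h2 := two_mul_card_le (lt_of_le_of_ne hRR1 fun e' => H.sX (mem_inf.1 (e'.ge hsR1)).2)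
        rw [hRcard] at h1 h2
        omega
      have hR1i : R.relIndex R1 = 2 := by
        have h1 := Subgroup.card_mul_index (R.subgroupOf R1)
        rw [Nat.card_congr (subgroupOfEquivOfLe hRR1).toEquiv, hRcard, hR132] at h1
        show (R.subgroupOf R1).index = 2
        omega
      have hMR : M = R := by
        by_contra hne
        obtain ⟨n, hn, hnR⟩ := SetLike.exists_of_lt (CfsgLib.Techniques.Functor.lt_norm (S.2.to_le inf_le_left)
          (lt_of_le_of_ne hRM (Ne.symm hne)))
        obtain ⟨hnM, hnN⟩ := mem_inf.1 hn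
        have h1 := (hR1c n (mem_inf.2 ⟨(mem_inf.1 hnM).1, hnN⟩)).resolve_left hnR
        have h2 : s⁻¹ ∈ M := by
          have := mul_mem (hRM h1) (inv_mem hnM); rwa [mul_inv_cancel_right] at this
        exact hsnc (mem_centralizer_singleton_iff.1 (mem_inf.1 ((inv_mem_iff).1 h2)).2)
      have hR1e : ∀ r ∈ R1, r * e = e * r := fun r hr => by
        rcases hR1c r hr with h1 | h1
        · exact H.R_comm_e h hX h1
        · have h2 := (show Commute s e from H.es).mul_left (show Commute (s⁻¹ * r) e from H.R_comm_e h hX h1)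
          rw [mul_inv_cancel_left] at h2
          exact h2.eq
      have hswap : ∀ n ∈ R1, n ∉ R → (∀ t ∈ T, n * t * n⁻¹ ∈ T') ∧ ∀ t ∈ T', n * t * n⁻¹ ∈ T := by
        intro n hn hnR
        have h1 := (hR1c n hn).resolve_left hnR
        refine ⟨fun t ht => ⟨(s⁻¹ * n) * t * (s⁻¹ * n)⁻¹, hX.normal_core (mem_inf.1 h1).2 ht,
          show s * ((s⁻¹ * n) * t * (s⁻¹ * n)⁻¹) * s⁻¹ = n * t * n⁻¹ by group⟩, fun t ht => ?_⟩
        have h2 := hback _ (conj_mem_of_normalizer (hRn _ h1) ht)
        rwa [show s * (s⁻¹ * n * t * (s⁻¹ * n)⁻¹) * s⁻¹ = n * t * n⁻¹ by group] at h2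
      have hlt1 : R1 < (S : Subgroup G) := lt_of_le_of_ne inf_le_left fun e' => by
        have := h.card_sylow; rw [← e', hR132] at this; norm_num at this
      obtain ⟨v, hv, hvR1⟩ := SetLike.exists_of_lt (CfsgLib.Techniques.Functor.lt_norm S.2 hlt1)
      obtain ⟨hvS, hvN⟩ := mem_inf.1 hv
      set R2 := conjSub v R with hR2
      have hR21 : R2 ≤ R1 := by
        rintro _ ⟨r, hr, rfl⟩
        exact conj_mem_of_normalizer hvN (hRR1 hr)
      obtain ⟨g, hg2, hgR⟩ : ∃ g ∈ R2, g ∉ R := by
        by_contra hno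
        push Not at hno
        exact hvR1 (mem_inf.2 ⟨hvS, conjSub_eq_iff_mem_normalizer.1
          (eq_of_le_of_card_ge hno (card_conjSub v R).ge)⟩)
      set cv := v * c * v⁻¹ with hcv
      have hcv2 : cv ∈ R2 := conj_mem_conjSub hcR
      have hcvcomm : ∀ x ∈ R2, Commute cv x := by
        rintro _ ⟨r, hr, rfl⟩
        exact (show Commute c r from (hRc r hr).symm).map (MulAut.conj v).toMonoidHom
      have hcvR : cv ∈ R := by
        by_contra hno
        have hsw := hswap cv (hR21 hcv2) hno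
        set K := R ⊓ R2 with hK
        have hK8 : 8 ≤ Nat.card K := by
          have h1 := card_eq_two_mul (relIndex_eq_two hR21 hR1i fun hle => hgR (hle hg2))
          rw [← hK] at h1
          have h2 : Nat.card R2 = 16 := by rw [hR2, card_conjSub, hRcard]
          omega
        have hKT : ∀ t ∈ K, t ∈ T → t = 1 ∨ t = c ∨ t = e ∨ t = e * c := by
          intro t ht htT
          have h1 := hsw.1 t htT
          rw [(hcvcomm t (mem_inf.1 ht).2).eq, mul_inv_cancel_right] at h1
          exact or_iff_not_imp_left.2 (hDc t htT h1)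
        have hcK : c ∈ K := by
          by_contra hck
          have h1 : Nat.card ↥(K ⊓ T) ≤ 3 := by
            have hsub : ((K ⊓ T : Subgroup G) : Set G) ⊆ {1, e, e * c} := fun t ht => by
              obtain ⟨ht1, ht2⟩ := mem_inf.1 ht
              rcases hKT t ht1 ht2 with r | r | r | r
              · exact Or.inl r
              · exact absurd (r ▸ ht1) hck
              · exact Or.inr (Or.inl r)
              · exact Or.inr (Or.inr r)
            have := Set.ncard_le_ncard hsub (Set.toFinite _)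
            refine this.trans ?_
            exact (Set.ncard_insert_le _ _).trans (by
              have := Set.ncard_insert_le e ({e * c} : Set G); simp at this ⊢; omega)
          have h2 : 4 ≤ Nat.card ↥(K ⊓ T) := by
            have h3 := Subgroup.card_mul_index (T.subgroupOf K)
            rw [← inf_subgroupOf_right, Nat.card_congr (subgroupOfEquivOfLe (inf_le_right : T ⊓ K ≤ K)).toEquiv,
              inf_subgroupOf_right, inf_comm] at h3
            have h4 : (T.subgroupOf K).index ≤ 2 := by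
              have h5 : T.relIndex R = 2 := by
                have h6 := Subgroup.card_mul_index (T.subgroupOf R)
                rw [Nat.card_congr (subgroupOfEquivOfLe hTR).toEquiv, hTcard, hRcard] at h6
                show (T.subgroupOf R).index = 2
                omega
              exact (relIndex_le_of_le_right (inf_le_left : K ≤ R) (by omega)).trans h5.le
            have h7 : 8 ≤ Nat.card ↥(K ⊓ T) * (T.subgroupOf K).index := h3 ▸ hK8
            have h8 : Nat.card ↥(K ⊓ T) * (T.subgroupOf K).index ≤ Nat.card ↥(K ⊓ T) * 2 :=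
              Nat.mul_le_mul le_rfl h4
            omega
          omega
        have : cv ∈ M := mem_inf.2 ⟨(mem_inf.1 (hR21 hcv2)).1,
          mem_centralizer_singleton_iff.2 (hcvcomm c (mem_inf.1 hcK).2).eq⟩
        rw [hMR] at this
        exact hno this
      have hcvcv : cv * cv = 1 := by
        rw [hcv, show v * c * v⁻¹ * (v * c * v⁻¹) = v * (c * c) * v⁻¹ by group, hcc]; group
      have hgsw := hswap g (hR21 hg2) hgR
      have hgc : g * cv * g⁻¹ = cv := by rw [← (hcvcomm g hg2).eq, mul_inv_cancel_right]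
      have hcvT : cv ∈ T := by
        by_contra hno
        exact hno (hgc ▸ hgsw.2 cv (H.invol h hX hcvR hcvcv hno))
      have hgcomm : g * c = c * g := by
        rcases hDc cv hcvT (hgc ▸ hgsw.1 cv hcvT) (fun r => hc1 (conj_eq_one_iff.1 r)) with r | r | r
        · exact r ▸ (hcvcomm g hg2).eq.symm
        · exfalso
          have h1 : Commute e (v * s * v⁻¹) := (hR1e _ (conj_mem_of_normalizer hvN hsR1)).symm
          rw [← r] at h1
          refine hsnc ?_
          have h2 := h1.map (MulAut.conj v⁻¹).toMonoidHom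
          simp only [MulEquiv.coe_toMonoidHom, MulAut.conj_apply, hcv] at h2
          rw [show v⁻¹ * (v * c * v⁻¹) * v⁻¹⁻¹ = c by group,
            show v⁻¹ * (v * s * v⁻¹) * v⁻¹⁻¹ = s by group] at h2
          exact h2.eq.symm
        · have h2 : Commute g (e * c) := r ▸ (hcvcomm g hg2).symm
          have h1 := (show Commute g e from hR1e g (hR21 hg2)).inv_right.mul_right h2
          rwa [inv_mul_cancel_left] at h1
      have hgM : g ∈ M := mem_inf.2 ⟨(mem_inf.1 (hR21 hg2)).1, mem_centralizer_singleton_iff.2 hgcomm⟩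
      rw [hMR] at hgM
      exact hgR hgM

end CfsgLib.LengthEight
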