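import Mathlib
import Cfsg.Prelude.Def_Local
import Cfsg.Prelude.Def_Amalgam
import Cfsg.Agent.Lib.Cores.Basic
import Cfsg.Agent.Lib.Fusion.Basic

/-!
Chains of subgroups in a simple group of length at most eight with Sylow 2-subgroups of order `2^7`:
the Sylow 2-subgroup is maximal, and the maximal locals with 2-group centraliser are 2-constrained.
-/

set_option autoImplicit false
set_option linter.unusedSectionVars false
set_option linter.style.haveILetI false

namespace CfsgLib.LengthEight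

open Subgroup
open CfsgLib.Fusion (conjSub mem_conjSub conjSub_eq_iff_mem_normalizer)

variable {G : Type*} [Group G]

/-- There is a chain of length `n` below `H`. -/
def Long : Subgroup G → ℕ → Prop
  | _, 0 => True
  | H, n + 1 => ∃ K, K < H ∧ Long K n

theorem Long.mono : ∀ {n : ℕ} {H H' : Subgroup G}, H ≤ H' → Long H n → Long H' n
  | 0, _, _, _, _ => trivial
  | _ + 1, _, _, h, ⟨K, hK, hL⟩ => ⟨K, hK.trans_le h, hL⟩

theorem Long.step {n : ℕ} {H K : Subgroup G} (h : K < H) (hK : Long K n) : Long H (n + 1) := ⟨K, h, hK⟩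

theorem Long.of_le : ∀ {n m : ℕ} {H : Subgroup G}, m ≤ n → Long H n → Long H m
  | _, 0, _, _, _ => trivial
  | 0, _ + 1, _, h, _ => absurd h (by omega)
  | _ + 1, _ + 1, _, h, ⟨K, hK, hL⟩ => ⟨K, hK, Long.of_le (Nat.le_of_succ_le_succ h) hL⟩

theorem Long.exists_chain : ∀ {n : ℕ} {H : Subgroup G}, Long H n →
    ∃ c : Fin (n + 1) → Subgroup G, c 0 = H ∧ StrictAnti c
  | 0, H, _ => ⟨fun _ => H, rfl, fun a b h => absurd h (by omega)⟩
  | n + 1, H, ⟨K, hK, hL⟩ => by
    obtain ⟨c, h0, hc⟩ := Long.exists_chain hL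
    refine ⟨Fin.cons H c, rfl, Fin.strictAnti_iff_succ_lt.2 fun i => ?_⟩
    cases i using Fin.cases with
    | zero => simpa [h0] using hK
    | succ j => simpa [Fin.castSucc_fin_succ] using hc (Fin.castSucc_lt_succ (i := j))

theorem long_of_card [Finite G] : ∀ {k : ℕ} {P : Subgroup G}, Nat.card P = 2 ^ k → Long P k
  | 0, _, _ => trivial
  | k + 1, P, h => by
    haveI : Fact (Nat.Prime 2) := ⟨Nat.prime_two⟩
    obtain ⟨K, hK⟩ := Sylow.exists_subgroup_card_pow_prime 2 (G := ↥P) (n := k)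
      ⟨2, by rw [h, pow_succ]⟩
    have hc : Nat.card (K.map P.subtype) = 2 ^ k := by rw [card_map_of_injective P.subtype_injective, hK]
    refine Long.step (lt_of_le_of_ne (map_subtype_le K) fun e => ?_) (long_of_card hc)
    rw [e, h] at hc
    exact absurd hc (Nat.pow_lt_pow_right one_lt_two k.lt_succ_self).ne'

/-- Chains of a quotient pull back. -/
theorem long_comap {X : Type*} [Group X] (f : X →* G) (hf : Function.Surjective f) :
    ∀ {n : ℕ} {H : Subgroup G} {m : ℕ}, Long H n → Long f.ker m → Long (H.comap f) (m + n)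
  | 0, H, _, _, hm => hm.mono (f.ker_le_comap H)
  | _ + 1, _, _, ⟨K, hK, hL⟩, hm =>
    Long.step ((comap_lt_comap_of_surjective hf).2 hK) (long_comap f hf hL hm)

theorem long_map {X : Type*} [Group X] (f : X →* G) (hf : Function.Injective f) :
    ∀ {n : ℕ} {H : Subgroup X}, Long H n → Long (H.map f) n
  | 0, _, _ => trivial
  | _ + 1, _, ⟨_, hK, hL⟩ => Long.step (map_lt_map_iff_of_injective hf |>.2 hK) (long_map f hf hL)

/-- The standing hypotheses. -/
structure Ctx (S : Sylow 2 G) : Prop where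
  not_comm : ¬ IsMulCommutative G
  no_nine : ¬ Long (⊤ : Subgroup G) 9
  card_sylow : Nat.card (S : Subgroup G) = 2 ^ 7

/-- A normaliser of a 2-subgroup with 2-group centraliser, which is not a 2-group. -/
def IsLoc (X : Subgroup G) : Prop :=
  ∃ K : Subgroup G, IsPGroup 2 K ∧ IsPGroup 2 ↥(centralizer (K : Set G)) ∧ X = normalizer (K : Set G) ∧
    ¬ IsPGroup 2 X

/-- A maximal such subgroup. -/
def IsMaxLoc (X : Subgroup G) : Prop := IsLoc X ∧ ∀ Y : Subgroup G, IsLoc Y → X ≤ Y → Y = X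

/-- The 2-core of a subgroup. -/
abbrev core (X : Subgroup G) : Subgroup G := Cfsg.pCoreOf 2 X

section

variable [Finite G]

theorem core_le (X : Subgroup G) : core X ≤ X := map_subtype_le _

theorem core_isPGroup (X : Subgroup G) : IsPGroup 2 (core X) :=
  (Cores.isPGroup_pCore 2).map X.subtype

theorem le_core {X N : Subgroup G} (hN : N ≤ X) (hn : X ≤ normalizer (N : Set G)) (hp : IsPGroup 2 N) :
    N ≤ core X := by
  haveI : (N.subgroupOf X).Normal := normal_subgroupOf_iff_le_normalizer hN |>.2 hn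
  have h := Cores.le_pCore (p := 2) (N := N.subgroupOf X)
    (hp.of_equiv (subgroupOfEquivOfLe hN).symm)
  have h2 := map_mono (f := X.subtype) h
  rwa [subgroupOf_map_subtype, inf_eq_left.2 hN] at h2

theorem le_normalizer_core (X : Subgroup G) : X ≤ normalizer (core X : Set G) := by
  haveI := Cores.pCore_characteristic (G := ↥X) 2
  haveI : (Cfsg.pCore 2 ↥X).Normal := inferInstance
  intro g hg
  refine mem_normalizer_iff.2 fun y => ?_
  have key : ∀ (a : ↥X) (y : G), y ∈ core X → (a : G) * y * (a : G)⁻¹ ∈ core X := by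
    rintro a _ ⟨k, hk, rfl⟩
    exact ⟨a * k * a⁻¹, (inferInstance : (Cfsg.pCore 2 ↥X).Normal).conj_mem k hk a, rfl⟩
  refine ⟨key ⟨g, hg⟩ y, fun h => ?_⟩
  have := key (⟨g, hg⟩⁻¹) _ h
  simpa [mul_assoc] using this

theorem isPGroup_centralizer_of_le {K K' : Subgroup G} (h : K ≤ K')
    (hK : IsPGroup 2 ↥(centralizer (K : Set G))) : IsPGroup 2 ↥(centralizer (K' : Set G)) :=
  hK.to_le (centralizer_le h)

/-- The centraliser of the 2-core of a local lies in the 2-core. -/
theorem centralizer_core_le {X : Subgroup G} (hX : IsLoc X) :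
    centralizer (core X : Set G) ≤ core X := by
  obtain ⟨K, hK, hCK, rfl, -⟩ := hX
  set X := normalizer (K : Set G) with hXdef
  have hKT : K ≤ core X := le_core le_normalizer le_rfl hK
  have hCX : centralizer (core X : Set G) ≤ X :=
    (centralizer_le hKT).trans (centralizer_le_normalizer _)
  refine le_core hCX ?_ (hCK.to_le (centralizer_le hKT))
  intro g hg
  have hn := le_normalizer_core X hg
  refine mem_normalizer_iff.2 fun y => ⟨fun hy => ?_, fun hy => ?_⟩
  · refine mem_centralizer_iff.2 fun t ht => ?_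
    have h1 : g⁻¹ * t * g ∈ core X := by simpa using (mem_normalizer_iff.1 (inv_mem hn) t).1 ht
    have h2 := mem_centralizer_iff.1 hy _ h1
    calc t * (g * y * g⁻¹) = g * (g⁻¹ * t * g * y) * g⁻¹ := by group
      _ = g * (y * (g⁻¹ * t * g)) * g⁻¹ := by rw [h2]
      _ = g * y * g⁻¹ * t := by group
  · refine mem_centralizer_iff.2 fun t ht => ?_
    have h1 : g * t * g⁻¹ ∈ core X := (mem_normalizer_iff.1 hn t).1 ht
    have h2 := mem_centralizer_iff.1 hy _ h1
    calc t * y = g⁻¹ * (g * t * g⁻¹ * (g * y * g⁻¹)) * g := by group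
      _ = g⁻¹ * (g * y * g⁻¹ * (g * t * g⁻¹)) * g := by rw [h2]
      _ = y * t := by group

theorem IsMaxLoc.normalizer_eq {X : Subgroup G} (hX : IsMaxLoc X) {K : Subgroup G}
    (hK : IsPGroup 2 K) (hCK : IsPGroup 2 ↥(centralizer (K : Set G)))
    (h : X ≤ normalizer (K : Set G)) : normalizer (K : Set G) = X :=
  hX.2 _ ⟨K, hK, hCK, rfl, fun hp => by
    obtain ⟨-, -, -, -, hnp⟩ := hX.1
    exact hnp (hp.to_le h)⟩ h

theorem IsMaxLoc.normalizer_core {X : Subgroup G} (hX : IsMaxLoc X) :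
    normalizer (core X : Set G) = X :=
  hX.normalizer_eq (core_isPGroup X) ((core_isPGroup X).to_le (centralizer_core_le hX.1))
    (le_normalizer_core X)

theorem exists_maxLoc {X : Subgroup G} (hX : IsLoc X) : ∃ Y, IsMaxLoc Y ∧ X ≤ Y := by
  classical
  obtain ⟨Y, hY, hmax⟩ := Set.exists_max_image {Y : Subgroup G | IsLoc Y ∧ X ≤ Y}
    (fun Y => Nat.card Y) (Set.toFinite _) ⟨X, hX, le_rfl⟩
  exact ⟨Y, ⟨hY.1, fun Z hZ hYZ =>
    (eq_of_le_of_card_ge hYZ (hmax Z ⟨hZ, hY.2.trans hYZ⟩)).symm⟩, hY.2⟩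

theorem IsLoc.map_conj {X : Subgroup G} (hX : IsLoc X) (g : G) :
    IsLoc (X.map (MulAut.conj g).toMonoidHom) := by
  obtain ⟨K, hK, hCK, rfl, hn⟩ := hX
  refine ⟨K.map (MulAut.conj g).toMonoidHom, hK.map _, ?_, ?_, fun hp => hn ?_⟩
  · have e : centralizer ((K.map (MulAut.conj g).toMonoidHom : Subgroup G) : Set G) =
        (centralizer (K : Set G)).map (MulAut.conj g).toMonoidHom := by
      ext y
      constructor
      · intro hy
        refine ⟨g⁻¹ * y * g, mem_centralizer_iff.2 fun k hk => ?_, by simp [mul_assoc]⟩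
        have h2 : g * k * g⁻¹ * y = y * (g * k * g⁻¹) :=
          mem_centralizer_iff.1 hy _ ⟨k, hk, rfl⟩
        calc k * (g⁻¹ * y * g) = g⁻¹ * (g * k * g⁻¹ * y) * g := by group
          _ = g⁻¹ * (y * (g * k * g⁻¹)) * g := by rw [h2]
          _ = g⁻¹ * y * g * k := by group
      · rintro ⟨c, hc, rfl⟩
        refine mem_centralizer_iff.2 ?_
        rintro _ ⟨k, hk, rfl⟩
        rw [← map_mul, ← map_mul, mem_centralizer_iff.1 hc k hk]
    rw [e]; exact hCK.map _
  · exact map_equiv_normalizer_eq K (MulAut.conj g)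
  · exact hp.of_equiv (equivMapOfInjective _ _ (MulAut.conj g).injective).symm

theorem IsMaxLoc.map_conj {X : Subgroup G} (hX : IsMaxLoc X) (g : G) :
    IsMaxLoc (X.map (MulAut.conj g).toMonoidHom) := by
  refine ⟨hX.1.map_conj g, fun Y hY hle => ?_⟩
  have h1 : X ≤ Y.map (MulAut.conj g⁻¹).toMonoidHom := fun x hx =>
    ⟨g * x * g⁻¹, hle ⟨x, hx, rfl⟩, by simp [mul_assoc]⟩
  have h2 := hX.2 _ (hY.map_conj g⁻¹) h1
  rw [← h2, map_map]
  convert (map_id Y).symm using 2
  ext x
  simp [mul_assoc]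

end

section Sylow

variable [Finite G] [IsSimpleGroup G] {S : Sylow 2 G}

theorem Ctx.sylow_ne_top (h : Ctx S) : (S : Subgroup G) ≠ ⊤ := fun e => by
  haveI : Fact (Nat.Prime 2) := ⟨Nat.prime_two⟩
  have hp : IsPGroup 2 G := (S.2.of_equiv ((MulEquiv.subgroupCongr e).trans topEquiv))
  haveI : Group.IsNilpotent G := hp.isNilpotent
  exact h.not_comm ⟨⟨IsSimpleGroup.comm_iff_isSolvable.2 inferInstance⟩⟩

theorem Ctx.normalizer_ne_top (h : Ctx S) {K : Subgroup G} (hK : IsPGroup 2 K) (h1 : K ≠ ⊥) :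
    normalizer (K : Set G) ≠ ⊤ := fun e => by
  haveI : K.Normal := normalizer_eq_top_iff.1 e
  rcases (inferInstance : K.Normal).eq_bot_or_eq_top with r | r
  · exact h1 r
  · obtain ⟨Q, hQ⟩ := hK.exists_le_sylow
    refine h.sylow_ne_top (eq_top_of_card_eq _ ?_)
    rw [Nat.card_congr (S.equiv Q).toEquiv, top_le_iff.1 (r.ge.trans hQ), card_top]

theorem Ctx.eq_top_of_lt (h : Ctx S) {H : Subgroup G} (hH : (S : Subgroup G) < H) : H = ⊤ := by
  by_contra hne
  exact h.no_nine (Long.step (lt_top_iff_ne_top.2 hne) (Long.step hH (long_of_card h.card_sylow)))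

theorem Ctx.normalizer_eq_sylow (h : Ctx S) {K : Subgroup G} (hK : K ≤ (S : Subgroup G)) (h1 : K ≠ ⊥)
    (hn : (S : Subgroup G) ≤ normalizer (K : Set G)) : normalizer (K : Set G) = (S : Subgroup G) := by
  rcases eq_or_lt_of_le hn with e | e
  · exact e.symm
  · exact absurd (h.eq_top_of_lt e) (h.normalizer_ne_top (S.2.to_le hK) h1)

theorem Ctx.centralizer_central (h : Ctx S) {z : G} (hz : z ∈ (S : Subgroup G)) (h1 : z ≠ 1)
    (hzc : z ∈ centralizer ((S : Subgroup G) : Set G)) :
    centralizer ({z} : Set G) = (S : Subgroup G) := by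
  have hS : (S : Subgroup G) ≤ centralizer ({z} : Set G) := fun x hx =>
    mem_centralizer_singleton_iff.2 (mem_centralizer_iff.1 hzc x hx)
  rcases eq_or_lt_of_le hS with e | e
  · exact e.symm
  · have ht := h.eq_top_of_lt e
    have hK : normalizer (zpowers z : Set G) = ⊤ := top_le_iff.1 fun g _ => by
      have hg : g * z = z * g := mem_centralizer_singleton_iff.1 (ht ▸ mem_top g)
      refine centralizer_le_normalizer _ (mem_centralizer_iff.2 ?_)
      rintro _ ⟨n, rfl⟩
      exact ((Commute.zpow_right hg n).eq).symm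
    exact absurd hK (h.normalizer_ne_top (S.2.to_le (zpowers_le.2 hz)) (fun e => h1 (zpowers_eq_bot.1 e)))

/-- A subgroup containing a central element of `S` has 2-group centraliser. -/
theorem Ctx.isPGroup_centralizer (h : Ctx S) {z : G} (hz : z ∈ (S : Subgroup G)) (h1 : z ≠ 1)
    (hzc : z ∈ centralizer ((S : Subgroup G) : Set G)) {K : Subgroup G} (hzK : z ∈ K) :
    IsPGroup 2 ↥(centralizer (K : Set G)) := by
  refine S.2.to_le ?_
  rw [← h.centralizer_central hz h1 hzc]
  exact centralizer_le (Set.singleton_subset_iff.2 hzK)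

theorem Ctx.exists_central (h : Ctx S) : ∃ z ∈ (S : Subgroup G), orderOf z = 2 ∧
    z ∈ centralizer ((S : Subgroup G) : Set G) := by
  haveI : Fact (Nat.Prime 2) := ⟨Nat.prime_two⟩
  haveI : Nontrivial ↥(S : Subgroup G) := Finite.one_lt_card_iff_nontrivial.1 (by rw [h.card_sylow]; norm_num)
  haveI := S.2.center_nontrivial
  have hd : 2 ∣ Nat.card (center ↥(S : Subgroup G)) := by
    obtain ⟨k, hk⟩ := (S.2.to_subgroup (center ↥(S : Subgroup G))).exists_card_eq
    have h2 := Finite.one_lt_card (α := center ↥(S : Subgroup G))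
    cases k with
    | zero => omega
    | succ k => exact ⟨2 ^ k, by rw [hk, pow_succ']⟩
  obtain ⟨z, hz⟩ := exists_prime_orderOf_dvd_card' 2 hd
  refine ⟨z.1.1, z.1.2, (orderOf_coe _).trans ((orderOf_coe _).trans hz), mem_centralizer_iff.2 fun x hx => ?_⟩
  exact congrArg Subtype.val (mem_center_iff.1 z.2 ⟨x, hx⟩)

end Sylow

end CfsgLib.LengthEight
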