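import Cfsg.Agent.Lib.LengthEight.Conjugates

/-!
The shape of a maximal local: `T = W × C` with `W` a four-group moved freely by an element of order
three centralising `C`.
-/

set_option autoImplicit false
set_option linter.unusedSectionVars false
set_option linter.style.haveILetI false

namespace CfsgLib.LengthEight

open Subgroup
open CfsgLib.Fusion (conjSub mem_conjSub conjSub_eq_iff_mem_normalizer conj_mem_conjSub card_conjSub)

variable {G : Type*} [Group G]

/-- The data attached to a maximal local in normalised position. -/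
structure Shape (S : Sylow 2 G) (X : Subgroup G) (s u w e : G) (W C : Subgroup G) : Prop where
  sS : s ∈ (S : Subgroup G)
  sX : s ∉ X
  sN : s ∈ normalizer (((S : Subgroup G) ⊓ X : Subgroup G) : Set G)
  s2 : s * s ∈ (S : Subgroup G) ⊓ X
  uR : u ∈ (S : Subgroup G) ⊓ X
  uT : u ∉ core X
  uu : u * u = 1
  uT' : u ∈ conjSub s (core X)
  wX : w ∈ X
  w3 : orderOf w = 3
  inverts : u * w * u = w⁻¹
  leW : W ≤ omegaZ (core X)
  cardW : Nat.card W = 4
  normW : X ≤ normalizer (W : Set G)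
  eW : e ∈ W
  e1 : e ≠ 1
  eu : e * u = u * e
  es : s * e = e * s
  fixU : ∀ v ∈ W, v * u = u * v → v = 1 ∨ v = e
  fixW : ∀ v ∈ W, w * v = v * w → v = 1
  leC : C ≤ core X
  normC : X ≤ normalizer (C : Set G)
  cardT : Nat.card (core X) = 4 * Nat.card C
  disj : ∀ v ∈ W, v ∈ C → v = 1
  commU : ∀ c ∈ C, c * u = u * c
  commW : ∀ c ∈ C, c * w = w * c
  leT' : C ≤ conjSub s (core X)
  eT' : e ∈ conjSub s (core X)
  decomp : ∀ t ∈ core X, ∃ v ∈ W, ∃ c ∈ C, t = v * c

variable [Finite G] [IsSimpleGroup G] {S : Sylow 2 G} {X : Subgroup G}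
variable (h : Ctx S) (hX : Good S X)

include h hX

/-- An element of order three inverted by an involution of `R` outside the core. -/
theorem Good.exists_inverted {u : G} (huR : u ∈ (S : Subgroup G) ⊓ X) (huT : u ∉ core X)
    (huu : u * u = 1) : ∃ w ∈ X, orderOf w = 3 ∧ u * w * u = w⁻¹ := by
  haveI : Fact (Nat.Prime 2) := ⟨Nat.prime_two⟩
  obtain ⟨w, hwX, hw⟩ := hX.exists_three h
  set f := hX.act.rangeRestrict with hf
  set a := f ⟨u, (mem_inf.1 huR).2⟩ with ha
  set b := f ⟨w, hwX⟩ with hb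
  have hb3 : orderOf b = 3 := (hX.core_mem_three h hwX hw).2
  have ha1 : a ≠ 1 := fun e => huT (by
    have h2 : (⟨u, (mem_inf.1 huR).2⟩ : ↥X) ∈ hX.act.rangeRestrict.ker := e
    rw [MonoidHom.ker_rangeRestrict, hX.ker_act h] at h2
    exact h2)
  have ha2 : a * a = 1 := by
    rw [ha, ← map_mul, show (⟨u, (mem_inf.1 huR).2⟩ * ⟨u, (mem_inf.1 huR).2⟩ : ↥X) = 1 from Subtype.ext huu,
      map_one]
  have hB : (zpowers b).index = 2 := by
    have h1 := (zpowers b).card_mul_index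
    rw [Nat.card_zpowers, hb3, hX.card_act h] at h1
    omega
  have haB : a ∉ zpowers b := fun hm => by
    have h1 : orderOf a ∣ 3 := hb3 ▸ Nat.card_zpowers b ▸ Subgroup.orderOf_dvd_natCard _ hm
    have h2 : orderOf a ∣ 2 := orderOf_dvd_of_pow_eq_one (by rw [sq, ha2])
    exact ha1 (orderOf_eq_one_iff.1 (Nat.eq_one_of_dvd_coprimes (show Nat.Coprime 2 3 by norm_num) h2 h1))
  set pp : ↥X := ⟨u, (mem_inf.1 huR).2⟩ * (⟨w, hwX⟩ * ⟨u, (mem_inf.1 huR).2⟩ * ⟨w, hwX⟩⁻¹) with hpp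
  have hfp : f pp = a * (b * a * b⁻¹) := by rw [hpp, map_mul, map_mul, map_mul, map_inv]
  have hpB : f pp ∈ zpowers b := by
    rw [hfp]
    simp [mul_mem_iff_of_index_two hB, inv_mem_iff, mem_zpowers b, haB]
  have hp1 : f pp ≠ 1 := fun e => by
    rw [hfp] at e
    have h1 : b * a * b⁻¹ = a :=
      (eq_inv_of_mul_eq_one_right e).trans (inv_eq_of_mul_eq_one_right ha2)
    have hcb : Commute a b := (mul_inv_eq_iff_eq_mul.1 h1).symm
    have hca : ∀ x, Commute a x := fun x => by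
      by_cases hx : x ∈ zpowers b
      · obtain ⟨i, rfl⟩ := hx; exact hcb.zpow_right i
      · obtain ⟨i, hi⟩ := (mul_mem_iff_of_index_two hB).2 (iff_of_false hx haB)
        have := (hcb.zpow_right i).mul_right ((Commute.refl a).inv_right)
        rw [show b ^ i * a⁻¹ = x by rw [show b ^ i = x * a from hi, mul_inv_cancel_right]] at this
        exact this
    haveI hn : (zpowers a).Normal := ⟨fun y hy g => by
      obtain ⟨i, rfl⟩ := hy
      rw [← ((hca g).zpow_left i).eq, mul_inv_cancel_right]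
      exact ⟨i, rfl⟩⟩
    exact ha1 (zpowers_eq_bot.1 (hX.range_O2 h _ hn (IsPGroup.of_card (n := 1) (by
      rw [Nat.card_zpowers, pow_one]; exact orderOf_eq_prime (by rw [sq, ha2]) ha1))))
  obtain ⟨k, hk⟩ := hX.core_pow
  obtain ⟨i, m, hm, hpo⟩ := Nat.exists_eq_two_pow_mul_odd (orderOf_pos pp).ne'
  have hm3 : m ∣ 3 := by
    have h1 : m ∣ 2 ^ (k + 1) * 3 := by
      have h2 := orderOf_dvd_natCard pp
      rw [hX.card_X h, hk, hpo, show 6 * 2 ^ k = 2 ^ (k + 1) * 3 by rw [pow_succ]; ring] at h2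
      exact (Dvd.intro_left _ rfl).trans h2
    exact ((Nat.coprime_two_right.2 hm).pow_right _).dvd_of_dvd_mul_left h1
  have hfp3 : orderOf (f pp) = 3 := by
    rcases (Nat.dvd_prime Nat.prime_three).1
      (hb3 ▸ Nat.card_zpowers b ▸ Subgroup.orderOf_dvd_natCard _ hpB) with r | r
    · exact absurd (orderOf_eq_one_iff.1 r) hp1
    · exact r
  have hm' : m = 3 := by
    refine ((Nat.dvd_prime Nat.prime_three).1 hm3).resolve_left fun e => ?_
    have h1 := orderOf_map_dvd f pp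
    rw [hfp3, hpo, e, mul_one] at h1
    exact absurd (Nat.prime_three.dvd_of_dvd_pow h1) (by norm_num)
  set p := (pp : G) with hp
  have hpinv : u * p * u = p⁻¹ := by
    have hui : u⁻¹ = u := inv_eq_of_mul_eq_one_right huu
    rw [hp, hpp]
    show u * (u * (w * u * w⁻¹)) * u = (u * (w * u * w⁻¹))⁻¹
    rw [mul_inv_rev, mul_inv_rev, mul_inv_rev, inv_inv, hui, ← mul_assoc u u, huu, one_mul]
    group
  refine ⟨p ^ 2 ^ i, pow_mem pp.2 _, ?_, ?_⟩
  · have e : orderOf p = 2 ^ i * m := (orderOf_coe pp).trans hpo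
    rw [orderOf_pow, e, Nat.gcd_mul_right_left, Nat.mul_div_cancel_left _ (by positivity), hm']
  · have hui : u⁻¹ = u := inv_eq_of_mul_eq_one_right huu
    have h1 := conj_pow (i := 2 ^ i) (a := u) (b := p)
    rw [hui, hpinv, inv_pow] at h1
    exact h1.symm

theorem Good.exists_shape : ∃ (s u w e : G) (W C : Subgroup G), Shape S X s u w e W C := by
  haveI : Fact (Nat.Prime 2) := ⟨Nat.prime_two⟩
  obtain ⟨s, hsS, hsX, hsN, hs2⟩ := hX.exists_swap h
  obtain ⟨hT'R, hback, hRn, hidx, hsD, hwD⟩ := hX.conjugate_facts h hsS hsX hsN hs2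
  obtain ⟨v0, hv0, huT⟩ := hX.exists_conj_notMem h hsS hsX hsN hs2
  obtain ⟨u, hudef⟩ : ∃ u, u = s * v0 * s⁻¹ := ⟨_, rfl⟩
  rw [← hudef] at huT
  set T := core X with hT
  set T' := conjSub s T with hT'
  set R := (S : Subgroup G) ⊓ X with hR
  have huT' : u ∈ T' := hudef ▸ conj_mem_conjSub (mem_omegaZ.1 hv0).1
  have huR : u ∈ R := hT'R huT'
  have huu : u * u = 1 := by
    rw [hudef, show s * v0 * s⁻¹ * (s * v0 * s⁻¹) = s * (v0 * v0) * s⁻¹ by group, (mem_omegaZ.1 hv0).2.2]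
    group
  have hucen : ∀ t ∈ T', u * t = t * u := by
    rintro _ ⟨t, ht, rfl⟩
    rw [hudef]
    show s * v0 * s⁻¹ * (s * t * s⁻¹) = s * t * s⁻¹ * (s * v0 * s⁻¹)
    rw [show s * v0 * s⁻¹ * (s * t * s⁻¹) = s * (v0 * t) * s⁻¹ by group, omegaZ_comm hv0 ht]; group
  have hfix : ∀ t ∈ T, t * u = u * t → t ∈ T' := by
    intro t ht e
    by_contra htT'
    refine huT (hX.centralizer_core_le (mem_centralizer_iff.2 fun x hx => ?_))
    by_cases hxT' : x ∈ T'
    · exact (hucen x hxT').symm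
    · have h1 : Commute u (x * t) := hucen _ (mul_mem_of_relIndex_two hidx hx ht hxT' htT')
      have h2 := h1.mul_right (Commute.inv_right (show Commute u t from e.symm))
      rw [mul_inv_cancel_right] at h2
      exact h2.eq.symm
  obtain ⟨w, hwX, hw, hinv⟩ := hX.exists_inverted h huR huT huu
  have hw3 := pow_three_eq hw
  have hui : u⁻¹ = u := inv_eq_of_mul_eq_one_right huu
  set D := T ⊓ T' with hDdef
  set C := D ⊓ conjSub w D with hCdef
  have hCT : C ≤ T := inf_le_left.trans inf_le_left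
  have hCT' : C ≤ T' := inf_le_left.trans inf_le_right
  have hCu : ∀ c ∈ C, c * u = u * c := fun c hc => (hucen c (hCT' hc)).symm
  have hwinv : w⁻¹ = w * w := inv_eq_of_mul_eq_one_right (by rw [← mul_assoc, hw3])
  have hCw : ∀ c ∈ C, c * w = w * c := by
    intro c hc
    obtain ⟨d, hd, hdc⟩ := (mem_inf.1 hc).2
    have hdc' : w * d * w⁻¹ = c := hdc
    have h1 : Commute c (w * u * w⁻¹) := by
      rw [← hdc']
      exact (show Commute d u from (hucen d (mem_inf.1 hd).2).symm).map (MulAut.conj w).toMonoidHom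
    have h2 : u * (w * u * w⁻¹) = w := by
      calc u * (w * u * w⁻¹) = (u * w * u) * w⁻¹ := by group
        _ = w⁻¹ * w⁻¹ := by rw [hinv]
        _ = w := by
          rw [hwinv, show w * w * (w * w) = (w * w * w) * w by group, hw3, one_mul]
    have h3 := (show Commute c u from hCu c hc).mul_right h1
    rwa [h2] at h3
  have hne : conjSub w D ≠ D := fun e => hwD w hwX hw (conjSub_eq_iff_mem_normalizer.1 e)
  have hDwT : conjSub w D ≤ T := by
    rintro _ ⟨t, ht, rfl⟩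
    exact hX.normal_core hwX (mem_inf.1 ht).1
  have hTD : Nat.card T = 2 * Nat.card D := by
    rw [card_eq_two_mul hidx, hDdef, inf_comm]
  have hDwi : (conjSub w D).relIndex T = 2 := by
    have h1 := Subgroup.card_mul_index ((conjSub w D).subgroupOf T)
    rw [Nat.card_congr (subgroupOfEquivOfLe hDwT).toEquiv, card_conjSub, hTD, mul_comm 2] at h1
    exact Nat.eq_of_mul_eq_mul_left Nat.card_pos h1
  have hDC : Nat.card D = 2 * Nat.card C := by
    rw [card_eq_two_mul (relIndex_eq_two (inf_le_left : D ≤ T) hDwi fun hle =>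
      hne (eq_of_le_of_card_ge hle (card_conjSub w D).le).symm), hCdef, inf_comm]
  have hcardT : Nat.card T = 4 * Nat.card C := by rw [hTD, hDC]; ring
  -- the commutators with `w`
  set V := omegaZ T with hV
  have hVT : V ≤ T := fun v hv => hv.1
  have hVw : ∀ v ∈ V, w * v * w⁻¹ ∈ V := fun v hv => hX.normal_omegaZ hwX hv
  have hVcomm : ∀ a ∈ V, ∀ b ∈ V, a * b = b * a := fun a ha b hb => omegaZ_comm ha (hVT hb)
  let f : ↥V →* G := MonoidHom.mk' (fun v => w * v * w⁻¹ * (v : G)⁻¹) fun a b => by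
    have h1 : w * (b : G) * w⁻¹ * (a : G)⁻¹ = (a : G)⁻¹ * (w * b * w⁻¹) :=
      hVcomm _ (hVw b b.2) _ (inv_mem a.2)
    calc w * ((a * b : ↥V) : G) * w⁻¹ * ((a * b : ↥V) : G)⁻¹
        = w * ((a : G) * b) * w⁻¹ * ((b : G) * a)⁻¹ := by rw [Subgroup.coe_mul, hVcomm a a.2 b b.2]
      _ = (w * a * w⁻¹) * (w * b * w⁻¹ * (a : G)⁻¹) * (b : G)⁻¹ := by group
      _ = (w * a * w⁻¹) * ((a : G)⁻¹ * (w * b * w⁻¹)) * (b : G)⁻¹ := by rw [h1]
      _ = (w * a * w⁻¹ * (a : G)⁻¹) * (w * b * w⁻¹ * (b : G)⁻¹) := by group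
  set W := f.range with hW
  have hfapp : ∀ v : ↥V, f v = w * v * w⁻¹ * (v : G)⁻¹ := fun v => rfl
  have hWV : W ≤ V := by
    rintro _ ⟨v, rfl⟩
    exact mul_mem (hVw v v.2) (inv_mem v.2)
  have hWfree : ∀ d ∈ W, w * d = d * w → d = 1 := by
    rintro _ ⟨v, rfl⟩ e
    have hd : f v ∈ V := hWV ⟨v, rfl⟩
    set d := f v with hd'
    have h1 : w * v * w⁻¹ = d * v := by rw [hd', hfapp, inv_mul_cancel_right]
    have h2 : ∀ a : G, w * (d * a) * w⁻¹ = d * (w * a * w⁻¹) := fun a => by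
      calc w * (d * a) * w⁻¹ = (w * d) * a * w⁻¹ := by group
        _ = d * (w * a * w⁻¹) := by rw [e]; group
    have h3 : (v : G) = d * (d * d) * v := by
      calc (v : G) = (w * w * w) * v * (w * w * w)⁻¹ := by rw [hw3]; group
        _ = w * (w * (w * v * w⁻¹) * w⁻¹) * w⁻¹ := by group
        _ = d * (d * d) * v := by rw [h1, h2, h1, h2, h2, h1]; group
    rw [(mem_omegaZ.1 hd).2.2, mul_one] at h3
    exact mul_eq_right.1 h3.symm
  have hWw : ∀ d ∈ W, w * d * w⁻¹ ∈ W := by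
    rintro _ ⟨v, rfl⟩
    exact ⟨⟨w * v * w⁻¹, hVw v v.2⟩, by rw [hfapp, hfapp]; group⟩
  have hWne : ∃ d ∈ W, d ≠ 1 := by
    by_contra hall
    push Not at hall
    refine (hX.core_mem_three h hwX hw).1 ?_
    have h1 : (⟨w, hwX⟩ : ↥X) ∈ hX.act.ker := by
      ext v
      rw [hX.act_apply, MulAut.one_apply]
      exact mul_inv_eq_one.1 (hall _ ⟨v, rfl⟩)
    rw [hX.ker_act h] at h1
    exact h1
  have hWC : ∀ v ∈ W, v ∈ C → v = 1 := fun v hv hvC => hWfree v hv (hCw v hvC).symm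
  have hW4 : Nat.card W = 4 := by
    have hle : Nat.card W ≤ 4 := by
      rw [hW, ← Subgroup.index_ker]
      have h1 : C.subgroupOf V ≤ f.ker := fun v hv => by
        rw [MonoidHom.mem_ker, hfapp]
        rw [← hCw _ (mem_subgroupOf.1 hv), mul_inv_cancel_right, mul_inv_cancel]
      refine (Nat.le_of_dvd (Nat.pos_of_ne_zero Subgroup.index_ne_zero_of_finite)
        (Subgroup.index_dvd_of_le h1)).trans ?_
      have h2 : C.relIndex T = 4 := by
        have h3 := Subgroup.card_mul_index (C.subgroupOf T)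
        rw [Nat.card_congr (subgroupOfEquivOfLe hCT).toEquiv, hcardT, mul_comm 4] at h3
        exact Nat.eq_of_mul_eq_mul_left Nat.card_pos h3
      exact (relIndex_le_of_le_right hVT (by omega)).trans h2.le
    obtain ⟨j, hj⟩ := ((core_isPGroup X).to_le (hWV.trans hVT)).exists_card_eq
    obtain ⟨d, hdW, hd1⟩ := hWne
    have h2 : w * d * w⁻¹ ≠ d := fun e => hd1 (hWfree d hdW (mul_inv_eq_iff_eq_mul.1 e))
    have h1 := Set.ncard_le_ncard (show ({1, d, w * d * w⁻¹} : Set G) ⊆ (W : Set G) by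
      rintro x (rfl | rfl | rfl)
      exacts [one_mem W, hdW, hWw d hdW]) (Set.toFinite _)
    rw [Set.ncard_insert_of_notMem (by simp [Ne.symm hd1, eq_comm, conj_eq_one_iff, hd1]),
      Set.ncard_pair (Ne.symm h2)] at h1
    change _ ≤ Nat.card W at h1
    rw [hj] at hle h1 ⊢
    rcases j with _ | _ | _ | j
    · simp at h1
    · simp at h1
    · rfl
    · have := Nat.pow_le_pow_right (show 2 > 0 by norm_num) (show 3 ≤ j + 1 + 1 + 1 by omega)
      omega
  have hdecomp : ∀ t ∈ T, ∃ v ∈ W, ∃ c ∈ C, t = v * c := by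
    let g : ↥W × ↥C → ↥T := fun x => ⟨(x.1 : G) * x.2, mul_mem (hVT (hWV x.1.2)) (hCT x.2.2)⟩
    have hg : Function.Injective g := by
      rintro ⟨a, c⟩ ⟨a', c'⟩ e
      have e' : (a : G) * c = a' * c' := congrArg Subtype.val e
      have h1 : ((a' : G)⁻¹ * (a : G)) = c' * (c : G)⁻¹ := by
        calc ((a' : G)⁻¹ * (a : G)) = (a' : G)⁻¹ * (a * c) * (c : G)⁻¹ := by group
          _ = c' * (c : G)⁻¹ := by rw [e']; group
      have h2 : ((a' : G)⁻¹ * (a : G)) = 1 := hWC _ (mul_mem (inv_mem a'.2) a.2)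
        (h1 ▸ mul_mem c'.2 (inv_mem c.2))
      have h3 : (a : G) = a' := (inv_mul_eq_one.1 h2).symm
      exact Prod.ext (Subtype.ext h3) (Subtype.ext (mul_left_cancel (h3 ▸ e')))
    have hb := hg.bijective_of_nat_card_le (by rw [Nat.card_prod, hW4, hcardT])
    intro t ht
    obtain ⟨⟨a, c⟩, hac⟩ := hb.2 ⟨t, ht⟩
    exact ⟨a, a.2, c, c.2, (congrArg Subtype.val hac).symm⟩
  -- normality in `X`
  have hRdec : ∀ r ∈ R, r ∈ T ∨ r * u ∈ T := by
    intro r hr
    have h2 : T.relIndex R = 2 := by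
      have h1 := Subgroup.card_mul_index (T.subgroupOf R)
      rw [Nat.card_congr (subgroupOfEquivOfLe hX.core_le_R).toEquiv, hX.card_R h] at h1
      exact Nat.eq_of_mul_eq_mul_left (Nat.card_pos (α := T)) (h1.trans (mul_comm _ _))
    exact or_iff_not_imp_left.2 fun hrT => mul_mem_of_relIndex_two h2 hr huR hrT huT
  have hnorm : ∀ Y : Subgroup G, (∀ t ∈ T, t ∈ normalizer (Y : Set G)) →
      (∀ y ∈ Y, u * y * u⁻¹ ∈ Y) → (∀ y ∈ Y, w * y * w⁻¹ ∈ Y) → X ≤ normalizer (Y : Set G) :=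
    fun Y h1 h2 h3 => hX.le_of_generators h (fun r hr => by
      rcases hRdec r hr with h4 | h4
      · exact h1 r h4
      · have := mul_mem (h1 _ h4) (inv_mem (mem_normalizer_of_maps h2))
        rwa [mul_inv_cancel_right] at this) hwX hw (mem_normalizer_of_maps h3)
  have hWn : X ≤ normalizer (W : Set G) := by
    refine hnorm W (fun t ht => mem_normalizer_of_maps fun v hv => ?_) ?_ hWw
    · rwa [← omegaZ_comm (hWV hv) ht, mul_inv_cancel_right]
    · rintro _ ⟨v, rfl⟩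
      have hv' : u * (v : G) * u ∈ V := by
        have := hX.normal_omegaZ (mem_inf.1 huR).2 v.2; rwa [hui] at this
      refine ⟨⟨w⁻¹ * (u * (v : G) * u)⁻¹ * w,
        conj_inv_mem_of_normalizer (hX.le_normalizer_omegaZ hwX) (inv_mem hv')⟩, ?_⟩
      have h2 : u * w⁻¹ * u = w := by
        rw [← hinv, show u * (u * w * u) * u = (u * u) * w * (u * u) by group, huu, one_mul, mul_one]
      have hx : w⁻¹ * (u * (v : G) * u) * w ∈ V := conj_inv_mem_of_normalizer (hX.le_normalizer_omegaZ hwX) hv'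
      rw [hfapp, hfapp, hui]
      show w * (w⁻¹ * (u * (v : G) * u)⁻¹ * w) * w⁻¹ * (w⁻¹ * (u * (v : G) * u)⁻¹ * w)⁻¹ =
        u * (w * (v : G) * w⁻¹ * (v : G)⁻¹) * u
      have h3 : u * (v : G)⁻¹ * u = (u * (v : G) * u)⁻¹ := by
        rw [mul_inv_rev, mul_inv_rev, hui]; group
      calc w * (w⁻¹ * (u * (v : G) * u)⁻¹ * w) * w⁻¹ * (w⁻¹ * (u * (v : G) * u)⁻¹ * w)⁻¹
          = (u * (v : G) * u)⁻¹ * (w⁻¹ * (u * (v : G) * u) * w) := by group
        _ = (w⁻¹ * (u * (v : G) * u) * w) * (u * (v : G) * u)⁻¹ := hVcomm _ (inv_mem hv') _ hx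
        _ = (u * w * u) * (u * (v : G) * u) * (u * w⁻¹ * u) * (u * (v : G)⁻¹ * u) := by
              rw [hinv, h2, h3]
        _ = u * w * (u * u) * (v : G) * (u * u) * w⁻¹ * (u * u) * (v : G)⁻¹ * u := by group
        _ = u * (w * (v : G) * w⁻¹ * (v : G)⁻¹) * u := by rw [huu]; group
  have hCn : X ≤ normalizer (C : Set G) := by
    refine hnorm C (fun t ht => mem_normalizer_of_maps fun c hc => ?_)
      (fun c hc => by rwa [← hCu c hc, mul_inv_cancel_right])
      (fun c hc => by rwa [← hCw c hc, mul_inv_cancel_right])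
    refine mem_inf.2 ⟨mem_inf.2 ⟨mul_mem (mul_mem ht (hCT hc)) (inv_mem ht),
      conj_mem_of_normalizer (hRn t (hX.core_le_R ht)) (hCT' hc)⟩, mem_conjSub.2 ?_⟩
    have ht' : w⁻¹ * t * w ∈ T := conj_inv_mem_of_normalizer (le_normalizer_core X hwX) ht
    have hc' := mem_conjSub.1 (mem_inf.1 hc).2
    rw [show w⁻¹ * (t * c * t⁻¹) * w = (w⁻¹ * t * w) * (w⁻¹ * c * w) * (w⁻¹ * t * w)⁻¹ by group]
    exact mem_inf.2 ⟨mul_mem (mul_mem ht' (mem_inf.1 hc').1) (inv_mem ht'),
      conj_mem_of_normalizer (hRn _ (hX.core_le_R ht')) (mem_inf.1 hc').2⟩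
  -- the element of `W` fixed by `u`
  have hWnle : ¬ W ≤ T' := fun hle => by
    obtain ⟨d, hd, hd1⟩ := hWne
    refine hd1 (hWC d hd (mem_inf.2 ⟨mem_inf.2 ⟨hVT (hWV hd), hle hd⟩, mem_conjSub.2 ?_⟩))
    have := conj_inv_mem_of_normalizer (hWn hwX) hd
    exact mem_inf.2 ⟨hVT (hWV this), hle this⟩
  have hWT' : T'.relIndex W = 2 := relIndex_eq_two (hWV.trans hVT) hidx hWnle
  have hcW : Nat.card ↥(T' ⊓ W) = 2 := by
    have := card_eq_two_mul hWT'
    omega
  obtain ⟨e', he', huniq⟩ := (Nat.card_eq_two_iff' (1 : ↥(T' ⊓ W))).1 hcW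
  set e := (e' : G) with he
  have heW : e ∈ W := (mem_inf.1 e'.2).2
  have heT' : e ∈ T' := (mem_inf.1 e'.2).1
  have he1 : e ≠ 1 := fun r => he' (Subtype.ext r)
  have hfixU : ∀ v ∈ W, v * u = u * v → v = 1 ∨ v = e := by
    intro v hv hvu
    by_cases hv1 : v = 1
    · exact Or.inl hv1
    · exact Or.inr (congrArg Subtype.val
        (huniq ⟨v, mem_inf.2 ⟨hfix v (hVT (hWV hv)) hvu, hv⟩⟩ fun r => hv1 (congrArg Subtype.val r)))
  have heu : e * u = u * e := (hucen e heT').symm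
  have hcommu : ∀ v ∈ W, v * u * v⁻¹ * u = 1 ∨ v * u * v⁻¹ * u = e := by
    intro v hv
    have hmem : v * u * v⁻¹ * u ∈ W := by
      rw [show v * u * v⁻¹ * u = v * (u * v⁻¹ * u) by group]
      refine mul_mem hv ?_
      have := conj_mem_of_normalizer (hWn (mem_inf.1 huR).2) (inv_mem hv)
      rwa [hui] at this
    refine hfixU _ hmem ?_
    have hsym : v * (u * v⁻¹ * u) = (u * v⁻¹ * u) * v := omegaZ_comm (hWV hv) (by
      have := hX.normal_core (mem_inf.1 huR).2 (hVT (hWV (inv_mem hv))); rwa [hui] at this)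
    have hvi : v⁻¹ = v := inv_eq_of_mul_eq_one_right (mem_omegaZ.1 (hWV hv)).2.2
    calc v * u * v⁻¹ * u * u = v * u * v⁻¹ * (u * u) := by group
      _ = v * u * v := by rw [huu, mul_one, hvi]
      _ = (u * u) * (v * u * v) := by rw [huu, one_mul]
      _ = u * ((u * v * u) * v) := by group
      _ = u * (v * u * v⁻¹ * u) := by
          rw [hvi] at hsym ⊢
          rw [← hsym]; group
  have hes : s * e = e * s := by
    obtain ⟨t, htW, htT'⟩ := SetLike.not_le_iff_exists.1 hWnle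
    have htR : t ∈ R := hX.core_le_R (hVT (hWV htW))
    set r := s⁻¹ * t * s with hr
    have hrR : r ∈ R := conj_inv_mem_of_normalizer hsN htR
    obtain ⟨a, haW, c, hc, hvc⟩ := hdecomp v0 (hVT hv0)
    have hac : v0 * u * v0⁻¹ * u = a * u * a⁻¹ * u := by
      rw [hvc, mul_inv_rev, show a * c * u * (c⁻¹ * a⁻¹) = a * (c * u * c⁻¹) * a⁻¹ by group,
        hCu c hc, mul_inv_cancel_right]
    have hcom : v0 * r * v0⁻¹ * r⁻¹ = 1 ∨ v0 * r * v0⁻¹ * r⁻¹ = e := by
      rcases hRdec r hrR with h1 | h1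
      · exact Or.inl (by rw [omegaZ_comm hv0 h1, mul_inv_cancel_right, mul_inv_cancel])
      · have e1 : v0 * r * v0⁻¹ * r⁻¹ = (r * u) * (v0 * u * v0⁻¹ * u) * (r * u)⁻¹ := by
          have h2 : v0 * (r * u) = (r * u) * v0 := omegaZ_comm hv0 h1
          calc v0 * r * v0⁻¹ * r⁻¹ = (v0 * (r * u)) * u⁻¹ * v0⁻¹ * u * (r * u)⁻¹ := by group
            _ = (r * u) * (v0 * u * v0⁻¹ * u) * (r * u)⁻¹ := by rw [h2, hui]; group
        rw [e1, hac]
        rcases hcommu a haW with h3 | h3 <;> rw [h3]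
        · exact Or.inl (by group)
        · exact Or.inr (by rw [← omegaZ_comm (hWV heW) h1, mul_inv_cancel_right])
    have hk : s * (v0 * r * v0⁻¹ * r⁻¹) * s⁻¹ = u * t * u⁻¹ * t⁻¹ := by rw [hudef, hr]; group
    have hte : u * t * u⁻¹ * t⁻¹ = e := by
      have hti : t⁻¹ = t := inv_eq_of_mul_eq_one_right (mem_omegaZ.1 (hWV htW)).2.2
      have h1 : u * t * u⁻¹ * t⁻¹ = (t * u * t⁻¹ * u)⁻¹ := by rw [mul_inv_rev, mul_inv_rev, mul_inv_rev, inv_inv, hui]; group
      rcases hcommu t htW with h2 | h2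
      · refine absurd (hfix t (hVT (hWV htW)) ?_) htT'
        rw [mul_eq_one_iff_eq_inv, hui] at h2
        exact mul_inv_eq_iff_eq_mul.1 h2
      · rw [h1, h2, inv_eq_of_mul_eq_one_right (mem_omegaZ.1 (hWV heW)).2.2]
    rcases hcom with h1 | h1
    · refine absurd ?_ he1
      rw [← hte, ← hk, h1]; group
    · rw [h1, hte] at hk
      exact mul_inv_eq_iff_eq_mul.1 hk
  exact ⟨s, u, w, e, W, C,
    { sS := hsS, sX := hsX, sN := hsN, s2 := hs2, uR := huR, uT := huT, uu := huu, uT' := huT'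
      wX := hwX, w3 := hw, inverts := hinv, leW := hWV, cardW := hW4, normW := hWn, eW := heW, e1 := he1
      eu := heu, es := hes, fixU := hfixU, fixW := hWfree, leC := hCT, normC := hCn, cardT := hcardT
      disj := hWC, commU := hCu, commW := hCw, leT' := hCT', eT' := heT', decomp := hdecomp }⟩

end CfsgLib.LengthEight
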