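import Cfsg.Agent.Lib.LengthEight.Frame

/-!
The image of a maximal local in the automorphisms of the involutions of the centre of its core has
order six.
-/

set_option autoImplicit false
set_option linter.unusedSectionVars false
set_option linter.style.haveILetI false

namespace CfsgLib.LengthEight

open Subgroup
open CfsgLib.Fusion (conjSub mem_conjSub conjSub_eq_iff_mem_normalizer conj_mem_conjSub card_conjSub)

variable {G : Type*} [Group G]

theorem two_pow_le_card_of_long [Finite G] : ∀ {n : ℕ} {H : Subgroup G}, Long H n → 2 ^ n ≤ Nat.card H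
  | 0, _, _ => Nat.card_pos
  | n + 1, H, ⟨K, hK, hL⟩ => by
    have h1 := two_pow_le_card_of_long hL
    obtain ⟨m, hm⟩ := card_dvd_of_le hK.le
    have hm2 : 2 ≤ m := by
      rcases m with _ | _ | m
      · have := Nat.card_pos (α := H); omega
      · exact absurd (eq_of_le_of_card_ge hK.le (by omega)) hK.ne
      · omega
    rw [hm, pow_succ]
    exact Nat.mul_le_mul h1 hm2

theorem commutator_mem_of_index_two {M R : Subgroup G} (hRM : R ≤ M) (h : R.relIndex M = 2) {a b : G}
    (ha : a ∈ M) (hb : b ∈ M) : a * b * a⁻¹ * b⁻¹ ∈ R := by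
  have h2 : (R.subgroupOf M).index = 2 := h
  have key : (⟨a, ha⟩ * ⟨b, hb⟩ * (⟨a, ha⟩ : ↥M)⁻¹ * (⟨b, hb⟩ : ↥M)⁻¹) ∈ R.subgroupOf M := by
    simp only [mul_mem_iff_of_index_two h2, inv_mem_iff]
    tauto
  exact mem_subgroupOf.1 key

section

variable [Finite G] [IsSimpleGroup G] {S : Sylow 2 G} {X : Subgroup G}
variable (h : Ctx S) (hX : Good S X)

include h hX

/-- With an abelian core of order sixteen and image Sylow of order two, no element of odd order outside
normalises `S ∩ X`. -/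
theorem Good.no_normalizing (hk : Nat.card (core X) = 16)
    (hexp : ∀ t ∈ core X, t * t = 1) (hR : Nat.card ↥((S : Subgroup G) ⊓ X) = 32) {x : G}
    (hxN : x ∈ normalizer (((S : Subgroup G) ⊓ X : Subgroup G) : Set G)) (hodd : Odd (orderOf x)) :
    x = 1 := by
  classical
  haveI : Fact (Nat.Prime 2) := ⟨Nat.prime_two⟩
  set R := (S : Subgroup G) ⊓ X with hRdef
  set T := core X with hTdef
  by_contra hx1
  obtain ⟨s, hsS, hsX, hsN, hs2⟩ := hX.exists_swap h
  set T' := conjSub s T with hT'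
  have hTR : T ≤ R := hX.core_le_R
  have hT'R : T' ≤ R := fun y hy => by
    rw [hT', mem_conjSub] at hy
    have := (mem_normalizer_iff.1 hsN _).1 (hTR hy)
    rw [show s * (s⁻¹ * y * s) * s⁻¹ = y by group] at this
    exact this
  have hne : T' ≠ T := fun e => hsX (hX.normalizer_core ▸ conjSub_eq_iff_mem_normalizer.1 e)
  have hcomT : ∀ a ∈ T, ∀ b ∈ T, a * b = b * a := fun a ha b hb => congrArg Subtype.val
    (comm_of_exp_two (V := ↥T) (fun v => Subtype.ext (hexp v v.2)) ⟨a, ha⟩ ⟨b, hb⟩)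
  have hidx : T.relIndex R = 2 := by
    have h1 := Subgroup.card_mul_index (T.subgroupOf R)
    rw [Nat.card_congr (subgroupOfEquivOfLe hTR).toEquiv, hk, hR] at h1
    show (T.subgroupOf R).index = 2
    omega
  obtain ⟨a', ha', hu⟩ : ∃ a ∈ T, s * a * s⁻¹ ∉ T := by
    by_contra hno
    push Not at hno
    refine hne (eq_of_le_of_card_ge (fun y hy => ?_) (by rw [hT', card_conjSub]))
    obtain ⟨w, hw, rfl⟩ := hy
    exact hno w hw
  set u := s * a' * s⁻¹ with hudef
  have huR : u ∈ R := hT'R (conj_mem_conjSub ha')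
  have huu : u * u = 1 := by
    rw [hudef, show s * a' * s⁻¹ * (s * a' * s⁻¹) = s * (a' * a') * s⁻¹ by group, hexp a' ha']; group
  have hcases : ∀ r ∈ R, r ∈ T ∨ ∃ t ∈ T, r = t * u := by
    intro r hr
    by_cases hrT : r ∈ T
    · exact Or.inl hrT
    · have h2 : (T.subgroupOf R).index = 2 := hidx
      have h3 : ((⟨r, hr⟩ : ↥R) * ⟨u, huR⟩) ∈ T.subgroupOf R :=
        (mul_mem_iff_of_index_two h2).2 (iff_of_false hrT hu)
      exact Or.inr ⟨r * u, h3, by rw [mul_assoc, huu, mul_one]⟩
  -- the commutator map with `u`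
  set δ : G → G := fun t => t * u * t * u with hδ
  have hnorm : ∀ t ∈ T, u * t * u ∈ T := fun t ht => by
    have h1 : u ∈ normalizer (T : Set G) := le_normalizer_core X (mem_inf.1 huR).2
    have h2 := (mem_normalizer_iff.1 h1 t).1 ht
    rwa [inv_eq_of_mul_eq_one_right huu] at h2
  have hδmem : ∀ t ∈ T, δ t ∈ T := fun t ht => by
    rw [hδ]; simpa [mul_assoc] using mul_mem ht (hnorm t ht)
  have hδmul : ∀ t ∈ T, ∀ t' ∈ T, δ (t * t') = δ t * δ t' := by
    intro t ht t' ht'
    calc δ (t * t') = t * t' * (u * t * u * (u * t' * u)) := by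
          simp only [hδ, show u * t * u * (u * t' * u) = u * t * (u * u) * t' * u by group, huu]; group
      _ = t * (t' * (u * t * u)) * (u * t' * u) := by group
      _ = t * (u * t * u * t') * (u * t' * u) := by rw [hcomT t' ht' _ (hnorm t ht)]
      _ = δ t * δ t' := by simp only [hδ]; group
  set T'' := T ⊓ T' with hD
  have hDc : ∀ t ∈ T'', t * u = u * t := by
    rintro _ ⟨-, ⟨w, hw, rfl⟩⟩
    show s * w * s⁻¹ * (s * a' * s⁻¹) = s * a' * s⁻¹ * (s * w * s⁻¹)
    rw [show s * w * s⁻¹ * (s * a' * s⁻¹) = s * (w * a') * s⁻¹ by group, hcomT w hw a' ha']; group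
  have hDi : T''.relIndex T ≤ 2 := by
    rw [hD, inf_relIndex_left]
    have h2 := Subgroup.card_mul_index (T'.subgroupOf R)
    rw [Nat.card_congr (subgroupOfEquivOfLe hT'R).toEquiv, hT', card_conjSub, hk, hR] at h2
    have h3 : T'.relIndex R = 2 := by
      show (T'.subgroupOf R).index = 2
      rw [hT']; omega
    exact (relIndex_le_of_le_right hTR (by omega)).trans h3.le
  obtain ⟨a0, ha0, ha0D⟩ : ∃ a ∈ T, a ∉ T'' := by
    by_contra hno
    push Not at hno
    exact hne (eq_of_le_of_card_ge (fun y hy => (hno y hy).2) (by rw [hT', card_conjSub])).symm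
  have hD2 : (T''.subgroupOf T).index = 2 := by
    have h1 : (T''.subgroupOf T).index ≤ 2 := hDi
    have h2 : (T''.subgroupOf T).index ≠ 0 := Subgroup.index_ne_zero_of_finite
    have h3 : (T''.subgroupOf T).index ≠ 1 := fun e =>
      ha0D (show (⟨a0, ha0⟩ : ↥T) ∈ T''.subgroupOf T by rw [index_eq_one.1 e]; trivial)
    omega
  have hδD : ∀ t ∈ T'', δ t = 1 := fun t ht => by
    simp only [hδ]
    rw [hDc t ht, show u * t * t * u = u * (t * t) * u by group, hexp t ht.1, mul_one, huu]
  set c := δ a0 with hc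
  have hcc : c * c = 1 := by rw [hc, ← hδmul a0 ha0 a0 ha0, hexp a0 ha0]; simp [hδ, huu]
  have hδcases : ∀ t ∈ T, δ t = 1 ∨ δ t = c := by
    intro t ht
    by_cases htD : t ∈ T''
    · exact Or.inl (hδD t htD)
    · refine Or.inr ?_
      have h3 : ((⟨t, ht⟩ : ↥T) * ⟨a0, ha0⟩) ∈ T''.subgroupOf T :=
        (mul_mem_iff_of_index_two hD2).2 (iff_of_false htD ha0D)
      have h4 : δ t * c = 1 := by rw [hc, ← hδmul t ht a0 ha0]; exact hδD _ h3
      calc δ t = δ t * (c * c) := by rw [hcc, mul_one]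
        _ = c := by rw [← mul_assoc, h4, one_mul]
  have hc1 : c ≠ 1 := by
    intro e
    refine hu (hX.centralizer_core_le (mem_centralizer_iff.2 fun t ht => ?_))
    have h0 : δ t = 1 := by
      rcases hδcases t ht with r | r
      · exact r
      · rw [r, e]
    simp only [hδ] at h0
    have h1 := mul_eq_one_iff_eq_inv.1 h0
    rw [inv_eq_of_mul_eq_one_right huu] at h1
    calc t * u = (t * u * t) * t := by rw [mul_assoc (t * u) t t, hexp t ht, mul_one]
      _ = u * t := by rw [h1]
  have hsq : ∀ r ∈ R, r * r = 1 ∨ r * r = c := by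
    intro r hr
    rcases hcases r hr with hrT | ⟨t, ht, rfl⟩
    · exact Or.inl (hexp r hrT)
    · rcases hδcases t ht with e | e
      · exact Or.inl (by rw [← e]; simp only [hδ]; group)
      · exact Or.inr (by rw [← e]; simp only [hδ]; group)
  have ha0u : (a0 * u) * (a0 * u) = c := by simp only [hc, hδ]; group
  have ha0uR : a0 * u ∈ R := mul_mem (hTR ha0) huR
  have hfix : ∀ y ∈ normalizer (R : Set G), y * c = c * y := by
    intro y hy
    have h1 := (mem_normalizer_iff.1 hy _).1 ha0uR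
    have e : y * (a0 * u) * y⁻¹ * (y * (a0 * u) * y⁻¹) = y * c * y⁻¹ := by rw [← ha0u]; group
    rcases hsq _ h1 with r | r
    · exact absurd (conj_eq_one_iff.1 (e.symm.trans r)) hc1
    · exact mul_inv_eq_iff_eq_mul.1 (e.symm.trans r)
  have hcR : c ∈ R := hTR (hδmem a0 ha0)
  have hxc : x * c = c * x := hfix x hxN
  have hcS : ∃ y ∈ (S : Subgroup G), y * c ≠ c * y := by
    by_contra hno
    push Not at hno
    have h1 := h.centralizer_central (mem_inf.1 hcR).1 hc1 (mem_centralizer_iff.2 hno)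
    have hxS : x ∈ (S : Subgroup G) := h1 ▸ mem_centralizer_singleton_iff.2 hxc
    obtain ⟨n, hn⟩ := S.2 ⟨x, hxS⟩
    have h2 : orderOf x ∣ 2 ^ n := orderOf_dvd_of_pow_eq_one (congrArg Subtype.val hn)
    exact hx1 (orderOf_eq_one_iff.1 (Nat.eq_one_of_dvd_coprimes
      ((Nat.coprime_two_right.2 hodd).pow_right n) dvd_rfl h2))
  set M := (S : Subgroup G) ⊓ centralizer ({c} : Set G) with hM
  have hRM : R ≤ M := fun r hr => mem_inf.2 ⟨(mem_inf.1 hr).1,
    mem_centralizer_singleton_iff.2 (hfix r (le_normalizer hr))⟩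
  have hsM : s ∈ M := mem_inf.2 ⟨hsS, mem_centralizer_singleton_iff.2 (hfix s hsN)⟩
  obtain ⟨v, hvS, hvc⟩ := hcS
  have hvM : v ∉ M := fun hv => hvc (mem_centralizer_singleton_iff.1 (mem_inf.1 hv).2)
  have hMc : Nat.card M = 64 := by
    obtain ⟨j, hj⟩ := (S.2.to_le (inf_le_left : M ≤ _)).exists_card_eq
    have h1 : Nat.card R < Nat.card M :=
      lt_of_le_of_ne (card_le_of_le hRM) fun e => hsX ((eq_of_le_of_card_ge hRM e.ge).ge hsM).2
    have h2 : Nat.card M < Nat.card (S : Subgroup G) :=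
      lt_of_le_of_ne (card_le_of_le inf_le_left) fun e => hvM ((eq_of_le_of_card_ge inf_le_left e.ge).ge hvS)
    rw [hR, hj] at h1; rw [h.card_sylow, hj] at h2
    rw [hj]
    have h3 : 5 < j := (Nat.pow_lt_pow_iff_right one_lt_two).1 h1
    have h4 : j < 7 := (Nat.pow_lt_pow_iff_right one_lt_two).1 h2
    rw [show j = 6 by omega]; norm_num
  have hMn : v ∈ normalizer (M : Set G) := by
    have hlt : M < (S : Subgroup G) := lt_of_le_of_ne inf_le_left fun e => hvM (e.ge hvS)
    have h1 := CfsgLib.Techniques.Functor.lt_norm S.2 hlt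
    obtain ⟨j, hj⟩ := (S.2.to_le (inf_le_left : (S : Subgroup G) ⊓ normalizer (M : Set G) ≤ _)).exists_card_eq
    have h2 := lt_of_le_of_ne (card_le_of_le h1.le) fun e => h1.ne (eq_of_le_of_card_ge h1.le e.ge)
    have h3 : Nat.card ↥((S : Subgroup G) ⊓ normalizer (M : Set G)) ≤ 2 ^ 7 :=
      h.card_sylow ▸ card_le_of_le inf_le_left
    rw [hMc, hj] at h2
    rw [hj] at h3
    have h4 : 6 < j := (Nat.pow_lt_pow_iff_right one_lt_two).1 h2
    have h5 : j ≤ 7 := (Nat.pow_le_pow_iff_right one_lt_two).1 h3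
    have e := eq_of_le_of_card_ge (inf_le_left : (S : Subgroup G) ⊓ normalizer (M : Set G) ≤ _)
      (by rw [h.card_sylow, hj, show j = 7 by omega])
    exact (e.ge hvS).2
  set R2 := conjSub v R with hR2
  have hR2M : R2 ≤ M := fun y hy => by
    rw [hR2, mem_conjSub] at hy
    have := (mem_normalizer_iff.1 hMn _).1 (hRM hy)
    simpa [mul_assoc] using this
  have hR2i : R2.relIndex M = 2 := by
    have h1 := Subgroup.card_mul_index (R2.subgroupOf M)
    rw [Nat.card_congr (subgroupOfEquivOfLe hR2M).toEquiv, hR2, card_conjSub, hR, hMc] at h1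
    show (R2.subgroupOf M).index = 2
    rw [hR2]; omega
  have hcom := commutator_mem_of_index_two hR2M hR2i hsM (hRM (hTR ha0))
  set b := s * a0 * s⁻¹ with hb
  have hbT' : b ∈ T' := conj_mem_conjSub ha0
  have hbT : b ∉ T := by
    intro hbT
    refine ha0D (mem_inf.2 ⟨ha0, ?_⟩)
    have hss : s * s ∈ normalizer (T : Set G) := le_normalizer_core X (mem_inf.1 hs2).2
    have h1 := (mem_normalizer_iff.1 (inv_mem hss) b).1 hbT
    refine ⟨(s * s)⁻¹ * b * (s * s)⁻¹⁻¹, h1, ?_⟩
    show s * ((s * s)⁻¹ * b * (s * s)⁻¹⁻¹) * s⁻¹ = a0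
    rw [hb]; group
  obtain hbT2 | ⟨t, ht, hbt⟩ := hcases b (hT'R hbT')
  · exact hbT hbT2
  have ht'' : t ∈ T'' := mem_inf.2 ⟨ht, by
    rw [show t = b * u⁻¹ by rw [hbt]; group]
    exact mul_mem hbT' (inv_mem (conj_mem_conjSub ha'))⟩
  have hcsq : (b * a0) * (b * a0) = c := by
    have e : (b * a0) * (b * a0) = δ t * δ a0 := by
      rw [← hδmul t ht a0 ha0, hbt]
      calc t * u * a0 * (t * u * a0) = t * u * (a0 * t) * u * a0 := by group
        _ = t * (u * (t * a0) * u) * a0 := by rw [hcomT a0 ha0 t ht]; group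
        _ = t * (a0 * (u * (t * a0) * u)) := by
              rw [mul_assoc, hcomT _ (hnorm _ (mul_mem ht ha0)) a0 ha0]
        _ = δ (t * a0) := by simp only [hδ]; group
    rw [e, hδD t ht'', one_mul]
  have hmem : b * a0 ∈ R2 := by rwa [inv_eq_of_mul_eq_one_right (hexp a0 ha0)] at hcom
  obtain ⟨r, hr, he⟩ := hmem
  have he' : v * r * v⁻¹ = b * a0 := he
  have e2 : v * (r * r) * v⁻¹ = c := by
    rw [← hcsq, ← he']; group
  rcases hsq r hr with e | e
  · rw [e] at e2; exact hc1 (by rw [← e2]; group)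
  · rw [e] at e2; exact hvc (mul_inv_eq_iff_eq_mul.1 e2)

/-- The image has order six. -/
theorem Good.card_act : Nat.card hX.act.range = 6 := by
  classical
  haveI : Fact (Nat.Prime 2) := ⟨Nat.prime_two⟩
  obtain ⟨k, hk⟩ := hX.core_pow
  obtain ⟨P, hP⟩ := hX.exists_image_sylow h
  obtain ⟨r, hr⟩ := P.2.exists_card_eq
  obtain ⟨s, hsS, hsX, hsN, hs2⟩ := hX.exists_swap h
  set R := (S : Subgroup G) ⊓ X with hRdef
  have hRc := hX.card_image h hP
  rw [hk, hr, ← pow_add] at hRc
  have hr1 : r ≠ 0 := by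
    rintro rfl
    have e : core X = R := eq_of_le_of_card_ge hX.core_le_R (by rw [hk, hRc, add_zero])
    exact hsX (hX.normalizer_core ▸ (show s ∈ normalizer (core X : Set G) by rw [e]; exact hsN))
  have hev : 2 ∣ Nat.card hX.act.range := (hr ▸ dvd_pow_self 2 hr1).trans (Subgroup.card_subgroup_dvd_card _)
  have hPlt : (P : Subgroup ↥hX.act.range) < ⊤ := lt_top_iff_ne_top.2 fun e => by
    refine hX.not_isPGroup h ?_
    have hp : IsPGroup 2 ↥hX.act.range := P.2.of_equiv ((MulEquiv.subgroupCongr e).trans topEquiv)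
    obtain ⟨j, hj⟩ := hp.exists_card_eq
    exact IsPGroup.of_card (n := k + j) (by rw [hX.card_eq h, hk, hj, pow_add])
  have hnl : ∀ n, 8 ≤ k + n → ¬ Long (⊤ : Subgroup ↥hX.act.range) n := fun n hn hl =>
    hX.not_long h ((hX.long_range h hk hl).of_le hn)
  have hkr : k + r + 1 ≤ 7 := by
    by_contra hlt
    exact hnl (r + 1) (by omega) (Long.step hPlt (long_of_card hr))
  have hmax : 7 ≤ k + r + 1 → ∀ K : Subgroup ↥hX.act.range, (P : Subgroup ↥hX.act.range) < K → K = ⊤ := fun h7 K hK => by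
    by_contra hne
    exact hnl (r + 2) (by omega) (Long.step (lt_top_iff_ne_top.2 hne) (Long.step hK (long_of_card hr)))
  set V := omegaZ (core X) with hV
  by_cases hv8 : Nat.card V ≤ 8
  · refine card_eq_six_of_small (omegaZ_sq _) hv8 hX.act.range (hX.range_O2 h) hev ?_
    by_cases hk3 : 3 ≤ k
    · exact hnl 5 (by omega)
    · intro hl
      have h1 := two_pow_le_card_of_long hl
      rw [card_top] at h1
      have h2 : Nat.card hX.act.range ≤ Nat.card (MulAut ↥V) := Nat.le_of_dvd Nat.card_pos (Subgroup.card_subgroup_dvd_card _)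
      have h3 : Nat.card (MulAut ↥V) ≤ (Nat.card ↥V).factorial := by
        rw [← Nat.card_perm]; exact Nat.card_le_card_of_injective _ MulEquiv.toEquiv_injective
      have h4 : Nat.card V ≤ 4 := by
        have := card_le_of_le (show V ≤ core X from fun x hx => hx.1)
        rw [hk] at this
        exact this.trans (Nat.pow_le_pow_right (by norm_num) (show k ≤ 2 by omega))
      have h5 := Nat.factorial_le h4
      simp [Nat.factorial] at h5
      omega
  push Not at hv8
  have hVT : V ≤ core X := fun x hx => hx.1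
  have hVp : ∃ j, Nat.card V = 2 ^ j := ((core_isPGroup X).to_le hVT).exists_card_eq
  obtain ⟨j, hj⟩ := hVp
  have hj4 : 4 ≤ j := by
    by_contra hlt
    have := Nat.pow_le_pow_right (show 2 > 0 by norm_num) (show j ≤ 3 by omega)
    omega
  have hjk : j ≤ k := (Nat.pow_le_pow_iff_right one_lt_two).1 (hj ▸ hk ▸ card_le_of_le hVT)
  -- the core is abelian
  have hcomT : ∀ a ∈ core X, ∀ b ∈ core X, a * b = b * a := by
    intro a ha b hb
    have hi : (V.subgroupOf (core X)).index ≤ 2 := by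
      have h1 := Subgroup.card_mul_index (V.subgroupOf (core X))
      rw [Nat.card_congr (subgroupOfEquivOfLe hVT).toEquiv, hj, hk] at h1
      by_contra hlt
      have h2 : 2 ^ j * 3 ≤ 2 ^ k := by rw [← h1]; exact Nat.mul_le_mul le_rfl (by omega)
      have h3 : 2 ^ k ≤ 2 ^ j * 2 := by rw [← pow_succ]; exact Nat.pow_le_pow_right (by norm_num) (by omega)
      have := Nat.pos_of_ne_zero (pow_ne_zero j (show 2 ≠ 0 by norm_num))
      omega
    by_cases haV : a ∈ V
    · exact omegaZ_comm haV hb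
    by_cases hbV : b ∈ V
    · exact (omegaZ_comm hbV ha).symm
    have h2 : (V.subgroupOf (core X)).index = 2 := by
      have h0 : (V.subgroupOf (core X)).index ≠ 0 := Subgroup.index_ne_zero_of_finite
      have h1 : (V.subgroupOf (core X)).index ≠ 1 := fun e =>
        haV (show (⟨a, ha⟩ : ↥(core X)) ∈ V.subgroupOf (core X) by rw [index_eq_one.1 e]; trivial)
      omega
    have h3 : ((⟨a, ha⟩ : ↥(core X))⁻¹ * ⟨b, hb⟩) ∈ V.subgroupOf (core X) :=
      (mul_mem_iff_of_index_two h2).2 (iff_of_false (fun e => haV (by simpa [mem_subgroupOf] using e)) hbV)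
    have h4 : (a⁻¹ * b) * a = a * (a⁻¹ * b) := omegaZ_comm h3 ha
    rw [mul_inv_cancel_left] at h4
    calc a * b = a * ((a⁻¹ * b) * a) := by rw [h4]
      _ = b * a := by group
  have hexp4 : k = 4 → ∀ t ∈ core X, t * t = 1 := fun hk4 t ht => by
    have e : V = core X := eq_of_le_of_card_ge hVT (by
      rw [hk, hj]; exact Nat.pow_le_pow_right (by norm_num) (by omega))
    rw [← e] at ht
    exact ht.2.2
  -- the image Sylow subgroup is abelian, self-normalising and centralises no more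
  have hP1 : (P : Subgroup ↥hX.act.range) ≠ ⊥ := fun e => by
    rw [e, card_bot] at hr
    exact hr1 (Nat.pow_right_injective le_rfl (show 2 ^ r = 2 ^ 0 by rw [pow_zero, ← hr]))
  have hPab : ∀ a ∈ (P : Subgroup ↥hX.act.range), ∀ b ∈ (P : Subgroup ↥hX.act.range), a * b = b * a := by
    intro a ha b hb
    have hr2 : r = 1 ∨ r = 2 := by omega
    rcases hr2 with rfl | rfl
    · haveI : IsCyclic (P : Subgroup ↥hX.act.range) := isCyclic_of_prime_card (hr.trans (pow_one 2))
      exact congrArg Subtype.val ((IsCyclic.commGroup (α := (P : Subgroup ↥hX.act.range))).mul_comm ⟨a, ha⟩ ⟨b, hb⟩)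
    · exact congrArg Subtype.val (IsPGroup.commutative_of_card_eq_prime_sq hr ⟨a, ha⟩ ⟨b, hb⟩)
  have hNC : normalizer ((P : Subgroup ↥hX.act.range) : Set ↥hX.act.range) = (P : Subgroup ↥hX.act.range) ∧
      ∀ u ∈ (P : Subgroup ↥hX.act.range), u ≠ 1 → (∀ x ∈ (P : Subgroup ↥hX.act.range), x * u = u * x) →
        centralizer ({u} : Set ↥hX.act.range) = (P : Subgroup ↥hX.act.range) := by
    by_cases h7 : 7 ≤ k + r + 1
    · exact eq_of_coatom (hX.range_O2 h) P hP1 (hmax h7)
    have hk4 : k = 4 := by omega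
    have hr1' : r = 1 := by omega
    subst hr1' hk4
    suffices hN : normalizer ((P : Subgroup ↥hX.act.range) : Set ↥hX.act.range) = (P : Subgroup ↥hX.act.range) by
      refine ⟨hN, fun u hu hu1 hux => le_antisymm (fun y hy => ?_)
        fun y hy => mem_centralizer_singleton_iff.2 (hux y hy)⟩
      rw [← hN]
      have hPz : (P : Subgroup ↥hX.act.range) = zpowers u := (eq_of_le_of_card_ge (zpowers_le.2 hu) (by
        rw [hr, pow_one, Nat.card_zpowers]
        exact Nat.succ_le_of_lt (lt_of_le_of_ne (Nat.succ_le_of_lt (orderOf_pos u))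
          (Ne.symm fun e => hu1 (orderOf_eq_one_iff.1 e))))).symm
      rw [hPz]
      refine centralizer_le_normalizer _ (mem_centralizer_iff.2 ?_)
      rintro _ ⟨n, rfl⟩
      exact ((Commute.zpow_right (mem_centralizer_singleton_iff.1 hy) n).eq).symm
    rcases eq_or_lt_of_le (le_normalizer (H := (P : Subgroup ↥hX.act.range))) with e | e
    · exact e.symm
    exfalso
    set K := normalizer ((P : Subgroup ↥hX.act.range) : Set ↥hX.act.range)
    have hidx : (P : Subgroup ↥hX.act.range).relIndex K ≠ 1 := fun he => e.not_ge (relIndex_eq_one.1 he)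
    obtain ⟨q, hq, hqd⟩ := Nat.exists_prime_and_dvd hidx
    haveI : Fact q.Prime := ⟨hq⟩
    have hq2 : q ≠ 2 := fun e2 => P.not_dvd_index ((e2 ▸ hqd).trans (relIndex_dvd_index_of_le e.le))
    obtain ⟨y, hy⟩ := exists_prime_orderOf_dvd_card' (G := ↥K) q (hqd.trans (relIndex_dvd_card _ _))
    obtain ⟨x, hx⟩ := hX.act.rangeRestrict_surjective (y : ↥hX.act.range)
    obtain ⟨m, m', hm, hxo⟩ := Nat.exists_eq_two_pow_mul_odd (orderOf_pos x).ne'
    set x' := x ^ 2 ^ m with hx'
    have hodd : Odd (orderOf x') := by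
      have := orderOf_pow (x := x) (n := 2 ^ m)
      rw [hx', this, hxo]
      simpa using hm
    have himg : hX.act.rangeRestrict x' = (y : ↥hX.act.range) ^ 2 ^ m := by rw [hx', map_pow, hx]
    have hne1 : hX.act.rangeRestrict x' ≠ 1 := by
      rw [himg]
      intro he
      have h1 := orderOf_dvd_of_pow_eq_one he
      rw [orderOf_coe, hy] at h1
      exact hq2 ((Nat.prime_dvd_prime_iff_eq hq Nat.prime_two).1 (hq.dvd_of_dvd_pow h1))
    have hmem : (hX.act.rangeRestrict x') ∈ K := by rw [himg]; exact pow_mem y.2 _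
    have hxN : (x' : G) ∈ normalizer (R : Set G) := by
      have key : ∀ w : ↥X, hX.act.rangeRestrict w ∈ K → ∀ t ∈ R, (w : G) * t * (w : G)⁻¹ ∈ R := by
        intro w hw t ht
        have hP' : hX.act.rangeRestrict ⟨t, ht.2⟩ ∈ (P : Subgroup ↥hX.act.range) := by rw [hP]; exact ⟨_, ht, rfl⟩
        have h1 := (mem_normalizer_iff.1 hw _).1 hP'
        rw [← map_inv, ← map_mul, ← map_mul] at h1
        exact hX.mem_R_of_image h hP h1
      refine mem_normalizer_iff.2 fun t => ⟨key x' hmem t, fun ht => ?_⟩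
      have := key x'⁻¹ (by rw [map_inv]; exact inv_mem hmem) _ ht
      simpa [mul_assoc] using this
    have h1 := hX.no_normalizing h (by rw [hk]; norm_num) (hexp4 rfl) (by rw [hRc]; norm_num) hxN
      ((orderOf_coe x').symm ▸ hodd)
    exact hne1 (by rw [show x' = 1 from Subtype.ext h1, map_one])
  haveI : IsMulCommutative ↥(P : Subgroup ↥hX.act.range) := ⟨⟨fun a b => Subtype.ext (hPab a a.2 b b.2)⟩⟩
  obtain ⟨O, hO, hOodd, hUc, hinv⟩ := exists_inverted_complement P inferInstance hNC.1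
    fun u hu hu1 _ => hNC.2 u hu hu1 fun y hy => hPab y hy u hu
  have hO1 : O ≠ ⊥ := fun e => hPlt.ne (eq_top_of_card_eq _ (by rw [hUc, e, card_bot, one_mul]))
  haveI : Nontrivial ↥O := O.nontrivial_iff_ne_bot.2 hO1
  obtain ⟨⟨o, hoO⟩, ho1⟩ := exists_ne (1 : ↥O)
  have ho1' : o ≠ 1 := fun e => ho1 (Subtype.ext e)
  have hosq : ∀ w ∈ O, w * w = 1 → w = 1 := fun w hw hw2 => by
    have h1 : orderOf w ∣ 2 := orderOf_dvd_of_pow_eq_one (by rw [sq, hw2])
    have h2 : orderOf w ∣ Nat.card O := Subgroup.orderOf_dvd_natCard O hw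
    exact orderOf_eq_one_iff.1 (Nat.eq_one_of_dvd_coprimes (Nat.coprime_two_left.2 hOodd) h1 h2)
  -- the Sylow subgroup has only one involution
  have huniq : ∀ u1 ∈ (P : Subgroup ↥hX.act.range), ∀ u2 ∈ (P : Subgroup ↥hX.act.range), u1 ≠ 1 → u2 ≠ 1 → u1 * u1 = 1 →
      u2 * u2 = 1 → u1 = u2 := by
    intro u1 hu1 u2 hu2 h11 h21 h12 h22
    by_contra hne
    have e2 : u1 * u2 * (u1 * u2) = 1 := by
      rw [show u1 * u2 * (u1 * u2) = u1 * (u2 * u1) * u2 by group, hPab u2 hu2 u1 hu1,
        show u1 * (u1 * u2) * u2 = (u1 * u1) * (u2 * u2) by group, h12, h22, mul_one]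
    have e1 : u1 * u2 ≠ 1 := fun e => hne (by rw [mul_eq_one_iff_eq_inv.1 e, inv_eq_of_mul_eq_one_right h22])
    have a2 := hinv u2 hu2 h21 h22 o hoO
    have a1 := hinv u1 hu1 h11 h12 o⁻¹ (inv_mem hoO)
    rw [inv_inv] at a1
    have a3 := hinv _ (mul_mem hu1 hu2) e1 e2 o hoO
    have a4 : u1 * u2 * o * (u1 * u2) = o := by
      conv_rhs => rw [← a1, ← a2]
      rw [show u1 * u2 * o * (u1 * u2) = u1 * u2 * o * u1 * u2 by group,
        show u1 * (u2 * o * u2) * u1 = u1 * u2 * o * (u2 * u1) by group, hPab u2 hu2 u1 hu1]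
      group
    exact ho1' (hosq o hoO (mul_eq_one_iff_eq_inv.2 (a4.symm.trans a3)))
  -- a transvection
  set T := core X with hT
  set T' := conjSub s T with hT'
  have hne : T' ≠ T := fun e => hsX (hX.normalizer_core ▸ conjSub_eq_iff_mem_normalizer.1 e)
  have hTR : T ≤ R := hX.core_le_R
  have hT'R : T' ≤ R := fun y hy => by
    rw [hT', mem_conjSub] at hy
    have := (mem_normalizer_iff.1 hsN _).1 (hTR hy)
    rw [show s * (s⁻¹ * y * s) * s⁻¹ = y by group] at this
    exact this
  obtain ⟨a, haT', haT⟩ : ∃ a ∈ T', a ∉ T := by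
    by_contra hno
    push Not at hno
    exact hne (eq_of_le_of_card_ge hno (by rw [hT', card_conjSub]))
  let img : ↥T' →* ↥hX.act.range := hX.act.rangeRestrict.comp (inclusion (hT'R.trans inf_le_right))
  have himgP : ∀ w : ↥T', img w ∈ (P : Subgroup ↥hX.act.range) := fun w => by
    rw [hP]; exact ⟨⟨w, (hT'R w.2).2⟩, hT'R w.2, rfl⟩
  have himg2 : ∀ w : ↥T', img w * img w = 1 := by
    intro w
    by_cases hr' : r = 1
    · have h1 := pow_card_eq_one' (x := (⟨img w, himgP w⟩ : (P : Subgroup ↥hX.act.range)))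
      rw [hr, hr', pow_one, sq] at h1
      exact congrArg Subtype.val h1
    · obtain ⟨t, ht, he⟩ := w.2
      rw [← map_mul, show w * w = 1 from Subtype.ext (by
        show (w : G) * w = 1
        rw [← show s * t * s⁻¹ = (w : G) from he, show s * t * s⁻¹ * (s * t * s⁻¹) = s * (t * t) * s⁻¹ by group,
          hexp4 (by omega) t ht]
        group), map_one]
  have himgker : ∀ w : ↥T', img w = 1 → (w : G) ∈ T := fun w hw => by
    have h1 : (⟨(w : G), (hT'R w.2).2⟩ : ↥X) ∈ hX.act.rangeRestrict.ker := hw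
    rw [MonoidHom.ker_rangeRestrict, hX.ker_act h] at h1
    exact h1
  have hu1 : img ⟨a, haT'⟩ ≠ 1 := fun e => haT (himgker _ e)
  set u := img ⟨a, haT'⟩ with hu
  have hDi : (T' ⊓ T).relIndex T ≤ 2 := by
    have h1 : T.relIndex T' ≤ 2 := by
      have hker : img.ker = T.subgroupOf T' := by
        ext w
        refine ⟨fun hw => himgker w hw, fun hw => ?_⟩
        rw [MonoidHom.mem_ker]
        show hX.act.rangeRestrict ⟨(w : G), (hT'R w.2).2⟩ = 1
        rw [← MonoidHom.mem_ker, MonoidHom.ker_rangeRestrict, hX.ker_act h]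
        exact hw
      show (T.subgroupOf T').index ≤ 2
      rw [← hker, Subgroup.index_ker]
      have hsub : (img.range : Set ↥hX.act.range) ⊆ {1, u} := by
        rintro _ ⟨w, rfl⟩
        by_cases hw : img w = 1
        · exact Or.inl hw
        · exact Or.inr (huniq _ (himgP w) _ (himgP _) hw hu1 (himg2 w) (himg2 _))
      calc Nat.card img.range = (img.range : Set ↥hX.act.range).ncard := (Nat.card_coe_set_eq _)
        _ ≤ ({1, u} : Set ↥hX.act.range).ncard := Set.ncard_le_ncard hsub (Set.toFinite _)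
        _ ≤ 2 := (Set.ncard_insert_le _ _).trans (by simp)
    have h2 := Subgroup.card_mul_index (T.subgroupOf T')
    have h3 := Subgroup.card_mul_index (T'.subgroupOf T)
    rw [inf_relIndex_right]
    have e1 : Nat.card (T.subgroupOf T') = Nat.card (T'.subgroupOf T) := by
      rw [← inf_subgroupOf_right T T', ← inf_subgroupOf_right T' T,
        Nat.card_congr (subgroupOfEquivOfLe (inf_le_right : T ⊓ T' ≤ T')).toEquiv,
        Nat.card_congr (subgroupOfEquivOfLe (inf_le_right : T' ⊓ T ≤ T)).toEquiv, inf_comm]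
    have e2 : Nat.card ↥T' = Nat.card ↥T := by rw [hT', card_conjSub]
    rw [e1] at h2
    show (T'.subgroupOf T).index ≤ 2
    have h4 : (T.subgroupOf T').index = (T'.subgroupOf T).index :=
      Nat.eq_of_mul_eq_mul_left Nat.card_pos (h2.trans (e2.trans h3.symm))
    rw [← h4]; exact h1
  have htv : IsTv (u : MulAut ↥V) := by
    refine isTv_of_fixed (omegaZ_sq _) ?_ (fun e => hu1 (Subtype.ext e)) ((T' ⊓ T).subgroupOf V) ?_ ?_
    · rw [← Subgroup.coe_mul, himg2]; rfl
    · exact (relIndex_le_of_le_right hVT (fun e => Subgroup.index_ne_zero_of_finite (H := (T' ⊓ T).subgroupOf T) e)).trans hDi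
    · intro v hv
      refine Subtype.ext ?_
      show a * (v : G) * a⁻¹ = v
      obtain ⟨t1, ht1, e1⟩ := haT'
      obtain ⟨t2, ht2, e2⟩ := (mem_inf.1 (mem_subgroupOf.1 hv)).1
      rw [mul_inv_eq_iff_eq_mul, ← show s * t1 * s⁻¹ = a from e1, ← show s * t2 * s⁻¹ = (v : G) from e2,
        show s * t1 * s⁻¹ * (s * t2 * s⁻¹) = s * (t1 * t2) * s⁻¹ by group, hcomT t1 ht1 t2 ht2]
      group
  have hO3 : Nat.card O ≤ 3 := by
    have := card_le_three_of_inverted (omegaZ_sq _) htv (O.map hX.act.range.subtype)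
      (by rwa [card_map_of_injective hX.act.range.subtype_injective]) (by
        rintro _ ⟨w, hw, rfl⟩
        exact congrArg Subtype.val (hinv u (himgP _) hu1 (himg2 _) w hw))
    rwa [card_map_of_injective hX.act.range.subtype_injective] at this
  have hO3' : Nat.card O = 3 := by
    have h1 : Nat.card O ≠ 1 := fun e => hO1 (Subgroup.eq_bot_of_card_eq O e)
    have h0 := Nat.card_pos (α := O)
    obtain ⟨b, hb⟩ := hOodd
    omega
  rcases (show r = 1 ∨ r = 2 by omega) with rfl | rfl
  · rw [hUc, hO3', hr]; norm_num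
  exfalso
  obtain ⟨q, hqP, hqu, hq1⟩ : ∃ q ∈ (P : Subgroup ↥hX.act.range), q ≠ u ∧ q ≠ 1 := by
    by_contra hno
    push Not at hno
    have hsub : ((P : Subgroup ↥hX.act.range) : Set ↥hX.act.range) ⊆ {1, u} := fun q hq => by
      by_cases hqu : q = u
      · exact Or.inr hqu
      · exact Or.inl (hno q hq hqu)
    have := Set.ncard_le_ncard hsub (Set.toFinite _)
    rw [← Nat.card_coe_set_eq] at this
    change Nat.card (P : Subgroup ↥hX.act.range) ≤ _ at this
    have h2 := this.trans ((Set.ncard_insert_le _ _).trans (by simp : _ ≤ 2))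
    rw [hr] at h2
    norm_num at h2
  have hqq : q * q = u := by
    have h4 : (q * q) * (q * q) = 1 := by
      have h1 := pow_card_eq_one' (x := (⟨q, hqP⟩ : (P : Subgroup ↥hX.act.range)))
      rw [hr] at h1
      have h2 : q ^ 4 = 1 := congrArg Subtype.val h1
      rw [← h2]; simp [pow_succ, mul_assoc]
    refine huniq _ (mul_mem hqP hqP) _ (himgP _) (fun e => ?_) hu1 h4 (himg2 _)
    exact hqu (huniq q hqP _ (himgP _) hq1 hu1 e (himg2 _))
  -- conjugation by `q` has square fixing the complement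
  have hval : ∀ w ∈ O, w = 1 ∨ w = o ∨ w = o⁻¹ := by
    intro w hw
    by_contra hno
    push Not at hno
    have hsub : ({1, o, o⁻¹, w} : Set ↥hX.act.range) ⊆ (O : Set ↥hX.act.range) := by
      intro y hy
      rcases hy with rfl | rfl | rfl | rfl
      exacts [O.one_mem, hoO, O.inv_mem hoO, hw]
    have := Set.ncard_le_ncard hsub (Set.toFinite _)
    have hoo : o ≠ o⁻¹ := fun e => ho1' (hosq o hoO (mul_eq_one_iff_eq_inv.2 e))
    rw [Set.ncard_insert_of_notMem (by simp [eq_comm, ho1', hno.1, inv_ne_one.2 ho1']),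
      Set.ncard_insert_of_notMem (by simp [hoo, Ne.symm hno.2.1]),
      Set.ncard_pair (Ne.symm hno.2.2)] at this
    change _ ≤ Nat.card O at this
    omega
  have hqo : q * o * q⁻¹ ∈ O := hO.conj_mem o hoO q
  have huo : u * o * u = o := by
    have e : q * (q * o * q⁻¹) * q⁻¹ = u * o * u := by
      rw [← hqq]
      have hqi : q⁻¹ * q⁻¹ = q * q := by
        rw [← mul_inv_rev, inv_eq_of_mul_eq_one_right]; rw [hqq]; exact himg2 _
      calc q * (q * o * q⁻¹) * q⁻¹ = q * q * o * (q⁻¹ * q⁻¹) := by group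
        _ = q * q * o * (q * q) := by rw [hqi]
    rw [← e]
    rcases hval _ hqo with r' | r' | r'
    · exact absurd (conj_eq_one_iff.1 r') ho1'
    · rw [r', r']
    · rw [r', show q * o⁻¹ * q⁻¹ = (q * o * q⁻¹)⁻¹ by group, r', inv_inv]
  exact ho1' (hosq o hoO (mul_eq_one_iff_eq_inv.2 (huo.symm.trans (hinv u (himgP _) hu1 (himg2 _) o hoO))))

end

end CfsgLib.LengthEight
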