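import Mathlib
import Cfsg.Agent.Lib.LengthEight.Long
import Cfsg.Agent.Lib.InvolChar.A8Section

/-!
Small groups of automorphisms of elementary abelian 2-groups.
-/

set_option autoImplicit false
set_option linter.unusedSectionVars false
set_option linter.style.haveILetI false

namespace CfsgLib.LengthEight

open Subgroup

variable {V : Type*} [Group V]

theorem comm_of_exp_two (h2 : ∀ v : V, v * v = 1) (a b : V) : a * b = b * a := by
  have ha : a⁻¹ = a := inv_eq_of_mul_eq_one_right (h2 a)
  have hb : b⁻¹ = b := inv_eq_of_mul_eq_one_right (h2 b)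
  have hab := inv_eq_of_mul_eq_one_right (h2 (a * b))
  rw [mul_inv_rev, ha, hb] at hab
  exact hab.symm

/-- Displacement `v ↦ v (o v)`. -/
def disp (o : MulAut V) (v : V) : V := v * o v

theorem disp_mul (h2 : ∀ v : V, v * v = 1) (o : MulAut V) (a b : V) :
    disp o (a * b) = disp o a * disp o b := by
  simp only [disp, map_mul]
  rw [mul_assoc, mul_assoc, ← mul_assoc b, comm_of_exp_two h2 b (o a), mul_assoc]

theorem apply_eq (h2 : ∀ v : V, v * v = 1) (o : MulAut V) (v : V) : o v = v * disp o v := by
  rw [disp, ← mul_assoc, h2, one_mul]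

theorem pow_apply_fixed (h2 : ∀ v : V, v * v = 1) (o : MulAut V) (v : V)
    (h : o (disp o v) = disp o v) : ∀ n : ℕ, (o ^ n) v = v * disp o v ^ n
  | 0 => by simp
  | n + 1 => by
    rw [pow_succ', MulAut.mul_apply, pow_apply_fixed h2 o v h n, map_mul, map_pow, h, apply_eq h2 o v,
      mul_assoc, ← pow_succ']

/-- An automorphism of odd order fixes no non-trivial displacement. -/
theorem disp_eq_one_of_fixed (h2 : ∀ v : V, v * v = 1) {o : MulAut V} (ho : Odd (orderOf o)) (v : V)
    (h : o (disp o v) = disp o v) : disp o v = 1 := by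
  have h1 := pow_apply_fixed h2 o v h (orderOf o)
  rw [pow_orderOf_eq_one, MulAut.one_apply, eq_comm, mul_eq_left] at h1
  obtain ⟨k, hk⟩ := ho
  rwa [hk, pow_succ, pow_mul, sq, h2, one_pow, one_mul] at h1

/-- An automorphism of order two displacing along one line only. -/
structure IsTv (u : MulAut V) : Prop where
  sq : u * u = 1
  ne : u ≠ 1
  line : ∃ c : V, ∀ v, disp u v = 1 ∨ disp u v = c

theorem isTv_of_fixed [Finite V] (h2 : ∀ v : V, v * v = 1) {u : MulAut V} (hu : u * u = 1) (hne : u ≠ 1)
    (K : Subgroup V) (hK : K.index ≤ 2) (hfix : ∀ k ∈ K, u k = k) : IsTv u := by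
  refine ⟨hu, hne, ?_⟩
  by_contra hno
  push Not at hno
  obtain ⟨a, ha, -⟩ := hno 1
  obtain ⟨b, hb, hb'⟩ := hno (disp u a)
  have hd : ∀ k ∈ K, disp u k = 1 := fun k hk => by rw [disp, hfix k hk, h2]
  have haK : a ∉ K := fun h => ha (hd a h)
  have hbK : b ∉ K := fun h => hb (hd b h)
  have hi : K.index = 2 := by
    have h0 : K.index ≠ 0 := K.index_ne_zero_of_finite
    have h1 : K.index ≠ 1 := fun e => haK (index_eq_one.1 e ▸ mem_top a)
    omega
  have h3 := hd _ (((mul_mem_iff_of_index_two hi).2 (iff_of_false haK hbK)) : a * b ∈ K)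
  rw [disp_mul h2] at h3
  exact hb' (by rw [← one_mul (disp u b), ← h2 (disp u a), mul_assoc, h3, mul_one])

theorem disp_conj (g u : MulAut V) (v : V) : disp (g * u * g⁻¹) v = g (disp u (g⁻¹ v)) := by
  simp [disp, MulAut.mul_apply]

theorem IsTv.conj {u : MulAut V} (h : IsTv u) (g : MulAut V) : IsTv (g * u * g⁻¹) := by
  obtain ⟨hu, hne, c, hc⟩ := h
  refine ⟨by rw [show g * u * g⁻¹ * (g * u * g⁻¹) = g * (u * u) * g⁻¹ by group, hu]; group,
    fun e => hne (conj_eq_one_iff.1 e), g c, fun v => ?_⟩
  rcases hc (g⁻¹ v) with e | e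
  · exact Or.inl (by rw [disp_conj, e, map_one])
  · exact Or.inr (by rw [disp_conj, e])

theorem disp_comp (h2 : ∀ v : V, v * v = 1) (u u' : MulAut V) (v : V) :
    disp (u * u') v = disp u' v * disp u (u' v) := by
  simp only [disp, MulAut.mul_apply]
  rw [mul_assoc v (u' v), ← mul_assoc (u' v), h2, one_mul]

/-- A product of two transvections of odd order has order dividing three, and its displacements are
spanned by the two lines. -/
theorem tv_mul (h2 : ∀ v : V, v * v = 1) {u u' : MulAut V} (hu : IsTv u) (hu' : IsTv u')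
    (ho : Odd (orderOf (u * u'))) : (u * u') ^ 3 = 1 ∧ ∀ c c' : V,
      (∀ v, disp u v = 1 ∨ disp u v = c) → (∀ v, disp u' v = 1 ∨ disp u' v = c') →
      ∀ v, disp (u * u') v = 1 ∨ disp (u * u') v = c ∨ disp (u * u') v = c' ∨ disp (u * u') v = c * c' := by
  have key : ∀ c c' : V, (∀ v, disp u v = 1 ∨ disp u v = c) → (∀ v, disp u' v = 1 ∨ disp u' v = c') →
      ∀ v, disp (u * u') v = 1 ∨ disp (u * u') v = c ∨ disp (u * u') v = c' ∨
        disp (u * u') v = c * c' := by
    intro c c' hc hc' v
    rw [disp_comp h2]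
    rcases hc (u' v) with e | e <;> rcases hc' v with e' | e' <;> rw [e, e']
    · exact Or.inl (one_mul _)
    · exact Or.inr (Or.inr (Or.inl (mul_one _)))
    · exact Or.inr (Or.inl (one_mul _))
    · exact Or.inr (Or.inr (Or.inr (comm_of_exp_two h2 _ _)))
  refine ⟨MulEquiv.ext fun v => ?_, key⟩
  obtain ⟨c, hc⟩ := hu.line
  obtain ⟨c', hc'⟩ := hu'.line
  set o := u * u' with hodef
  have k : ∀ v, disp o v = 1 ∨ disp o v = c ∨ disp o v = c' ∨ disp o v = c * c' := key c c' hc hc'
  rw [MulAut.one_apply]
  set d := disp o v with hd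
  have hod : disp o (o v) = o d := by rw [hd]; simp only [disp, map_mul]
  have hod2 : disp o (o (o v)) = o (o d) := by rw [← hod]; simp only [disp, map_mul]
  have e3 : (o ^ 3) v = v * (d * o d * o (o d)) := by
    rw [show o ^ 3 = o * o * o by rw [pow_succ, sq], MulAut.mul_apply, MulAut.mul_apply, apply_eq h2 o v, ← hd,
      map_mul, apply_eq h2 o v, ← hd, map_mul, map_mul, apply_eq h2 o v, ← hd]
    simp only [mul_assoc]
  by_cases hd1 : d = 1
  · rw [e3, hd1]; simp
  -- the orbit of `d` has three distinct members among three possible values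
  have n1 : o d ≠ d := fun e => hd1 (disp_eq_one_of_fixed h2 ho v e)
  have n1' : o d ≠ 1 := fun e => hd1 (o.injective (e.trans (map_one o).symm))
  have n2 : o (o d) ≠ o d := fun e => n1 (o.injective e)
  have n2' : o (o d) ≠ 1 := fun e => n1' (o.injective (e.trans (map_one o).symm))
  have n3 : o (o d) ≠ d := by
    intro e
    -- then the square fixes the displacement, and `o` is a power of it
    obtain ⟨m, hm⟩ := ho
    refine n1 ?_
    have h4 : ∀ j : ℕ, (o ^ (2 * j)) d = d := by
      intro j
      induction j with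
      | zero => simp
      | succ j ih =>
        rw [show 2 * (j + 1) = 2 * j + 2 by ring, pow_add, MulAut.mul_apply]
        rw [show (o ^ 2) d = d by rw [sq, MulAut.mul_apply]; exact e, ih]
    have h5 : o ^ (2 * (m + 1)) = o := by
      rw [show 2 * (m + 1) = orderOf o + 1 by omega, pow_succ, pow_orderOf_eq_one, one_mul]
    simpa [h5] using h4 (m + 1)
  have a0 := k v
  have a1 := k (o v)
  have a2 := k (o (o v))
  rw [← hd] at a0; rw [hod] at a1; rw [hod2] at a2
  have hperm : ∀ a b e : V, (e = a * b ∨ a = b * e ∨ b = a * e) → a * b * e = 1 := by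
    intro a b e h
    have hc1 := comm_of_exp_two h2
    rcases h with rfl | rfl | rfl
    · exact h2 _
    · rw [hc1 b e, mul_assoc e b b, h2, mul_one, h2]
    · rw [← mul_assoc a a e, h2, one_mul, h2]
  have hsum : d * o d * o (o d) = 1 := by
    rcases a0 with a0 | a0 | a0 | a0 <;> rcases a1 with a1 | a1 | a1 | a1 <;>
      rcases a2 with a2 | a2 | a2 | a2 <;>
      first
      | exact absurd a0 hd1
      | exact absurd a1 n1'
      | exact absurd a2 n2'
      | exact absurd (a1.trans a0.symm) n1
      | exact absurd (a2.trans a1.symm) n2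
      | exact absurd (a2.trans a0.symm) n3
      | (rw [a2, a1, a0]
         refine hperm _ _ _ ?_
         first
         | exact Or.inl rfl
         | exact Or.inl (comm_of_exp_two h2 _ _)
         | exact Or.inr (Or.inl rfl)
         | exact Or.inr (Or.inl (comm_of_exp_two h2 _ _))
         | exact Or.inr (Or.inr rfl)
         | exact Or.inr (Or.inr (comm_of_exp_two h2 _ _)))
  rw [e3, hsum, mul_one]

/-- An odd-order group inverted by a transvection has order at most three. -/
theorem card_le_three_of_inverted [Finite V] (h2 : ∀ v : V, v * v = 1) {u : MulAut V} (hu : IsTv u)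
    (O : Subgroup (MulAut V)) (hodd : Odd (Nat.card O)) (hinv : ∀ o ∈ O, u * o * u = o⁻¹) :
    Nat.card O ≤ 3 := by
  have hui : u⁻¹ = u := inv_eq_of_mul_eq_one_right hu.sq
  obtain ⟨c, hc⟩ := hu.line
  have hordd : ∀ o ∈ O, Odd (orderOf o) := fun o ho =>
    Odd.of_dvd_nat hodd (Subgroup.orderOf_dvd_natCard O ho)
  have huc : u c = c := by
    obtain ⟨v, hv⟩ : ∃ v, disp u v ≠ 1 := by
      by_contra hno
      push Not at hno
      exact hu.ne (MulEquiv.ext fun v => by rw [apply_eq h2 u v, hno v, mul_one, MulAut.one_apply])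
    have e : c = disp u v := ((hc v).resolve_left hv).symm
    rw [e, disp, map_mul, ← MulAut.mul_apply, hu.sq, MulAut.one_apply, comm_of_exp_two h2]
  -- every element is a product of two transvections
  have hprod : ∀ o ∈ O, ∃ g : MulAut V, o = u * (g * u * g⁻¹) := by
    intro o ho
    obtain ⟨m, hm⟩ := hordd o ho
    refine ⟨(o ^ (m + 1))⁻¹, ?_⟩
    have e1 : u * (o ^ (m + 1))⁻¹ * u = o ^ (m + 1) := by
      have := hinv _ (inv_mem (pow_mem ho (m + 1)))
      rwa [inv_inv] at this
    calc o = o ^ (m + 1) * o ^ (m + 1) := by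
            rw [← pow_add, show m + 1 + (m + 1) = orderOf o + 1 by omega, pow_succ, pow_orderOf_eq_one,
              one_mul]
      _ = u * (o ^ (m + 1))⁻¹ * u * o ^ (m + 1) := by rw [e1]
      _ = u * ((o ^ (m + 1))⁻¹ * u * (o ^ (m + 1))⁻¹⁻¹) := by group
  have hcube : ∀ o ∈ O, o ^ 3 = 1 := fun o ho => by
    obtain ⟨g, hg⟩ := hprod o ho
    rw [hg]; exact (tv_mul h2 hu (hu.conj g) (hg ▸ hordd o ho)).1
  -- the line of `u` is a displacement of each nontrivial element
  have hmem : ∀ o ∈ O, o ≠ 1 → c ≠ 1 ∧ ∃ v, disp o v = c := by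
    intro o ho ho1
    obtain ⟨g, hg⟩ := hprod o ho
    obtain ⟨v, hv⟩ : ∃ v, disp o v ≠ 1 := by
      by_contra hno
      push Not at hno
      exact ho1 (MulEquiv.ext fun v => by rw [apply_eq h2 o v, hno v, mul_one, MulAut.one_apply])
    obtain ⟨c', hc'⟩ := (hu.conj g).line
    have k : ∀ v, disp o v = 1 ∨ disp o v = c ∨ disp o v = c' ∨ disp o v = c * c' := fun v => by
      rw [hg]; exact (tv_mul h2 hu (hu.conj g) (hg ▸ hordd o ho)).2 c c' hc hc' v
    have n1 : o (disp o v) ≠ disp o v := fun e => hv (disp_eq_one_of_fixed h2 (hordd o ho) v e)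
    have hod : o (disp o v) = disp o (o v) := by simp only [disp, map_mul]
    have hc0 : c ≠ 1 := fun e => hu.ne (MulEquiv.ext fun w => by
      rw [apply_eq h2 u w, MulAut.one_apply]
      rcases hc w with r | r <;> simp [r, e])
    refine ⟨hc0, ?_⟩
    have a0 := k v
    have a1 := k (o v)
    rw [hod] at n1
    have hm : disp o (v * o v) = disp o v * disp o (o v) := disp_mul h2 o _ _
    rcases a0 with a0 | a0 | a0 | a0
    · exact absurd a0 hv
    · exact ⟨v, a0⟩
    · rcases a1 with a1 | a1 | a1 | a1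
      · exact absurd (o.injective (hod.trans (a1.trans (map_one o).symm))) hv
      · exact ⟨o v, a1⟩
      · exact absurd (a1.trans a0.symm) n1
      · refine ⟨v * o v, ?_⟩
        rw [hm, a0, a1, comm_of_exp_two h2 c c', ← mul_assoc, h2, one_mul]
    · rcases a1 with a1 | a1 | a1 | a1
      · exact absurd (o.injective (hod.trans (a1.trans (map_one o).symm))) hv
      · exact ⟨o v, a1⟩
      · refine ⟨v * o v, ?_⟩
        rw [hm, a0, a1, mul_assoc, h2, mul_one]
      · exact absurd (a1.trans a0.symm) n1
  by_contra hgt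
  push Not at hgt
  haveI : Nontrivial O := Finite.one_lt_card_iff_nontrivial.1 (by omega)
  obtain ⟨⟨o, ho⟩, hone⟩ := exists_ne (1 : O)
  have ho1 : o ≠ 1 := fun e => hone (Subtype.ext e)
  -- an element outside `⟨o⟩`
  obtain ⟨r, hr, hrn⟩ : ∃ r ∈ O, r ∉ zpowers o := by
    by_contra hno
    push Not at hno
    have h1 := card_le_of_le (show O ≤ zpowers o from hno)
    rw [Nat.card_zpowers] at h1
    have := orderOf_le_of_pow_eq_one (by norm_num) (hcube o ho)
    omega
  obtain ⟨hc0, v, hv⟩ := hmem o ho ho1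
  -- `r` commutes with `o`
  have hcom : r * o = o * r := by
    have hi := fun x (hx : x ∈ O) => hinv x hx
    have e1 := hi _ (mul_mem hr ho)
    rw [mul_inv_rev, show u * (r * o) * u = (u * r * u) * (u * o * u) by
      rw [show u * r * u * (u * o * u) = u * r * (u * u) * o * u by group, hu.sq]; group,
      hi r hr, hi o ho] at e1
    exact inv_injective (by rw [mul_inv_rev, mul_inv_rev, e1])
  have hrc : disp o (r v) = r c := by
    rw [← hv]; simp only [disp, map_mul]
    rw [← MulAut.mul_apply, ← hcom, MulAut.mul_apply]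
  -- the three nontrivial displacements of `o`
  have d1 : o c = disp o (o v) := by rw [← hv]; simp only [disp, map_mul]
  have d2 : o (o c) = disp o (o (o v)) := by rw [d1]; simp only [disp, map_mul]
  have n1 : o c ≠ c := fun e => hc0 (by rw [← hv] at e ⊢; exact disp_eq_one_of_fixed h2 (hordd o ho) v e)
  have n2 : o (o c) ≠ c := fun e => n1 (by
    have h3 : o (o (o c)) = c := by
      rw [← MulAut.mul_apply, ← MulAut.mul_apply, ← sq, ← pow_succ, hcube o ho, MulAut.one_apply]
    rwa [e] at h3)
  have hcases : r c = c ∨ r c = o c ∨ r c = o (o c) := by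
    obtain ⟨g, hg⟩ := hprod o ho
    obtain ⟨c', hc'⟩ := (hu.conj g).line
    have k : ∀ v, disp o v = 1 ∨ disp o v = c ∨ disp o v = c' ∨ disp o v = c * c' := fun v => by
      rw [hg]; exact (tv_mul h2 hu (hu.conj g) (hg ▸ hordd o ho)).2 c c' hc hc' v
    have a1 := k (o v)
    have a2 := k (o (o v))
    have a3 := k (r v)
    rw [hrc] at a3; rw [← d1] at a1; rw [← d2] at a2
    have n4 : o (o c) ≠ o c := fun e => n1 (o.injective e)
    have m1 : o c ≠ 1 := fun e => hc0 (o.injective (e.trans (map_one o).symm))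
    have m2 : o (o c) ≠ 1 := fun e => m1 (o.injective (e.trans (map_one o).symm))
    have m3 : r c ≠ 1 := fun e => hc0 (r.injective (e.trans (map_one r).symm))
    rcases a3 with a3 | a3 | a3 | a3 <;> rcases a1 with a1 | a1 | a1 | a1 <;>
      rcases a2 with a2 | a2 | a2 | a2 <;>
      first
      | exact absurd a3 m3
      | exact absurd a1 m1
      | exact absurd a2 m2
      | exact absurd a1 n1
      | exact absurd a2 n2
      | exact absurd (a2.trans a1.symm) n4
      | exact Or.inl a3
      | exact Or.inr (Or.inl (a3.trans a1.symm))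
      | exact Or.inr (Or.inr (a3.trans a2.symm))
  obtain ⟨i, hi⟩ : ∃ i : ℕ, r c = (o ^ i) c := by
    rcases hcases with e | e | e
    · exact ⟨0, by simpa using e⟩
    · exact ⟨1, by simpa using e⟩
    · exact ⟨2, by simpa [sq, MulAut.mul_apply] using e⟩
  set r' := (o ^ i)⁻¹ * r with hr'
  have hr'O : r' ∈ O := mul_mem (inv_mem (pow_mem ho i)) hr
  have hr'c : r' c = c := by
    rw [hr', MulAut.mul_apply, hi, ← MulAut.mul_apply, inv_mul_cancel, MulAut.one_apply]
  have hr'1 : r' ≠ 1 := fun e => hrn (by
    rw [hr', inv_mul_eq_one] at e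
    exact e ▸ pow_mem (mem_zpowers o) i)
  obtain ⟨-, w, hw⟩ := hmem r' hr'O hr'1
  exact hc0 (by rw [← hw] at hr'c ⊢; exact disp_eq_one_of_fixed h2 (hordd r' hr'O) w hr'c)

section Orders

variable {U : Type*} [Group U] [Finite U]

/-- A maximal Sylow 2-subgroup with trivial core is self-normalising and the centraliser of the
involutions of its centre. -/
theorem eq_of_coatom (hO2 : ∀ N : Subgroup U, N.Normal → IsPGroup 2 N → N = ⊥)
    (P : Sylow 2 U) (hP1 : (P : Subgroup U) ≠ ⊥)
    (hmax : ∀ K : Subgroup U, (P : Subgroup U) < K → K = ⊤) :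
    normalizer ((P : Subgroup U) : Set U) = (P : Subgroup U) ∧ ∀ u ∈ (P : Subgroup U), u ≠ 1 →
      (∀ x ∈ (P : Subgroup U), x * u = u * x) → centralizer ({u} : Set U) = (P : Subgroup U) := by
  refine ⟨?_, fun u hu hu1 hcomm => ?_⟩
  · rcases eq_or_lt_of_le (le_normalizer (H := (P : Subgroup U))) with e | e
    · exact e.symm
    · exact absurd (hO2 _ (normalizer_eq_top_iff.1 (hmax _ e)) P.2) hP1
  · have hPK : (P : Subgroup U) ≤ centralizer ({u} : Set U) := fun x hx =>
      mem_centralizer_singleton_iff.2 (hcomm x hx)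
    rcases eq_or_lt_of_le hPK with e | e
    · exact e.symm
    · refine absurd (hO2 (zpowers u) ?_ (P.2.to_le (zpowers_le.2 hu))) (fun h => hu1 (zpowers_eq_bot.1 h))
      have ht := hmax _ e
      refine ⟨fun n hn g => ?_⟩
      obtain ⟨k, rfl⟩ := hn
      have hg : g * u = u * g := mem_centralizer_singleton_iff.1 (ht ▸ mem_top g)
      refine ⟨k, ?_⟩
      rw [(Commute.zpow_right hg k).eq, mul_inv_cancel_right]

/-- A core-free Sylow 2-subgroup of index dividing three gives a group of order six. -/
theorem card_eq_six_of_index (hO2 : ∀ N : Subgroup U, N.Normal → IsPGroup 2 N → N = ⊥)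
    (hev : 2 ∣ Nat.card U) (h24 : Nat.card U ∣ 24) : Nat.card U = 6 := by
  classical
  haveI : Fact (Nat.Prime 2) := ⟨Nat.prime_two⟩
  obtain ⟨P⟩ : Nonempty (Sylow 2 U) := inferInstance
  obtain ⟨k, hk⟩ := P.2.exists_card_eq
  have hcop : (P : Subgroup U).index ∣ 3 := by
    have h1 : (P : Subgroup U).index ∣ 24 := ((P : Subgroup U).index_dvd_card).trans h24
    have h2 : Nat.Coprime (P : Subgroup U).index (2 ^ 3) :=
      (Nat.prime_two.coprime_iff_not_dvd.2 P.not_dvd_index).symm.pow_right 3
    exact h2.dvd_of_dvd_mul_left (show (P : Subgroup U).index ∣ 2 ^ 3 * 3 by simpa using h1)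
  have hcore := hO2 _ (Subgroup.normalCore_normal _) (P.2.to_le (Subgroup.normalCore_le _))
  rw [Subgroup.normalCore_eq_ker, MonoidHom.ker_eq_bot_iff] at hcore
  have hd := Subgroup.card_dvd_of_injective _ hcore
  rw [Nat.card_perm, ← Subgroup.index_eq_card] at hd
  rcases (Nat.dvd_prime Nat.prime_three).1 hcop with e | e
  · rw [e] at hd
    have := Nat.le_of_dvd (by norm_num) hd
    obtain ⟨m, hm⟩ := hev
    have hpos := Nat.card_pos (α := U)
    simp [Nat.factorial] at hd
    omega
  · rw [e] at hd
    have h3 : 3 ∣ Nat.card U := e ▸ (P : Subgroup U).index_dvd_card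
    have h6 : 2 * 3 ∣ Nat.card U := Nat.Coprime.mul_dvd_of_dvd_of_dvd (by norm_num) hev h3
    exact Nat.dvd_antisymm (by simpa [Nat.factorial] using hd) h6

/-- An abelian self-normalising Sylow 2-subgroup, which is the centraliser of each of its involutions,
has a normal complement inverted by each of them. -/
theorem exists_inverted_complement (P : Sylow 2 U) (hP : IsMulCommutative ↥(P : Subgroup U))
    (hN : normalizer ((P : Subgroup U) : Set U) = (P : Subgroup U))
    (hC : ∀ u ∈ (P : Subgroup U), u ≠ 1 → u * u = 1 → centralizer ({u} : Set U) = (P : Subgroup U)) :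
    ∃ O : Subgroup U, O.Normal ∧ Odd (Nat.card O) ∧ Nat.card U = Nat.card O * Nat.card (P : Subgroup U) ∧
      ∀ u ∈ (P : Subgroup U), u ≠ 1 → u * u = 1 → ∀ o ∈ O, u * o * u = o⁻¹ := by
  classical
  haveI : Fact (Nat.Prime 2) := ⟨Nat.prime_two⟩
  have hcomm : ∀ a ∈ (P : Subgroup U), ∀ b ∈ (P : Subgroup U), a * b = b * a := fun a ha b hb =>
    congrArg Subtype.val (hP.is_comm.comm ⟨a, ha⟩ ⟨b, hb⟩)
  have hle : normalizer ((P : Subgroup U) : Set U) ≤ centralizer ((P : Subgroup U) : Set U) := by
    rw [hN]; exact fun x hx => mem_centralizer_iff.2 fun y hy => hcomm y hy x hx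
  set O := (MonoidHom.transferSylow P hle).ker
  have hO : O.Normal := MonoidHom.normal_ker _
  have hcompl := MonoidHom.ker_transferSylow_isComplement' P hle
  have hodd : Odd (Nat.card O) := Nat.odd_iff.2 (Nat.two_dvd_ne_zero.1
    (MonoidHom.not_dvd_card_ker_transferSylow P hle))
  refine ⟨O, hO, hodd, hcompl.card_mul.symm, fun u hu hu1 hu2 => ?_⟩
  have hK := hC u hu hu1 hu2
  -- so conjugation by `u` is fixed-point-free on `O`
  let σ : ↥O →* ↥O :=
    { toFun := fun o => ⟨u * o * u⁻¹, hO.conj_mem o o.2 u⟩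
      map_one' := Subtype.ext (by simp)
      map_mul' := fun a b => Subtype.ext (by simp [mul_assoc]) }
  have hui : u⁻¹ = u := inv_eq_of_mul_eq_one_right hu2
  have hfix : MonoidHom.FixedPointFree σ := fun o ho => by
    have h1 : u * (o : U) * u⁻¹ = o := congrArg Subtype.val ho
    have h2 : (o : U) ∈ centralizer ({u} : Set U) :=
      mem_centralizer_singleton_iff.2 ((mul_inv_eq_iff_eq_mul.1 h1).symm)
    rw [hK] at h2
    exact Subtype.ext (Subgroup.mem_bot.1 (hcompl.disjoint.le_bot ⟨o.2, h2⟩))
  have hinvol : Function.Involutive σ := fun o => Subtype.ext (show u * (u * (o : U) * u⁻¹) * u⁻¹ = o by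
    rw [hui, show u * (u * (o : U) * u) * u = (u * u) * o * (u * u) by group, hu2, one_mul, mul_one])
  intro o ho
  have := congrArg Subtype.val (congrFun (hfix.coe_eq_inv_of_involutive hinvol) ⟨o, ho⟩)
  simpa [σ, hui] using this

end Orders

/-- Small automorphism groups with trivial 2-core and no long chain have order six. -/
theorem card_eq_six_of_small [Finite V] (h2 : ∀ v : V, v * v = 1) (hV : Nat.card V ≤ 8)
    (U : Subgroup (MulAut V)) (hO2 : ∀ N : Subgroup ↥U, N.Normal → IsPGroup 2 N → N = ⊥)
    (hev : 2 ∣ Nat.card U) (hlong : ¬ Long (⊤ : Subgroup ↥U) 5) : Nat.card U = 6 := by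
  classical
  haveI : Fact (Nat.Prime 2) := ⟨Nat.prime_two⟩
  haveI : Fact (Nat.Prime 7) := ⟨by norm_num⟩
  -- the order divides `168`
  have h168 : Nat.card U ∣ 168 := by
    obtain ⟨d, L, M, hd, -, -, hM⟩ := InvolChar.A8Section.exists_linear_model (V := V) fun v => by rw [sq, h2]
    have hc : Nat.card U ∣ Nat.card (GL (Fin d) (ZMod 2)) :=
      (Subgroup.card_subgroup_dvd_card U).trans (Subgroup.card_dvd_of_injective M hM)
    rw [Matrix.card_GL_field, ZMod.card] at hc
    have hd3 : d ≤ 3 := by
      by_contra h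
      have := Nat.pow_le_pow_right (show 2 > 0 by norm_num) (show 4 ≤ d by omega)
      omega
    interval_cases d <;> simp [Fin.prod_univ_succ] at hc <;> first | exact hc | exact hc.trans (by norm_num) | simp [hc]
  by_cases h7 : 7 ∣ Nat.card U
  swap
  · exact card_eq_six_of_index hO2 hev
      ((((show Nat.Prime 7 by norm_num).coprime_iff_not_dvd.2 h7).symm).dvd_of_dvd_mul_right (show Nat.card U ∣ 24 * 7 from h168))
  exfalso
  obtain ⟨g, hg⟩ := exists_prime_orderOf_dvd_card' 7 h7
  have hgV : orderOf (g : MulAut V) = 7 := (orderOf_coe g).trans hg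
  have hgp : ∀ (v : V) (j : ℕ), ((g : MulAut V) ^ (7 * j)) v = v := fun v j => by
    rw [pow_mul, show (g : MulAut V) ^ 7 = 1 by rw [← hgV, pow_orderOf_eq_one], one_pow, MulAut.one_apply]
  -- powers of `g` fixing a point moved by `g` are trivial
  have hfree : ∀ v : V, (g : MulAut V) v ≠ v → ∀ j : ℕ, ((g : MulAut V) ^ j) v = v → 7 ∣ j := by
    intro v hv j hj
    by_contra hd
    obtain ⟨a, ha⟩ := Nat.exists_mul_mod_eq_one_of_coprime
      ((show Nat.Prime 7 by norm_num).coprime_iff_not_dvd.2 hd).symm (by norm_num)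
    have hja : ∀ a : ℕ, ((g : MulAut V) ^ (j * a)) v = v := fun a => by
      induction a with
      | zero => simp
      | succ a ih => rw [Nat.mul_succ, pow_add, MulAut.mul_apply, hj, ih]
    have e : (g : MulAut V) ^ (j * a) = g := by
      rw [← pow_mod_orderOf, hgV, ha.2, pow_one]
    exact hv (by simpa [e] using hja a)
  obtain ⟨v0, hv0⟩ : ∃ v0, (g : MulAut V) v0 ≠ v0 := by
    by_contra hno
    push Not at hno
    have : (g : MulAut V) = 1 := MulEquiv.ext fun v => hno v
    rw [this, orderOf_one] at hgV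
    omega
  have hv01 : v0 ≠ 1 := fun e => hv0 (by rw [e, map_one])
  let ι : Fin 7 → {v : V // v ≠ 1} := fun i => ⟨((g : MulAut V) ^ (i : ℕ)) v0,
    fun e => hv01 (((g : MulAut V) ^ (i : ℕ)).injective (e.trans (map_one _).symm))⟩
  have hι : Function.Injective ι := by
    intro a b hab
    have e : ((g : MulAut V) ^ (a : ℕ)) v0 = ((g : MulAut V) ^ (b : ℕ)) v0 := congrArg Subtype.val hab
    rcases le_total (a : ℕ) b with h | h
    · have h1 := hfree v0 hv0 (b - a) (((g : MulAut V) ^ (a : ℕ)).injective (by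
        rw [← MulAut.mul_apply, ← pow_add, Nat.add_sub_cancel' h]; exact e.symm))
      exact Fin.ext (by omega)
    · have h1 := hfree v0 hv0 (a - b) (((g : MulAut V) ^ (b : ℕ)).injective (by
        rw [← MulAut.mul_apply, ← pow_add, Nat.add_sub_cancel' h]; exact e))
      exact Fin.ext (by omega)
  have hne1 : Nat.card {v : V // v ≠ 1} + 1 = Nat.card V := by
    have : Fintype V := Fintype.ofFinite V
    rw [Nat.card_eq_fintype_card, Nat.card_eq_fintype_card, Fintype.card_subtype_compl,
      Fintype.card_subtype_eq]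
    have := Fintype.card_pos (α := V)
    omega
  have h7V := Nat.card_le_card_of_injective ι hι
  rw [Nat.card_eq_fintype_card, Fintype.card_fin] at h7V
  have hV8 : Nat.card V = 8 := by omega
  have htrans : ∀ w : V, w ≠ 1 → ∃ i : ℕ, ((g : MulAut V) ^ i) v0 = w := by
    intro w hw
    have hb : Function.Bijective ι := hι.bijective_of_nat_card_le (by
      rw [Nat.card_eq_fintype_card (α := Fin 7), Fintype.card_fin]; omega)
    obtain ⟨i, hi⟩ := hb.2 ⟨w, hw⟩
    exact ⟨i, congrArg Subtype.val hi⟩
  obtain ⟨P⟩ : Nonempty (Sylow 7 ↥U) := inferInstance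
  have hP7 : Nat.card (P : Subgroup ↥U) = 7 := by
    obtain ⟨k, hk⟩ := P.2.exists_card_eq
    have h1 : 7 ^ k ∣ 168 := hk ▸ (Subgroup.card_subgroup_dvd_card _).trans h168
    have h2 := P.dvd_card_of_dvd_card h7
    rcases k with _ | _ | k
    · simp [hk] at h2
    · simpa using hk
    · exact absurd ((pow_dvd_pow 7 (show 2 ≤ k + 2 by omega)).trans h1) (by norm_num)
  have hidx : (P : Subgroup ↥U).index ∣ 24 := by
    have h1 := (P : Subgroup ↥U).card_mul_index
    rw [hP7] at h1
    exact (Nat.mul_dvd_mul_iff_left (show 0 < 7 by norm_num)).1 (h1 ▸ h168)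
  obtain ⟨t, ht⟩ := exists_prime_orderOf_dvd_card' 2 hev
  have hn7 : Nat.card (Sylow 7 ↥U) = 1 ∨ Nat.card (Sylow 7 ↥U) = 8 := by
    have h1 := card_sylow_modEq_one 7 ↥U
    have h2 : Nat.card (Sylow 7 ↥U) ∣ 24 := P.card_dvd_index.trans hidx
    have h3 := Nat.le_of_dvd (by norm_num) h2
    unfold Nat.ModEq at h1
    interval_cases h : Nat.card (Sylow 7 ↥U) <;> simp_all (config := { decide := true })
  rcases hn7 with hn | hn
  · haveI : Subsingleton (Sylow 7 ↥U) := (Nat.card_eq_one_iff_unique.1 hn).1
    have hPn : (P : Subgroup ↥U).Normal := P.normal_of_subsingleton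
    have hgP : g ∈ (P : Subgroup ↥U) := by
      obtain ⟨Q, hQ⟩ := (IsPGroup.of_card (p := 7) (n := 1) (G := zpowers g)
        (by rw [Nat.card_zpowers, hg, pow_one])).exists_le_sylow
      rw [Subsingleton.elim P Q]; exact hQ (mem_zpowers g)
    have hPz : (P : Subgroup ↥U) = zpowers g := (eq_of_le_of_card_ge (zpowers_le.2 hgP)
      (by rw [hP7, Nat.card_zpowers, hg])).symm
    obtain ⟨i, hi⟩ : ∃ i : ℕ, g ^ i = t * g * t⁻¹ := by
      have h := hPn.conj_mem g hgP t
      rw [hPz, ← mem_powers_iff_mem_zpowers] at h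
      exact h
    set τ := (t : MulAut V) with hτ
    have hτ2 : τ * τ = 1 := by
      rw [hτ, ← Subgroup.coe_mul, ← sq, ← ht, pow_orderOf_eq_one]; rfl
    have hτ1 : τ ≠ 1 := fun e => by
      have : t = 1 := Subtype.ext e
      rw [this, orderOf_one] at ht; omega
    have hi' : (g : MulAut V) ^ i = τ * g * τ⁻¹ := by
      rw [hτ, ← Subgroup.coe_pow, hi]; rfl
    have hrel : ∀ j w, τ (((g : MulAut V) ^ j) w) = ((g : MulAut V) ^ (i * j)) (τ w) := fun j w => by
      rw [pow_mul, hi', conj_pow]; simp [MulAut.mul_apply]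
    let dh : V →* V := MonoidHom.mk' (disp τ) (disp_mul h2 τ)
    have hfixd : ∀ v, τ (disp τ v) = disp τ v := fun v => by
      rw [disp, map_mul, ← MulAut.mul_apply, hτ2, MulAut.one_apply, comm_of_exp_two h2]
    have hkfix : ∀ v ∈ dh.ker, τ v = v := fun v hv => by
      rw [apply_eq h2 τ v, show disp τ v = 1 from hv, mul_one]
    have hrk : dh.range ≤ dh.ker := by
      rintro _ ⟨v, rfl⟩
      show disp τ (disp τ v) = 1
      rw [disp, hfixd, h2]
    have hc := dh.ker.card_mul_index
    rw [Subgroup.index_ker, hV8] at hc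
    have h3 : 3 ≤ Nat.card dh.ker := by
      have := card_le_of_le hrk
      by_contra hlt
      have : Nat.card dh.ker * Nat.card dh.range ≤ 2 * 2 := Nat.mul_le_mul (by omega) (by omega)
      omega
    haveI : Nontrivial dh.ker := Finite.one_lt_card_iff_nontrivial.1 (by omega)
    obtain ⟨⟨f, hf⟩, hf1⟩ := exists_ne (1 : dh.ker)
    obtain ⟨⟨f', hf'⟩, hf'1, hf'2⟩ : ∃ a : dh.ker, a ≠ 1 ∧ a ≠ ⟨f, hf⟩ := by
      by_contra hno
      push Not at hno
      have : Nat.card dh.ker ≤ 2 := by
        have hsub : (Set.univ : Set dh.ker) ⊆ {1, ⟨f, hf⟩} := fun a _ => by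
          by_cases ha : a = 1
          · exact Or.inl ha
          · exact Or.inr (hno a ha)
        have := Set.ncard_le_ncard hsub (Set.toFinite _)
        rw [Set.ncard_univ] at this
        exact this.trans ((Set.ncard_insert_le _ _).trans (by simp))
      omega
    have hf1' : f ≠ 1 := fun e => hf1 (Subtype.ext e)
    obtain ⟨a, ha⟩ := htrans f hf1'
    obtain ⟨b, hb⟩ := htrans f' (fun e => hf'1 (Subtype.ext e))
    -- `g ^ (b - a)` is sent to itself
    set j := b + 6 * a with hj
    have hjf : ((g : MulAut V) ^ j) f = f' := by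
      rw [← ha, ← MulAut.mul_apply, ← pow_add, show j + a = b + 7 * a by omega, pow_add, MulAut.mul_apply,
        hgp, hb]
    have e1 := hrel j f
    rw [hjf, hkfix f' hf', hkfix f hf, ← hjf] at e1
    have hgf : (g : MulAut V) f ≠ f := fun e => hv0 (by
      have e' : ((g : MulAut V) ^ a) ((g : MulAut V) v0) = ((g : MulAut V) ^ a) v0 := by
        rw [← MulAut.mul_apply, ← pow_succ, pow_succ', MulAut.mul_apply, ha, e]
      exact ((g : MulAut V) ^ a).injective e')
    have hj0 : ¬ 7 ∣ j := fun ⟨c, hc⟩ => hf'2 (Subtype.ext (show f' = f by rw [← hjf, hc, hgp]))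
    have hi1 : (i + 6) % 7 = 0 := by
      have h := hfree f hgf (i * j + 6 * j) (by
        rw [show i * j + 6 * j = 6 * j + i * j by ring, pow_add, MulAut.mul_apply, ← e1, ← MulAut.mul_apply,
          ← pow_add, show 6 * j + j = 7 * j by ring, hgp])
      rw [← add_mul] at h
      rcases (Nat.Prime.dvd_mul (by norm_num)).1 h with r | r
      · omega
      · exact absurd r hj0
    have hcomm : ∀ j, ((g : MulAut V) ^ (i * j)) = (g : MulAut V) ^ j := fun j => by
      rw [← pow_mod_orderOf, hgV, ← pow_mod_orderOf (x := (g : MulAut V)) (n := j), hgV,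
        Nat.mul_mod, show i % 7 = 1 by omega, one_mul, Nat.mod_mod]
    refine hτ1 (MulEquiv.ext fun w => ?_)
    rw [MulAut.one_apply]
    by_cases hw : w = 1
    · rw [hw, map_one]
    obtain ⟨c, hc⟩ := htrans w hw
    rw [← ha] at hf
    have e2 : τ v0 = v0 := by
      have := hkfix _ hf
      rw [hrel, hcomm] at this
      exact ((g : MulAut V) ^ a).injective this
    rw [← hc, hrel, hcomm, e2]
  · have hN : (normalizer ((P : Subgroup ↥U) : Set ↥U)).index = 8 := hn ▸ P.card_eq_index_normalizer.symm
    have hle : (P : Subgroup ↥U) ≤ normalizer ((P : Subgroup ↥U) : Set ↥U) := le_normalizer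
    have hUc := (normalizer ((P : Subgroup ↥U) : Set ↥U)).card_mul_index
    rw [hN] at hUc
    obtain ⟨m, hm⟩ := hP7 ▸ card_dvd_of_le hle
    have hm3 : m ∣ 3 := by
      have h1 : 56 * m ∣ 56 * 3 := by rw [show 56 * m = 7 * m * 8 by ring, ← hm, hUc]; simpa using h168
      exact (Nat.mul_dvd_mul_iff_left (by norm_num)).1 h1
    rcases (Nat.dvd_prime Nat.prime_three).1 hm3 with rfl | rfl
    · -- order 56: the Sylow 7-subgroup has a normal complement, a 2-group
      have hNP : normalizer ((P : Subgroup ↥U) : Set ↥U) = (P : Subgroup ↥U) :=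
        (eq_of_le_of_card_ge hle (by omega)).symm
      haveI : IsCyclic (P : Subgroup ↥U) := isCyclic_of_prime_card hP7
      have hle' : normalizer ((P : Subgroup ↥U) : Set ↥U) ≤ centralizer ((P : Subgroup ↥U) : Set ↥U) := by
        rw [hNP]; exact fun x hx => mem_centralizer_iff.2 fun y hy =>
          congrArg Subtype.val ((IsCyclic.commGroup (α := (P : Subgroup ↥U))).mul_comm ⟨y, hy⟩ ⟨x, hx⟩)
      have hcompl := MonoidHom.ker_transferSylow_isComplement' P hle'
      have hc8 : Nat.card (MonoidHom.transferSylow P hle').ker = 2 ^ 3 := by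
        have h := hcompl.card_mul
        rw [hP7] at h
        omega
      have := hO2 _ (MonoidHom.normal_ker _) (IsPGroup.of_card hc8)
      rw [this, card_bot] at hc8
      norm_num at hc8
    · -- order 168: a point stabiliser of order 24 has a maximal chain of length four
      let H : Subgroup ↥U :=
        { carrier := {x | (x : MulAut V) v0 = v0}
          one_mem' := rfl
          mul_mem' := fun {a b} (ha : (a : MulAut V) v0 = v0) (hb : (b : MulAut V) v0 = v0) => by
            show ((a : MulAut V) * b) v0 = v0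
            rw [MulAut.mul_apply, hb, ha]
          inv_mem' := fun {a} (ha : (a : MulAut V) v0 = v0) => by
            show (a : MulAut V)⁻¹ v0 = v0
            conv_lhs => rw [← ha]
            exact MulEquiv.symm_apply_apply _ _ }
      have hH7 : H.index = 7 := by
        let f : (↥U ⧸ H) → {v : V // v ≠ 1} := Quotient.lift
          (fun x => (⟨(x : MulAut V) v0, fun e => hv01 ((x : MulAut V).injective (e.trans (map_one _).symm))⟩ :
            {v : V // v ≠ 1}))
          fun x y hxy => Subtype.ext (by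
            have h := QuotientGroup.leftRel_apply.1 hxy
            have h' : ((x : MulAut V)⁻¹ * (y : MulAut V)) v0 = v0 := h
            have := congrArg (x : MulAut V) h'
            rw [← MulAut.mul_apply, mul_inv_cancel_left] at this
            exact this.symm)
        have hf : Function.Injective f := by
          intro x y
          induction x using QuotientGroup.induction_on with | _ x =>
          induction y using QuotientGroup.induction_on with | _ y =>
          intro e
          have e' : (x : MulAut V) v0 = (y : MulAut V) v0 := congrArg Subtype.val e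
          refine QuotientGroup.eq.2 (show ((x : MulAut V)⁻¹ * (y : MulAut V)) v0 = v0 from ?_)
          rw [MulAut.mul_apply, ← e']
          exact MulEquiv.symm_apply_apply _ _
        have hsur : Function.Surjective f := fun w => by
          obtain ⟨i, hi⟩ := htrans w.1 w.2
          exact ⟨QuotientGroup.mk (g ^ i), Subtype.ext hi⟩
        have := Nat.card_eq_of_bijective f ⟨hf, hsur⟩
        rw [← Subgroup.index_eq_card] at this
        omega
      have hH24 : 24 ≤ Nat.card H := by
        have h := H.card_mul_index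
        rw [hH7] at h
        omega
      have hHlt : H < ⊤ := lt_top_iff_ne_top.2 fun e => by
        obtain ⟨w, hw⟩ : ∃ w : V, w ≠ 1 ∧ w ≠ v0 := by
          by_contra hno
          push Not at hno
          have : Nat.card {v : V // v ≠ 1} ≤ 1 := Finite.card_le_one_iff_subsingleton.2
            ⟨fun a b => Subtype.ext ((hno a a.2).trans (hno b b.2).symm)⟩
          omega
        obtain ⟨i, hi⟩ := htrans w hw.1
        exact hw.2 (hi.symm.trans (show (g ^ i : ↥U) ∈ H from e.symm ▸ mem_top (g ^ i)))
      obtain ⟨Q, hQ⟩ : ∃ Q : Subgroup ↥U, Q < H ∧ Nat.card Q = 2 ^ 3 := by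
        have hH : Nat.card H ∣ 168 := (Subgroup.card_subgroup_dvd_card H).trans h168
        have hHt : Nat.card H < Nat.card ↥U := by
          rw [← card_top (G := ↥U)]; exact lt_of_le_of_ne (card_le_of_le le_top) fun e =>
            hHlt.ne (eq_of_le_of_card_ge le_top e.ge)
        have h8 : 8 ∣ Nat.card H := by
          have h := H.card_mul_index
          rw [hH7] at h
          exact ⟨3, by omega⟩
        obtain ⟨Q0, hQ0⟩ := Sylow.exists_subgroup_card_pow_prime 2 (G := ↥H) (n := 3) h8
        refine ⟨Q0.map H.subtype, lt_of_le_of_ne (map_subtype_le _) fun e => ?_, ?_⟩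
        · have := congrArg (fun K : Subgroup ↥U => Nat.card K) e
          simp only [card_map_of_injective H.subtype_injective, hQ0] at this
          omega
        · rw [card_map_of_injective H.subtype_injective, hQ0]
      exact hlong (Long.step hHlt (Long.step hQ.1 (long_of_card hQ.2)))

end CfsgLib.LengthEight
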